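import Groth.Agent.H8Props.FunDescent.Stalk

/-!
# Modules killed by the ideal of a closed immersion; the counit of its adjunction
-/

set_option autoImplicit false
set_option linter.style.haveILetI false
universe u
open CategoryTheory CategoryTheory.Limits AlgebraicGeometry TensorProduct
attribute [local instance] Groth.Agent.H06Mod.stalkAlgebra

namespace Groth.Agent.H24Hilb.Closed

theorem isIso_of_stalk {X : Scheme.{u}} {M N : X.Modules} (φ : M ⟶ N)
    (h : ∀ x, IsIso ((TopCat.Presheaf.stalkFunctor Ab.{u} x).map φ.mapPresheaf)) : IsIso φ :=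
  (H8Props.FunDescent.isIso_iff φ).2 fun x => by
    haveI := h x
    exact ConcreteCategory.bijective_of_isIso ((TopCat.Presheaf.stalkFunctor Ab.{u} x).map φ.mapPresheaf)

variable {X Y : Scheme.{u}} (f : X ⟶ Y)

/-- Direct image of modules. -/
noncomputable abbrev push : X.Modules ⥤ Y.Modules := Scheme.Modules.pushforward f

/-- Inverse image of modules. -/
noncomputable abbrev pull : Y.Modules ⥤ X.Modules := Scheme.Modules.pullback f

/-- Their adjunction. -/
noncomputable abbrev adj : pull f ⊣ push f := Scheme.Modules.pullbackPushforwardAdjunction f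

/-- The stalk of a direct image at `f x` maps to the stalk at `x`. -/
noncomputable def pushStalk (G : X.Modules) (x : X) :
    ((push f).obj G).presheaf.stalk (f.base x) →+ G.presheaf.stalk x :=
  (G.presheaf.stalkPushforward Ab.{u} f.base x).hom

theorem pushStalk_germ (G : X.Modules) (x : X) (U : Y.Opens) (h : f.base x ∈ U)
    (σ : Γ((push f).obj G, U)) :
    pushStalk f G x (((push f).obj G).presheaf.germ U (f.base x) h σ) =
      G.presheaf.germ (f ⁻¹ᵁ U) x h σ :=
  congr($(TopCat.Presheaf.stalkPushforward_germ Ab f.base G.presheaf U x h) σ)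

theorem pushStalk_bijective [IsClosedImmersion f] (G : X.Modules) (x : X) :
    Function.Bijective (pushStalk f G x) := by
  haveI : IsIso (G.presheaf.stalkPushforward Ab.{u} f.base x) :=
    TopCat.Presheaf.stalkPushforward.stalkPushforward_iso_of_isInducing Ab
      f.isClosedEmbedding.isInducing G.presheaf x
  exact ConcreteCategory.bijective_of_isIso (G.presheaf.stalkPushforward Ab.{u} f.base x)

theorem pushStalk_smul (G : X.Modules) (x : X) (r : Y.presheaf.stalk (f.base x))
    (σ : ((push f).obj G).presheaf.stalk (f.base x)) :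
    pushStalk f G x (r • σ) = (f.stalkMap x).hom r • pushStalk f G x σ := by
  obtain ⟨U, hU, r, σ, rfl, rfl⟩ := H06Mod.exists_germ_pair _ (f.base x) r σ
  rw [← H06Mod.germ_smul, pushStalk_germ, pushStalk_germ]
  refine Eq.trans ?_ (congrArg (· • G.presheaf.germ (f ⁻¹ᵁ U) x hU σ)
    (Scheme.Hom.germ_stalkMap_apply f U x hU r).symm)
  exact H06Mod.germ_smul G (f ⁻¹ᵁ U) (x := x) hU (f.app U r) σ

theorem pushStalk_naturality {G G' : X.Modules} (φ : G ⟶ G') (x : X)
    (σ : ((push f).obj G).presheaf.stalk (f.base x)) :
    pushStalk f G' x ((TopCat.Presheaf.stalkFunctor Ab.{u} (f.base x)).map ((push f).map φ).mapPresheaf σ) =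
      (TopCat.Presheaf.stalkFunctor Ab.{u} x).map φ.mapPresheaf (pushStalk f G x σ) := by
  obtain ⟨U, hU, σ, rfl⟩ := ((push f).obj G).presheaf.exists_germ_eq σ
  rw [TopCat.Presheaf.stalkFunctor_map_germ_apply, pushStalk_germ, pushStalk_germ,
    TopCat.Presheaf.stalkFunctor_map_germ_apply]
  rfl

theorem pushStalk_unit (F : Y.Modules) (x : X) (a : F.presheaf.stalk (f.base x)) :
    pushStalk f _ x ((TopCat.Presheaf.stalkFunctor Ab.{u} (f.base x)).map
      ((adj f).unit.app F).mapPresheaf a) = H06Mod.pullStalk f F x a := by
  obtain ⟨U, hU, a, rfl⟩ := F.presheaf.exists_germ_eq a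
  refine (congrArg (pushStalk f _ x) (TopCat.Presheaf.stalkFunctor_map_germ_apply (C := Ab.{u}) U (f.base x) hU
    ((adj f).unit.app F).mapPresheaf a)).trans ?_
  exact (pushStalk_germ f _ x U hU _).trans (H06Mod.pullStalk_germ f F x U hU a).symm

/-- Direct images under closed immersions have no stalks off the image. -/
theorem subsingleton_stalk_push [IsClosedImmersion f] (G : X.Modules) (y : Y)
    (hy : y ∉ Set.range f.base) : Subsingleton (((push f).obj G).presheaf.stalk y) := by
  refine subsingleton_of_forall_eq 0 fun a => ?_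
  obtain ⟨U, hU, a, rfl⟩ := ((push f).obj G).presheaf.exists_germ_eq a
  let W : Y.Opens := U ⊓ ⟨(Set.range f.base)ᶜ, f.isClosedEmbedding.isClosed_range.isOpen_compl⟩
  have hW : f ⁻¹ᵁ W = ⊥ :=
    TopologicalSpace.Opens.ext (Set.eq_empty_iff_forall_notMem.2 fun z hz => hz.2 ⟨z, rfl⟩)
  haveI : Subsingleton Γ(X, f ⁻¹ᵁ W) := by rw [hW]; infer_instance
  haveI h2 : Subsingleton Γ(G, f ⁻¹ᵁ W) := Module.subsingleton Γ(X, f ⁻¹ᵁ W) _
  have h3 : Subsingleton Γ((push f).obj G, W) := h2
  rw [← TopCat.Presheaf.germ_res_apply _ (homOfLE (inf_le_left : W ≤ U)) y ⟨hU, hy⟩,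
    Subsingleton.elim (((push f).obj G).presheaf.map (homOfLE (inf_le_left : W ≤ U)).op a) 0, map_zero]

/-- A module killed by the ideal of a closed immersion, on stalks. -/
structure Killed (F : Y.Modules) : Prop where
  /-- Killed by the kernel of `O_{fx} → O_x`. -/
  smul_eq_zero : ∀ (x : X) (r : Y.presheaf.stalk (f.base x)), (f.stalkMap x).hom r = 0 →
    ∀ a : F.presheaf.stalk (f.base x), r • a = 0
  /-- No stalks off the image. -/
  subsingleton : ∀ y : Y, y ∉ Set.range f.base → Subsingleton (F.presheaf.stalk y)

theorem killed_push [IsClosedImmersion f] (G : X.Modules) : Killed f ((push f).obj G) := by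
  refine ⟨fun x r hr a => (pushStalk_bijective f G x).1 ?_, fun y hy => subsingleton_stalk_push f G y hy⟩
  rw [pushStalk_smul, hr, zero_smul, map_zero]

theorem pullStalk_bijective_of_killed [IsClosedImmersion f] {F : Y.Modules} (hF : Killed f F) (x : X) :
    Function.Bijective (H06Mod.pullStalk f F x) := by
  have hsurj : Function.Surjective (f.stalkMap x).hom := f.stalkMap_surjective x
  let A := Y.presheaf.stalk (f.base x)
  let B := X.presheaf.stalk x
  let M := F.presheaf.stalk (f.base x)
  have h : Function.Bijective (fun m : M => (1 : B) ⊗ₜ[A] m) := by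
    constructor
    · intro a b hab
      let g := Function.surjInv hsurj
      have hg : ∀ b, (f.stalkMap x).hom (g b) = b := Function.surjInv_eq hsurj
      have key : ∀ r s : A, (f.stalkMap x).hom r = (f.stalkMap x).hom s → ∀ m : M, r • m = s • m :=
        fun r s hrs m => sub_eq_zero.1 (by
          rw [← sub_smul]
          exact hF.smul_eq_zero x _ (by rw [map_sub, hrs, sub_self]) m)
      let back : B ⊗[A] M →ₗ[A] M := TensorProduct.lift
        { toFun := fun b =>
            { toFun := fun m => g b • m
              map_add' := fun _ _ => smul_add _ _ _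
              map_smul' := fun s m => by rw [RingHom.id_apply, smul_comm] }
          map_add' := fun b c => LinearMap.ext fun m => by
            show g (b + c) • m = g b • m + g c • m
            rw [← add_smul]
            exact key _ _ (by rw [map_add, hg, hg, hg]) m
          map_smul' := fun s b => LinearMap.ext fun m => by
            show g (s • b) • m = s • g b • m
            rw [smul_smul]
            exact key _ _ (by rw [map_mul, hg, hg, Algebra.smul_def]; rfl) m }
      have hb : ∀ m : M, back ((1 : B) ⊗ₜ[A] m) = m := fun m => by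
        show g 1 • m = m
        exact (key _ 1 (by rw [hg, map_one]) m).trans (one_smul A m)
      rw [← hb a, ← hb b]
      exact congrArg back hab
    · intro t
      induction t using TensorProduct.induction_on with
      | zero => exact ⟨0, TensorProduct.tmul_zero _ _⟩
      | add a b ha hb =>
        obtain ⟨m, rfl⟩ := ha
        obtain ⟨n, rfl⟩ := hb
        exact ⟨m + n, TensorProduct.tmul_add _ _ _⟩
      | tmul r m =>
        obtain ⟨s, rfl⟩ := hsurj r
        refine ⟨s • m, ?_⟩
        show (1 : B) ⊗ₜ[A] (s • m) = _
        rw [TensorProduct.tmul_smul, TensorProduct.smul_tmul', Algebra.smul_def, mul_one]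
        rfl
  have h2 : H06Mod.pullStalk f F x = H06Mod.pullStalkEquiv f F x ∘ fun m : M => (1 : B) ⊗ₜ[A] m := by
    funext m
    exact ((H06Mod.pullStalkLin_tmul f F x 1 m).trans (one_smul _ _)).symm
  rw [h2]
  exact (H06Mod.pullStalkEquiv f F x).bijective.comp h

theorem isIso_unit_of_killed [IsClosedImmersion f] {F : Y.Modules} (hF : Killed f F) :
    IsIso ((adj f).unit.app F) := by
  refine isIso_of_stalk _ fun y => (ConcreteCategory.isIso_iff_bijective _).2 ?_
  show Function.Bijective ((TopCat.Presheaf.stalkFunctor Ab.{u} y).map ((adj f).unit.app F).mapPresheaf)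
  by_cases hy : y ∈ Set.range f.base
  · obtain ⟨x, rfl⟩ := hy
    refine ((pushStalk_bijective f _ x).of_comp_iff' _).1 ?_
    convert! pullStalk_bijective_of_killed f hF x using 1
    funext a
    exact pushStalk_unit f F x a
  · haveI := hF.subsingleton y hy
    haveI := subsingleton_stalk_push f ((pull f).obj F) y hy
    exact ⟨fun (a b : F.presheaf.stalk y) _ => Subsingleton.elim a b,
      fun (b : ((push f).obj ((pull f).obj F)).presheaf.stalk y) =>
        ⟨(0 : F.presheaf.stalk y), Subsingleton.elim _ b⟩⟩

theorem isIso_counit_of_isClosedImmersion [IsClosedImmersion f] (G : X.Modules) :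
    IsIso ((adj f).counit.app G) := by
  haveI := isIso_unit_of_killed f (killed_push f G)
  haveI : IsIso ((push f).map ((adj f).counit.app G)) :=
    IsIso.of_isIso_fac_left ((adj f).right_triangle_components G)
  refine isIso_of_stalk _ fun x => (ConcreteCategory.isIso_iff_bijective _).2 ?_
  show Function.Bijective ((TopCat.Presheaf.stalkFunctor Ab.{u} x).map ((adj f).counit.app G).mapPresheaf)
  have h : Function.Bijective ((TopCat.Presheaf.stalkFunctor Ab.{u} (f.base x)).map
      ((push f).map ((adj f).counit.app G)).mapPresheaf) :=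
    (H8Props.FunDescent.isIso_iff ((push f).map ((adj f).counit.app G))).1 inferInstance (f.base x)
  refine (Function.Bijective.of_comp_iff _ (pushStalk_bijective f _ x)).1 ?_
  convert! (pushStalk_bijective f G x).comp h using 1
  funext a
  exact (pushStalk_naturality f ((adj f).counit.app G) x a).symm

end Groth.Agent.H24Hilb.Closed
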