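import Groth.Agent.H24Hilb.Torsor

/-!
# The preimage of an embedded deformation and its quotient by the maximal ideal
-/

set_option autoImplicit false
set_option linter.style.haveILetI false
universe u
open CategoryTheory CategoryTheory.Limits AlgebraicGeometry IsLocalRing ArtFun ArtFun.Art

namespace Groth.Agent.H24Hilb

variable {k : Type u} [Field k] {X : Scheme.{u}} {x : X ⟶ specPt k} {I₀ : X.IdealSheafData}
  {B A : Art k k} {p : B ⟶ A} {n : ℕ} {t : Fin n → B}

/-- The kernel of a surjection between flat modules is flat. -/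
theorem flat_ker {R S T : Type u} [CommRing R] [AddCommGroup S] [Module R S] [AddCommGroup T] [Module R T]
    [Module.Flat R S] [Module.Flat R T] (f : S →ₗ[R] T) (hf : Function.Surjective f) :
    Module.Flat R (LinearMap.ker f) := by
  have hl : ∀ (N : Type u) [AddCommGroup N] [Module R N],
      Function.Injective ((LinearMap.ker f).subtype.rTensor N) := by
    intro N _ _
    rw [← LinearMap.lTensor_inj_iff_rTensor_inj]
    let π : (N →₀ R) →ₗ[R] N := Finsupp.linearCombination R id
    have hπ : Function.Surjective π := fun q => ⟨Finsupp.single q 1, by simp [π]⟩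
    exact lTensor_injective_of_exact_of_exact_of_rTensor_injective (R := R)
      (M₁ := ↥(LinearMap.ker π)) (M₂ := N →₀ R) (M₃ := N) (N₁ := ↥(LinearMap.ker f)) (N₂ := S) (N₃ := T)
      (f₁ := (LinearMap.ker π).subtype) (f₂ := π) (g₁ := (LinearMap.ker f).subtype) (g₂ := f)
      π.exact_subtype_ker_map hπ f.exact_subtype_ker_map hf
      (Module.Flat.rTensor_preserves_injective_linearMap _ (LinearMap.ker π).subtype_injective)
      (Module.Flat.lTensor_preserves_injective_linearMap _ (LinearMap.ker f).subtype_injective)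
  refine Module.Flat.iff_lTensor_preserves_injective_linearMap.2 fun N N' _ _ _ _ g hg => ?_
  refine Function.Injective.of_comp (f := (LinearMap.ker f).subtype.rTensor N') ?_
  rw [← LinearMap.coe_comp, LinearMap.rTensor_comp_lTensor, ← LinearMap.lTensor_comp_rTensor, LinearMap.coe_comp]
  exact (Module.Flat.lTensor_preserves_injective_linearMap g hg).comp (hl N)

/-- The trivial deformation of the whole scheme, as an embedded deformation of it. -/
theorem exists_bot (x : X ⟶ specPt k) (B : Art k k) :
    ∃ I : (localHilb X x ⊥).obj B, ∀ U (hU : IsAffineOpen U), idl I hU = ⊥ := by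
  refine exists_of_up B (fun _ _ => ⊥) (fun U hU r => Ideal.map_bot) (fun U hU => ?_) fun U hU => ?_
  · rw [Ideal.map_bot, Scheme.IdealSheafData.ideal_bot]
    rfl
  · letI := (sc x B U).toAlgebra
    haveI : Module.Flat B Γ(XA x B, up x B U) :=
      haveI := flat_XApr x B
      RingHom.flat_algebraMap_iff.mp (H24Def.flat_scalar (XApr x B) (isAffineOpen_up x B hU))
    exact Module.Flat.of_linearEquiv (AlgEquiv.quotientBot B Γ(XA x B, up x B U)).toLinearEquiv

variable (ht : IsKerBasis p t) (hp : Function.Surjective p) (I : (localHilb X x I₀).obj A)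

/-- The preimage ideal of an embedded deformation. -/
noncomputable def pre (p : B ⟶ A) (I : (localHilb X x I₀).obj A) {U : X.Opens} (hU : IsAffineOpen U) :
    Ideal Γ(XA x B, up x B U) :=
  (idl I hU).comap (pm x p U)

include ht

theorem tmul_inj {U : X.Opens} (hU : IsAffineOpen U) {a : Fin n → Γ(X, U)} (h : tmul x t hU a = 0) : a = 0 := by
  obtain ⟨I', hI'⟩ := exists_bot x B
  funext i
  have := (tmul_mem_iff ht hU I' a).1 (by rw [hI', Ideal.mem_bot]; exact h) i
  rwa [Scheme.IdealSheafData.ideal_bot] at this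

include hp

omit ht hp in
theorem res_mem_of_mem_pre {U : X.Opens} (hU : IsAffineOpen U) {q : Γ(XA x B, up x B U)} (hq : q ∈ pre p I hU) :
    res x B U q ∈ I₀.ideal ⟨U, hU⟩ := by
  rw [← res_pm x p, ← idl_res I hU]
  exact Ideal.mem_map_of_mem _ hq

/-- The key consequence of flatness: `tS ∩ mQ = mQ ∩ tQ`. -/
theorem mem_of_tmul_mem_maximal_mul_pre {U : X.Opens} (hU : IsAffineOpen U) {a : Fin n → Γ(X, U)}
    (h : tmul x t hU a ∈ (maximalIdeal B).map (sc x B U) * pre p I hU) (i : Fin n) :
    a i ∈ I₀.ideal ⟨U, hU⟩ := by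
  classical
  let S := Γ(XA x A, up x A U)
  letI := (sc x A U).toAlgebra
  haveI : Module.Flat A S :=
    haveI := flat_XApr x A
    RingHom.flat_algebraMap_iff.mp (H24Def.flat_scalar (XApr x A) (isAffineOpen_up x A hU))
  haveI := idl_flat I hU
  let f : S →ₗ[A] S ⧸ idl I hU := (Ideal.Quotient.mkₐ A (idl I hU)).toLinearMap
  haveI : Module.Flat A (LinearMap.ker f) := flat_ker f Ideal.Quotient.mk_surjective
  obtain ⟨m, c, q, hc, hq, hsum⟩ : ∃ (m : ℕ) (c : Fin m → B) (q : Fin m → Γ(XA x B, up x B U)),
      (∀ j, c j ∈ maximalIdeal B) ∧ (∀ j, q j ∈ pre p I hU) ∧ tmul x t hU a = ∑ j, sc x B U (c j) * q j := by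
    refine Submodule.mul_induction_on (C := fun z => ∃ (m : ℕ) (c : Fin m → B) (q : Fin m → Γ(XA x B, up x B U)),
      (∀ j, c j ∈ maximalIdeal B) ∧ (∀ j, q j ∈ pre p I hU) ∧ z = ∑ j, sc x B U (c j) * q j) h (fun y hy z hz => ?_)
      ?_
    · induction hy using Submodule.span_induction with
      | mem w hw =>
        obtain ⟨b, hb, rfl⟩ := hw
        exact ⟨1, fun _ => b, fun _ => z, fun _ => hb, fun _ => hz, by simp⟩
      | zero => exact ⟨0, Fin.elim0, Fin.elim0, fun j => j.elim0, fun j => j.elim0, by simp⟩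
      | add u v _ _ hu hv =>
        obtain ⟨m, c, q, hc, hq, hu⟩ := hu
        obtain ⟨m', c', q', hc', hq', hv⟩ := hv
        refine ⟨m + m', Fin.append c c', Fin.append q q', fun j => ?_, fun j => ?_, ?_⟩
        · induction j using Fin.addCases <;> simp [hc, hc']
        · induction j using Fin.addCases <;> simp [hq, hq']
        · rw [add_mul, hu, hv, Fin.sum_univ_add]
          simp
      | smul r u _ hu =>
        obtain ⟨m, c, q, hc, hq, hu⟩ := hu
        refine ⟨m, c, fun j => r * q j, hc, fun j => Ideal.mul_mem_left _ _ (hq j), ?_⟩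
        rw [smul_eq_mul, mul_assoc, hu, Finset.mul_sum]
        exact Finset.sum_congr rfl fun j _ => by ring
    · rintro u v ⟨m, c, q, hc, hq, hu⟩ ⟨m', c', q', hc', hq', hv⟩
      refine ⟨m + m', Fin.append c c', Fin.append q q', fun j => ?_, fun j => ?_, ?_⟩
      · induction j using Fin.addCases <;> simp [hc, hc']
      · induction j using Fin.addCases <;> simp [hq, hq']
      · rw [hu, hv, Fin.sum_univ_add]
        simp
  let y : Fin m → LinearMap.ker f := fun j => ⟨pm x p U (q j), Ideal.Quotient.eq_zero_iff_mem.2 (hq j)⟩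
  have hrel : ∑ j, p (c j) • y j = 0 := Subtype.ext (by
    have h0 := congrArg (pm x p U) hsum
    rw [pm_tmul ht, map_sum] at h0
    rw [Submodule.coe_sum, ZeroMemClass.coe_zero, h0]
    exact Finset.sum_congr rfl fun j _ => by
      rw [map_mul, pm_sc]
      exact Algebra.smul_def _ _)
  obtain ⟨l, α, w, hy, hα⟩ := Module.Flat.isTrivialRelation_of_sum_smul_eq_zero hrel
  choose α' hα' using fun j i => hp (α j i)
  choose w' hw' using fun i => (pm_props x p hp hU).1 ((w i : LinearMap.ker f) : S)
  have hwm : ∀ i, w' i ∈ pre p I hU := fun i => by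
    show pm x p U (w' i) ∈ idl I hU
    rw [hw' i]
    exact Ideal.Quotient.eq_zero_iff_mem.1 (w i).2
  have hdiff : ∀ j, ∃ b, q j - ∑ i, sc x B U (α' j i) * w' i = tmul x t hU b := fun j => by
    refine exists_tmul ht hU hp ?_
    rw [map_sub, map_sum, sub_eq_zero]
    refine (congrArg Subtype.val (hy j)).trans ?_
    rw [Submodule.coe_sum]
    refine Finset.sum_congr rfl fun i _ => ?_
    rw [map_mul, pm_sc, hα', hw']
    exact Algebra.smul_def _ _
  choose b hb using hdiff
  have hcb : ∀ j, sc x B U (c j) * tmul x t hU (b j) = 0 := fun j => by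
    rw [tmul, Finset.mul_sum]
    refine Finset.sum_eq_zero fun i _ => ?_
    rw [← mul_assoc, ← map_mul, ht.mul _ (hc j) i, map_zero, zero_mul]
  let β : Fin l → B := fun i => ∑ j, c j * α' j i
  choose e he using fun i => ht.span (β i) (show p (β i) = 0 by
    rw [map_sum]
    exact (Finset.sum_congr rfl fun j _ => by rw [map_mul, hα']).trans (hα i))
  have hz : tmul x t hU a = ∑ i, sc x B U (t i) * ∑ l', sc x B U (e l' i) * w' l' := by
    calc tmul x t hU a = ∑ j, sc x B U (c j) * (∑ l', sc x B U (α' j l') * w' l') := by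
          rw [hsum]
          refine Finset.sum_congr rfl fun j _ => ?_
          rw [← sub_eq_zero, ← mul_sub, hb, hcb]
      _ = ∑ l', sc x B U (β l') * w' l' := by
          simp only [β, map_sum, map_mul, Finset.mul_sum, Finset.sum_mul, mul_assoc]
          exact Finset.sum_comm
      _ = _ := by
          simp only [he, map_sum, map_mul, Finset.mul_sum, Finset.sum_mul]
          rw [Finset.sum_comm]
          exact Finset.sum_congr rfl fun i _ => Finset.sum_congr rfl fun _ _ => by ring
  rw [← tmul_eq ht hU (a := fun i => res x B U (∑ l', sc x B U (e l' i) * w' l')) _ (fun i => rfl),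
    ← sub_eq_zero, ← tmul_sub ht] at hz
  have h0 := congrFun (tmul_inj ht hU hz) i
  rw [Pi.sub_apply, Pi.zero_apply, sub_eq_zero] at h0
  rw [h0]
  exact res_mem_of_mem_pre I hU (Ideal.sum_mem _ fun l' _ => Ideal.mul_mem_left _ _ (hwm l'))

end Groth.Agent.H24Hilb
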