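import Groth.Prelude.Def_ArtFun6
import Groth.Prelude.Def_FGA
import Groth.Agent.H17.HilbBC.Main
import Groth.Agent.H19Grp.TangentDer
import Mathlib

/-!
# The local ring of a Hilbert scheme at a rational point
-/

set_option autoImplicit false
set_option linter.style.haveILetI false
universe u
open CategoryTheory CategoryTheory.Limits AlgebraicGeometry ArtFun ArtFun.Art

namespace Groth.Agent.H24Hilb

theorem isPullback_XTmap {X S : Scheme.{u}} (f : X ⟶ S) {T' T : Over S} (g : T' ⟶ T) :
    IsPullback (PicF.XTmap f g) (PicF.XTproj f T') (PicF.XTproj f T) g.left := by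
  refine IsPullback.of_right ?_ (pullback.lift_snd _ _ _) (IsPullback.of_hasPullback f T.hom)
  rw [PicF.XTmap, pullback.lift_fst, Category.comp_id, Over.w g]
  exact IsPullback.of_hasPullback f T'.hom

theorem hilb_mem_pull {X S : Scheme.{u}} (f : X ⟶ S) {T' T : Over S} (g : T' ⟶ T)
    (I : (PicF.XT f T).IdealSheafData)
    (hI : IsProper (I.subschemeι ≫ PicF.XTproj f T) ∧ Flat (I.subschemeι ≫ PicF.XTproj f T)) :
    IsProper ((I.comap (PicF.XTmap f g)).subschemeι ≫ PicF.XTproj f T') ∧
      Flat ((I.comap (PicF.XTmap f g)).subschemeι ≫ PicF.XTproj f T') := by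
  have sq : IsPullback (pullback.snd (PicF.XTmap f g) I.subschemeι)
      (pullback.fst (PicF.XTmap f g) I.subschemeι ≫ PicF.XTproj f T')
      (I.subschemeι ≫ PicF.XTproj f T) g.left :=
    IsPullback.paste_vert (IsPullback.of_hasPullback (PicF.XTmap f g) I.subschemeι).flip (isPullback_XTmap f g)
  rw [← Scheme.IdealSheafData.comapIso_hom_fst, Category.assoc]
  have h1 : IsProper (pullback.fst (PicF.XTmap f g) I.subschemeι ≫ PicF.XTproj f T') :=
    MorphismProperty.of_isPullback (P := @IsProper) sq hI.1
  have h2 : Flat (pullback.fst (PicF.XTmap f g) I.subschemeι ≫ PicF.XTproj f T') :=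
    MorphismProperty.of_isPullback (P := @Flat) sq hI.2
  exact ⟨inferInstance, inferInstance⟩

variable {k : Type u} [Field k] {X : Scheme.{u}} (x : X ⟶ Spec (CommRingCat.of k))

/-- The closed point of an Artinian object, over the base. -/
theorem specRes_over (A : Art k k) : specRes A ≫ specOver A = 𝟙 (Spec (CommRingCat.of k)) := by
  show Spec.map _ ≫ Spec.map _ = _
  rw [← Spec.map_comp, ← Spec.map_id]
  exact congrArg Spec.map (CommRingCat.hom_ext (RingHom.ext fun c =>
    (congrArg (fun t : base k k →ₐ[k] k => t c) (ofBase A).res_comp)))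

theorem specRes_closedPoint (A : Art k k) :
    specRes A (IsLocalRing.closedPoint k) = IsLocalRing.closedPoint A :=
  haveI : IsLocalHom A.res.toRingHom := IsLocalHom.of_surjective _ A.res_surjective
  IsLocalRing.comap_closedPoint A.res.toRingHom

/-- The local ring of the Hilbert scheme at a rational point pro-represents the local Hilbert functor
of the corresponding closed subscheme. -/
theorem exists_isUniversal_stalk [IsProper x] (H : Over (Spec (CommRingCat.of k))) (Z : FGA.HilbSet x H)
    (hH : FGA.HilbRepresentedBy x H Z) (I₀ : X.IdealSheafData) (y : Over.mk (𝟙 (Spec (CommRingCat.of k))) ⟶ H)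
    (hy : FGA.hilbPull x y Z.1 = I₀.comap (pullback.fst x (Over.mk (𝟙 (Spec (CommRingCat.of k)))).hom)) :
    ∃ (_ : Algebra k (H.left.presheaf.stalk (y.left.base (IsLocalRing.closedPoint k))))
      (ρ : H.left.presheaf.stalk (y.left.base (IsLocalRing.closedPoint k)) →ₐ[k] k)
      (ξ : Family (H.left.presheaf.stalk (y.left.base (IsLocalRing.closedPoint k))) ρ (localHilb X x I₀)),
      Function.Surjective ρ ∧ IsUniversal ξ := by
  obtain ⟨hLN, hrep⟩ := hH
  let η := y.left.base (IsLocalRing.closedPoint k)
  let R := H.left.presheaf.stalk η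
  let u := H.left.fromSpecStalk η
  let ψ : CommRingCat.of k ⟶ R := Spec.preimage (u ≫ H.hom)
  letI alg : Algebra k R := ψ.hom.toAlgebra
  let ε : R ⟶ CommRingCat.of k := Scheme.stalkClosedPointTo (R := CommRingCat.of k) y.left
  have hε : Spec.map ε ≫ u = y.left :=
    Scheme.Spec_stalkClosedPointTo_fromSpecStalk (R := CommRingCat.of k) y.left
  have hψε : ψ ≫ ε = 𝟙 _ := by
    apply Spec.map_injective
    rw [Spec.map_comp, Spec.map_preimage, reassoc_of% hε, Spec.map_id]
    exact Over.w y
  let ρ : R →ₐ[k] k := { ε.hom with commutes' := fun c => H19Grp.hom_apply_of_comp_eq_id (A := CommRingCat.of k) ψ ε hψε c }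
  have hρ : CommRingCat.ofHom ρ.toRingHom = ε := rfl
  let g : ∀ A : Art k k, HomSet R ρ A → (Over.mk (specOver A) ⟶ H) := fun A φ =>
    Over.homMk (Spec.map (CommRingCat.ofHom φ.1.toRingHom) ≫ u) (by
      rw [Category.assoc, ← Spec.map_preimage (u ≫ H.hom), ← Spec.map_comp]
      exact congrArg Spec.map (CommRingCat.hom_ext (RingHom.ext fun c => φ.1.commutes c)))
  have hres : ∀ A (g' : Over.mk (specOver A) ⟶ H), specRes A ≫ g'.left = y.left →
      XAincl x A ≫ PicF.XTmap x g' = pullback.lift (𝟙 X) x (by simp) ≫ PicF.XTmap x y := by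
    intro A g' hg'
    apply pullback.hom_ext
    · simp only [PicF.XTmap, pullback.map, Category.assoc, pullback.lift_fst, Category.comp_id]
      exact XAincl_fst x A
    · simp only [PicF.XTmap, pullback.map, Category.assoc, pullback.lift_snd]
      erw [pullback.lift_snd_assoc, pullback.lift_snd_assoc]
      rw [Category.assoc]
      exact congrArg (x ≫ ·) hg'
  have hgres : ∀ A φ, specRes A ≫ (g A φ).left = y.left := fun A φ => by
    show Spec.map (CommRingCat.ofHom A.res.toRingHom) ≫ Spec.map (CommRingCat.ofHom φ.1.toRingHom) ≫ u = _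
    rw [← Spec.map_comp_assoc, ← CommRingCat.ofHom_comp,
      show A.res.toRingHom.comp φ.1.toRingHom = ρ.toRingHom from congrArg AlgHom.toRingHom φ.2, hρ, hε]
  have hy' : Z.1.comap (PicF.XTmap x y) =
      I₀.comap (pullback.fst x (Over.mk (𝟙 (Spec (CommRingCat.of k)))).hom) :=
    (H17.HilbBC.hilbPull_eq_comap x y Z.1).symm.trans hy
  let el : ∀ A (φ : HomSet R ρ A), (localHilb X x I₀).obj A := fun A φ =>
    ⟨Z.1.comap (PicF.XTmap x (g A φ)), (hilb_mem_pull x (g A φ) Z.1 Z.2).2, by
      refine (Scheme.IdealSheafData.comap_comp _ _ _).symm.trans ?_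
      rw [show XAincl x A ≫ PicF.XTmap x (g A φ) = _ from hres A _ (hgres A φ),
        Scheme.IdealSheafData.comap_comp, hy', ← Scheme.IdealSheafData.comap_comp, pullback.lift_fst,
        Scheme.IdealSheafData.comap_id]⟩
  have hnat : ∀ {A B : Art k k} (f : A ⟶ B) (φ : HomSet R ρ A),
      el B (HomSet.map f φ) = (localHilb X x I₀).map f (el A φ) := by
    intro A B f φ
    refine Subtype.ext ?_
    show Z.1.comap (PicF.XTmap x (g B (HomSet.map f φ))) =
      (Z.1.comap (PicF.XTmap x (g A φ))).comap (XAmap x f)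
    refine Eq.trans ?_ (Scheme.IdealSheafData.comap_comp _ _ _)
    congr 1
    apply pullback.hom_ext
    · simp only [PicF.XTmap, pullback.map, Category.assoc, pullback.lift_fst, Category.comp_id]
      exact (XAmap_fst x f).symm
    · simp only [PicF.XTmap, pullback.map, Category.assoc, pullback.lift_snd]
      refine Eq.trans ?_ ((congrArg (· ≫ (g A φ).left) (XAmap_snd x f).symm).trans (Category.assoc _ _ _))
      refine Eq.trans ?_ (Category.assoc _ _ _).symm
      refine congrArg (XApr x B ≫ ·) ?_
      show Spec.map (CommRingCat.ofHom (f.toAlgHom.comp φ.1).toRingHom) ≫ u =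
        specMap f ≫ Spec.map (CommRingCat.ofHom φ.1.toRingHom) ≫ u
      rw [← Spec.map_comp_assoc]
      rfl
  refine ⟨alg, ρ, ⟨el, @hnat⟩, fun c => ⟨algebraMap k R c, ρ.commutes c⟩, fun A => ⟨fun φ φ' h => ?_, fun I => ?_⟩⟩
  · haveI : IsLocallyNoetherian (Over.mk (specOver A)).left := inferInstanceAs (IsLocallyNoetherian (spec A))
    obtain ⟨g₀, -, huniq⟩ := hrep (Over.mk (specOver A))
      ⟨FGA.hilbPull x (g A φ) Z.1, by rw [H17.HilbBC.hilbPull_eq_comap]; exact hilb_mem_pull x (g A φ) Z.1 Z.2⟩
    have e : g A φ' = g A φ := (huniq _ (by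
      show FGA.hilbPull x (g A φ') Z.1 = FGA.hilbPull x (g A φ) Z.1
      rw [H17.HilbBC.hilbPull_eq_comap, H17.HilbBC.hilbPull_eq_comap]
      exact (congrArg (fun t : (localHilb X x I₀).obj A => t.1) h).symm)).trans (huniq _ rfl).symm
    have e1 := congrArg CommaMorphism.left e
    have e2 := Spec.map_injective ((cancel_mono u).1 e1.symm)
    exact Subtype.ext (AlgHom.ext fun r => congrArg (fun t : R ⟶ CommRingCat.of A => t.hom r) e2)
  · haveI : IsLocallyNoetherian (Over.mk (specOver A)).left := inferInstanceAs (IsLocallyNoetherian (spec A))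
    haveI : IsLocallyNoetherian (Over.mk (𝟙 (Spec (CommRingCat.of k)))).left :=
      inferInstanceAs (IsLocallyNoetherian (Spec (CommRingCat.of k)))
    obtain ⟨g', hg', -⟩ := hrep (Over.mk (specOver A)) ⟨I.1,
      haveI : IsProper (PicF.XTproj x (Over.mk (specOver A))) :=
        MorphismProperty.of_isPullback (P := @IsProper) (IsPullback.of_hasPullback x (specOver A)) ‹IsProper x›
      inferInstance, I.2.1⟩
    rw [H17.HilbBC.hilbPull_eq_comap] at hg'
    let g'' : Over.mk (𝟙 (Spec (CommRingCat.of k))) ⟶ H := Over.homMk (specRes A ≫ g'.left) (by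
      rw [Category.assoc, Over.w g']
      exact specRes_over A)
    obtain ⟨g₀, -, huniq⟩ := hrep (Over.mk (𝟙 (Spec (CommRingCat.of k)))) ⟨FGA.hilbPull x y Z.1, by
      rw [H17.HilbBC.hilbPull_eq_comap]; exact hilb_mem_pull x y Z.1 Z.2⟩
    have e : g'' = y := (huniq _ (by
      show FGA.hilbPull x g'' Z.1 = FGA.hilbPull x y Z.1
      rw [hy, H17.HilbBC.hilbPull_eq_comap]
      have e1 : PicF.XTmap x g'' = (pullback.fst x (Over.mk (𝟙 (Spec (CommRingCat.of k)))).hom ≫ XAincl x A) ≫
          PicF.XTmap x g' := by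
        apply pullback.hom_ext
        · simp only [PicF.XTmap, pullback.map, Category.assoc, pullback.lift_fst, Category.comp_id]
          erw [XAincl_fst]
          exact (Category.comp_id _).symm
        · simp only [PicF.XTmap, pullback.map, Category.assoc, pullback.lift_snd]
          erw [pullback.lift_snd_assoc]
          rw [Category.assoc]
          refine Eq.trans ?_ ((congrArg (· ≫ specRes A ≫ g'.left) pullback.condition.symm).trans (Category.assoc _ _ _))
          exact congrArg (· ≫ specRes A ≫ g'.left) (Category.comp_id _).symm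
      rw [e1, Scheme.IdealSheafData.comap_comp, hg', Scheme.IdealSheafData.comap_comp, I.2.2])).trans
        (huniq _ rfl).symm
    have e' : specRes A ≫ g'.left = y.left := congrArg CommaMorphism.left e
    have hpt : g'.left (IsLocalRing.closedPoint (CommRingCat.of A)) = η := by
      show g'.left _ = y.left (IsLocalRing.closedPoint k)
      rw [← e']
      exact congrArg g'.left (specRes_closedPoint A).symm
    obtain ⟨φ₀, hφ₀⟩ := H19Grp.exists_hom_of_closedPoint_eq (R := CommRingCat.of A) g'.left hpt
    have h1 : ψ ≫ φ₀ = CommRingCat.ofHom (ofBase A).toAlgHom.toRingHom := Spec.map_injective (by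
      rw [Spec.map_comp, Spec.map_preimage, ← Category.assoc, ← hφ₀]
      exact Over.w g')
    have h2 : φ₀ ≫ CommRingCat.ofHom A.res.toRingHom = ε := Spec.map_injective ((cancel_mono u).1 (by
      rw [Spec.map_comp, Category.assoc, ← hφ₀, hε]
      exact e'))
    let φ : HomSet R ρ A := ⟨{ φ₀.hom with commutes' := fun c =>
        (congrArg (fun t : CommRingCat.of k ⟶ CommRingCat.of A => t.hom c) h1).trans ((ofBase A).toAlgHom.commutes c) },
      AlgHom.ext fun r => congrArg (fun t : R ⟶ CommRingCat.of k => t.hom r) h2⟩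
    refine ⟨φ, Subtype.ext (Eq.trans ?_ hg')⟩
    show Z.1.comap (PicF.XTmap x (g A φ)) = _
    rw [show g A φ = g' from Over.OverMorphism.ext hφ₀.symm]

end Groth.Agent.H24Hilb
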