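import Groth.Agent.H28Def.DefFunctor
import Groth.Agent.H28Def.DefHom
import Groth.Agent.H29Blow.Basic
import Groth.Agent.H24Def.BurchLift
import Groth.Agent.H24Def.Affine
import Groth.Prelude.Def_ArtFun6
import Mathlib

/-!
# Embedded deformations on affine opens
-/

set_option autoImplicit false
set_option linter.style.haveILetI false
universe u
open CategoryTheory CategoryTheory.Limits AlgebraicGeometry IsLocalRing ArtFun ArtFun.Art

namespace Groth.Agent.H24Hilb

variable {k : Type u} [Field k] {X : Scheme.{u}} (x : X ⟶ specPt k)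

theorem flat_XApr (A : Art k k) : Flat (XApr x A) :=
  haveI := H28Def.flat_of_field x
  inferInstance

/-- `X ×_k Spec A` as a deformation of `X`. -/
noncomputable def trivDef (A : Art k k) : DefSch X x A :=
  ⟨XA x A, XApr x A, flat_XApr x A, XAincl x A, isPullback_XAincl x A⟩

theorem isClosedImmersion_XAincl (A : Art k k) : IsClosedImmersion (XAincl x A) :=
  (H28Def.isClosedImmersion_i (trivDef x A)).1

theorem surjective_XAincl (A : Art k k) : Function.Surjective (XAincl x A) :=
  (H28Def.isClosedImmersion_i (trivDef x A)).2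

theorem isAffineHom_fst (A : Art k k) : IsAffineHom (pullback.fst x (specOver A)) :=
  MorphismProperty.of_isPullback (P := @IsAffineHom) (IsPullback.of_hasPullback x (specOver A)).flip inferInstance

/-- The affine open over an affine open. -/
noncomputable def up (A : Art k k) (U : X.Opens) : (XA x A).Opens := pullback.fst x (specOver A) ⁻¹ᵁ U

theorem isAffineOpen_up (A : Art k k) {U : X.Opens} (hU : IsAffineOpen U) : IsAffineOpen (up x A U) :=
  haveI := isAffineHom_fst x A
  hU.preimage _

theorem up_mono (A : Art k k) {U V : X.Opens} (h : V ≤ U) : up x A V ≤ up x A U :=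
  fun _ hy => h hy

theorem incl_up (A : Art k k) (U : X.Opens) : XAincl x A ⁻¹ᵁ up x A U = U := by
  rw [up, ← Scheme.Hom.comp_preimage, XAincl_fst]; rfl

theorem map_up {A B : Art k k} (g : A ⟶ B) (U : X.Opens) : XAmap x g ⁻¹ᵁ up x A U = up x B U := by
  rw [up, ← Scheme.Hom.comp_preimage, XAmap_fst]; rfl

theorem exists_up (A : Art k k) (y : ↥(XA x A)) : ∃ U : X.Opens, IsAffineOpen U ∧ y ∈ up x A U := by
  obtain ⟨U, hU, hy, -⟩ := exists_isAffineOpen_mem_and_subset
    (x := (pullback.fst x (specOver A)) y) (U := (⊤ : X.Opens)) trivial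
  exact ⟨U, hU, hy⟩

/-- Sections of the deformation, as a ring with scalars. -/
noncomputable abbrev sc (A : Art k k) (U : X.Opens) : A →+* Γ(XA x A, up x A U) :=
  H24Def.scalar (XApr x A) (up x A U)

/-- Restriction to the closed fibre. -/
noncomputable def res (A : Art k k) (U : X.Opens) : Γ(XA x A, up x A U) →+* Γ(X, U) :=
  ((XAincl x A).appLE (up x A U) U (incl_up x A U).ge).hom

/-- Change of coefficients. -/
noncomputable def pm {A B : Art k k} (g : A ⟶ B) (U : X.Opens) : Γ(XA x A, up x A U) →+* Γ(XA x B, up x B U) :=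
  ((XAmap x g).appLE (up x A U) (up x B U) (map_up x g U).ge).hom

theorem res_pm {A B : Art k k} (g : A ⟶ B) (U : X.Opens) (s : Γ(XA x A, up x A U)) :
    res x B U (pm x g U s) = res x A U s := by
  have := Scheme.Hom.appLE_comp_appLE (XAincl x B) (XAmap x g) (up x A U) (up x B U) U (map_up x g U).ge
    (incl_up x B U).ge
  simp only [XAincl_XAmap] at this
  exact ConcreteCategory.congr_hom this s

theorem res_map (A : Art k k) {U V : X.Opens} (h : V ≤ U) (s : Γ(XA x A, up x A U)) :
    res x A V ((XA x A).presheaf.map (homOfLE (up_mono x A h)).op s) =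
      X.presheaf.map (homOfLE h).op (res x A U s) := by
  refine (ConcreteCategory.congr_hom (Scheme.Hom.map_appLE (XAincl x A) (incl_up x A V).ge
    (homOfLE (up_mono x A h)).op) s).trans ?_
  exact (ConcreteCategory.congr_hom (Scheme.Hom.appLE_map (XAincl x A) (incl_up x A U).ge (homOfLE h).op) s).symm

theorem pm_map {A B : Art k k} (g : A ⟶ B) {U V : X.Opens} (h : V ≤ U) (s : Γ(XA x A, up x A U)) :
    pm x g V ((XA x A).presheaf.map (homOfLE (up_mono x A h)).op s) =
      (XA x B).presheaf.map (homOfLE (up_mono x B h)).op (pm x g U s) := by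
  refine (ConcreteCategory.congr_hom (Scheme.Hom.map_appLE (XAmap x g) (map_up x g V).ge
    (homOfLE (up_mono x A h)).op) s).trans ?_
  exact (ConcreteCategory.congr_hom (Scheme.Hom.appLE_map (XAmap x g) (map_up x g U).ge
    (homOfLE (up_mono x B h)).op) s).symm

theorem pm_sc {A B : Art k k} (g : A ⟶ B) (U : X.Opens) (a : A) : pm x g U (sc x A U a) = sc x B U (g a) :=
  H28Def.appLE_scalar g.toAlgHom.toRingHom _ _ _ (XAmap_snd x g) _ _ _ _

/-- Kernels of maps on sections of a base change along a surjection. -/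
theorem ker_appLE {C D : Type u} [CommRing C] [CommRing D] {T S : Scheme.{u}} (μ : C →+* D)
    (hμ : Function.Surjective μ) (a : T ⟶ S) (g₀ : T ⟶ Spec (CommRingCat.of D))
    (g : S ⟶ Spec (CommRingCat.of C)) (hsq : IsPullback a g₀ g (Spec.map (CommRingCat.ofHom μ)))
    {U : S.Opens} (hU : IsAffineOpen U) (W : T.Opens) (hW : W = a ⁻¹ᵁ U) :
    Function.Surjective (a.appLE U W hW.le) ∧
      RingHom.ker (a.appLE U W hW.le).hom = (RingHom.ker μ).map (H24Def.scalar g U) := by
  haveI : IsClosedImmersion (Spec.map (CommRingCat.ofHom μ)) := IsClosedImmersion.spec_of_surjective _ hμ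
  haveI : IsClosedImmersion a := MorphismProperty.of_isPullback (P := @IsClosedImmersion) hsq.flip inferInstance
  have hP := H28Def.isPushout_scalar μ a g₀ g hsq hU W hW
  refine ⟨?_, le_antisymm (fun s hs => ?_) (Ideal.map_le_iff_le_comap.2 fun c hc => ?_)⟩
  · subst hW
    rw [← Scheme.Hom.app_eq_appLE]
    exact a.app_surjective U hU
  · let K := (RingHom.ker μ).map (H24Def.scalar g U)
    let π : Γ(S, U) →+* Γ(S, U) ⧸ K := Ideal.Quotient.mk K
    let τ : D →+* Γ(S, U) ⧸ K := RingHom.liftOfSurjective μ hμ ⟨π.comp (H24Def.scalar g U), fun c hc =>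
      Ideal.Quotient.eq_zero_iff_mem.mpr (Ideal.mem_map_of_mem _ hc)⟩
    have w : CommRingCat.ofHom μ ≫ CommRingCat.ofHom τ = CommRingCat.ofHom (H24Def.scalar g U) ≫ CommRingCat.ofHom π :=
      CommRingCat.hom_ext (RingHom.ext fun c =>
        (H24Def.liftSurj_apply μ hμ (π.comp (H24Def.scalar g U)) _ c : τ (μ c) = π (H24Def.scalar g U c)))
    have := ConcreteCategory.congr_hom (hP.inr_desc (CommRingCat.ofHom τ) (CommRingCat.ofHom π) w) s
    refine Ideal.Quotient.eq_zero_iff_mem.mp (this.symm.trans ?_)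
    show (hP.desc (CommRingCat.ofHom τ) (CommRingCat.ofHom π) w) (a.appLE U W hW.le s) = 0
    rw [show a.appLE U W hW.le s = 0 from hs, map_zero]
  · show a.appLE U W hW.le (H24Def.scalar g U c) = 0
    rw [H28Def.appLE_scalar μ a g₀ g hsq.w, RingHom.mem_ker.1 hc, map_zero]

theorem pm_props {A B : Art k k} (g : A ⟶ B) (hg : Function.Surjective g) {U : X.Opens} (hU : IsAffineOpen U) :
    Function.Surjective (pm x g U) ∧
      RingHom.ker (pm x g U) = (RingHom.ker g.toAlgHom.toRingHom).map (sc x A U) :=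
  ker_appLE g.toAlgHom.toRingHom hg (XAmap x g) (XApr x B) (XApr x A) (isPullback_XAmap x g)
    (isAffineOpen_up x A hU) _ (map_up x g U).symm

theorem res_props (A : Art k k) {U : X.Opens} (hU : IsAffineOpen U) :
    Function.Surjective (res x A U) ∧ RingHom.ker (res x A U) = (maximalIdeal A).map (sc x A U) := by
  obtain ⟨h1, h2⟩ := ker_appLE A.res.toRingHom A.res_surjective (XAincl x A) x (XApr x A) (isPullback_XAincl x A)
    (isAffineOpen_up x A hU) _ (incl_up x A U).symm
  refine ⟨h1, h2.trans ?_⟩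
  congr 1
  ext a
  exact (A.mem_maximalIdeal_iff a).symm

variable {x} {I₀ : X.IdealSheafData}

/-- The ideal of an embedded deformation on an affine open. -/
noncomputable def idl {A : Art k k} (I : (localHilb X x I₀).obj A) {U : X.Opens} (hU : IsAffineOpen U) :
    Ideal Γ(XA x A, up x A U) :=
  I.1.ideal ⟨up x A U, isAffineOpen_up x A hU⟩

theorem idl_res {A : Art k k} (I : (localHilb X x I₀).obj A) {U : X.Opens} (hU : IsAffineOpen U) :
    (idl I hU).map (res x A U) = I₀.ideal ⟨U, hU⟩ :=
  (H29Blow.ideal_comap I.1 (XAincl x A) ⟨up x A U, isAffineOpen_up x A hU⟩ ⟨U, hU⟩ (incl_up x A U).ge).symm.trans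
    (congrArg (fun J : X.IdealSheafData => J.ideal ⟨U, hU⟩) I.2.2)

theorem idl_map {A B : Art k k} (g : A ⟶ B) (I : (localHilb X x I₀).obj A) {U : X.Opens} (hU : IsAffineOpen U) :
    idl ((localHilb X x I₀).map g I) hU = (idl I hU).map (pm x g U) :=
  H29Blow.ideal_comap I.1 (XAmap x g) ⟨up x A U, isAffineOpen_up x A hU⟩ ⟨up x B U, isAffineOpen_up x B hU⟩
    (map_up x g U).ge

theorem idl_restrict {A : Art k k} (I : (localHilb X x I₀).obj A) {U V : X.Opens} (hU : IsAffineOpen U)
    (hV : IsAffineOpen V) (h : V ≤ U) {s : Γ(XA x A, up x A U)} (hs : s ∈ idl I hU) :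
    (XA x A).presheaf.map (homOfLE (up_mono x A h)).op s ∈ idl I hV :=
  I.1.ideal_le_comap_ideal (U := ⟨up x A V, isAffineOpen_up x A hV⟩) (V := ⟨up x A U, isAffineOpen_up x A hU⟩)
    (up_mono x A h) hs

theorem eq_of_idl {A : Art k k} {I I' : (localHilb X x I₀).obj A}
    (h : ∀ (U : X.Opens) (hU : IsAffineOpen U), idl I hU = idl I' hU) : I = I' := by
  refine Subtype.ext (H29Blow.ext_of_forall_exists fun y => ?_)
  obtain ⟨U, hU, hy⟩ := exists_up x A y
  exact ⟨⟨up x A U, isAffineOpen_up x A hU⟩, hy, h U hU⟩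

/-- Sections of an embedded deformation are flat. -/
theorem idl_flat {A : Art k k} (I : (localHilb X x I₀).obj A) {U : X.Opens} (hU : IsAffineOpen U) :
    letI := (sc x A U).toAlgebra
    Module.Flat A (Γ(XA x A, up x A U) ⧸ idl I hU) := by
  letI := (sc x A U).toAlgebra
  haveI : Flat (I.1.subschemeι ≫ XApr x A) := I.2.1
  let W : (XA x A).affineOpens := ⟨up x A U, isAffineOpen_up x A hU⟩
  let V := I.1.subschemeι ⁻¹ᵁ W.1
  letI : Algebra A Γ(I.1.subscheme, V) := (H24Def.scalar (I.1.subschemeι ≫ XApr x A) V).toAlgebra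
  haveI : Module.Flat A Γ(I.1.subscheme, V) :=
    RingHom.flat_algebraMap_iff.mp (H24Def.flat_scalar _ (W.2.preimage _))
  let φ : Γ(XA x A, up x A U) →ₐ[A] Γ(I.1.subscheme, V) :=
    { (I.1.subschemeι.appLE W.1 V le_rfl).hom with
      commutes' := fun a => by
        refine (H28Def.appLE_scalar (RingHom.id A) I.1.subschemeι (I.1.subschemeι ≫ XApr x A) (XApr x A) ?_ _ _ _ a)
        rw [CommRingCat.ofHom_id, Spec.map_id, Category.comp_id] }
  have hφ : Function.Surjective φ := by
    have := I.1.subschemeι.app_surjective W.1 W.2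
    rw [Scheme.Hom.app_eq_appLE] at this
    exact this
  have hk : RingHom.ker φ.toRingHom = idl I hU := by
    have := I.1.ker_subschemeι_app W
    rw [Scheme.Hom.app_eq_appLE] at this
    exact this
  exact Module.Flat.of_linearEquiv
    ((Ideal.quotientEquivAlgOfEq A hk.symm).trans (Ideal.quotientKerAlgEquivOfSurjective hφ)).toLinearEquiv

/-- `I ∩ mS = mI`. -/
theorem mem_maximal_mul {A : Art k k} (I : (localHilb X x I₀).obj A) {U : X.Opens} (hU : IsAffineOpen U)
    {s : Γ(XA x A, up x A U)} (hs : s ∈ idl I hU) (h0 : res x A U s = 0) :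
    s ∈ (maximalIdeal A).map (sc x A U) * idl I hU := by
  letI := (sc x A U).toAlgebra
  haveI := idl_flat I hU
  have hx : s ∈ (maximalIdeal A).map (algebraMap A Γ(XA x A, up x A U)) := (res_props x A hU).2 ▸ h0
  have := H24Def.mem_smul_ker (A := Γ(XA x A, up x A U)) (maximalIdeal A)
    (Submodule.mkQ (idl I hU)) (Submodule.mkQ_surjective _) (x := s)
    (by rw [smul_eq_mul, Ideal.mul_top]; exact hx) ((Submodule.Quotient.mk_eq_zero _).2 hs)
  rwa [Submodule.ker_mkQ] at this

/-- A multiple of a socle element in the ideal has coefficient in the ideal of the fibre. -/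
theorem res_mem_of_mul_mem {A : Art k k} (I : (localHilb X x I₀).obj A) {U : X.Opens} (hU : IsAffineOpen U)
    {t : A} (ht : t ≠ 0) (hmt : ∀ a ∈ maximalIdeal A, a * t = 0) {r : Γ(XA x A, up x A U)}
    (h : sc x A U t * r ∈ idl I hU) : res x A U r ∈ I₀.ideal ⟨U, hU⟩ := by
  letI := (sc x A U).toAlgebra
  haveI := idl_flat I hU
  have hcolon : ∀ a, a * t ∈ (⊥ : Ideal A) ↔ a ∈ maximalIdeal A := fun a => by
    rw [Ideal.mem_bot]
    refine ⟨fun ha => ?_, hmt a⟩
    by_contra hu
    rw [mem_maximalIdeal, mem_nonunits_iff, not_not] at hu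
    exact ht ((hu.mul_right_eq_zero).1 ha)
  let q := Ideal.Quotient.mk (idl I hU)
  have h1 := H24Def.mem_map_of_mul_mem_map (B := Γ(XA x A, up x A U) ⧸ idl I hU) hcolon (b := q r) (by
    rw [Ideal.map_bot, Ideal.mem_bot]
    exact (Ideal.Quotient.eq_zero_iff_mem).2 h)
  rw [IsScalarTower.algebraMap_eq A Γ(XA x A, up x A U), ← Ideal.map_map] at h1
  obtain ⟨z, hz, hzr⟩ := (Ideal.mem_map_iff_of_surjective _ Ideal.Quotient.mk_surjective).1 h1
  have hzI : r - z ∈ idl I hU := Ideal.Quotient.eq.1 hzr.symm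
  have h2 : res x A U (r - z) ∈ I₀.ideal ⟨U, hU⟩ := idl_res I hU ▸ Ideal.mem_map_of_mem _ hzI
  have h3 : res x A U z = 0 := by
    rw [← RingHom.mem_ker, (res_props x A hU).2]; exact hz
  rwa [map_sub, h3, sub_zero] at h2

end Groth.Agent.H24Hilb
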