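import Groth.Agent.H24Hilb.LocalLift
import Groth.Agent.H24Def.BurchSpread

/-!
# Cohen–Macaulay subschemes of codimension two lift locally
-/

set_option autoImplicit false
set_option linter.style.haveILetI false
universe u
open CategoryTheory CategoryTheory.Limits AlgebraicGeometry IsLocalRing ArtFun ArtFun.Art
open Groth.Agent.H3CAlg.HilbertBurch Groth.Agent.H24Def

namespace Groth.Agent.H24Hilb

theorem map_cof' {R S : Type*} [CommRing R] [CommRing S] (g : R →+* S) {r : ℕ}
    (φ : Matrix (Fin (r + 1)) (Fin r) R) (i : Fin (r + 1)) : g (cof φ i) = cof (φ.map g) i := by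
  simp [cof, RingHom.map_det, Matrix.submatrix_map]

/-- Resolutions transport along isomorphisms. -/
theorem exact_map_of_ringEquiv {R S : Type*} [CommRing R] [CommRing S] (e : R ≃+* S) {r : ℕ}
    (φ : Matrix (Fin (r + 1)) (Fin r) R) (hinj : Function.Injective (φ.map e).mulVecLin)
    (hex : LinearMap.range (φ.map e).mulVecLin = LinearMap.ker (Fintype.linearCombination S (cof (φ.map e)))) :
    Function.Injective φ.mulVecLin ∧
      LinearMap.range φ.mulVecLin = LinearMap.ker (Fintype.linearCombination R (cof φ)) := by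
  have hmv : ∀ v, (φ.map e).mulVecLin (e ∘ v) = e ∘ φ.mulVecLin v :=
    fun v => funext fun i => (RingHom.map_mulVec e.toRingHom φ v i).symm
  refine ⟨fun v w h => ?_, le_antisymm ?_ fun v hv => ?_⟩
  · have := hinj ((hmv v).trans ((congrArg (fun z => e ∘ z) h).trans (hmv w).symm))
    exact funext fun i => e.injective (congrFun this i)
  · rintro _ ⟨v, rfl⟩
    rw [LinearMap.mem_ker, Fintype.linearCombination_apply]
    exact (Finset.sum_congr rfl fun i _ => mul_comm _ _).trans (cof_dotProduct_mulVec _ v)
  · rw [LinearMap.mem_ker, Fintype.linearCombination_apply] at hv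
    have h1 : (e ∘ v) ∈ LinearMap.range (φ.map e).mulVecLin := by
      rw [hex, LinearMap.mem_ker, Fintype.linearCombination_apply]
      refine Eq.trans ?_ ((congrArg e hv).trans (map_zero e))
      rw [map_sum]
      exact Finset.sum_congr rfl fun i _ => by
        rw [smul_eq_mul, smul_eq_mul, map_mul]
        exact congrArg (e (v i) * ·) (map_cof' e.toRingHom φ i).symm
    obtain ⟨u, hu⟩ := h1
    refine ⟨e.symm ∘ u, funext fun i => e.injective ?_⟩
    have := congrFun (hmv (e.symm ∘ u)) i
    rw [show e ∘ e.symm ∘ u = u from funext fun j => e.apply_symm_apply _, hu] at this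
    exact this.symm

variable {k : Type u} [Field k] {X : Scheme.{u}} {x : X ⟶ specPt k} {I₀ : X.IdealSheafData}

theorem isNoetherianRing_up [LocallyOfFiniteType x] (A : Art k k) {U : X.Opens} (hU : IsAffineOpen U) :
    IsNoetherianRing Γ(XA x A, up x A U) := by
  haveI : LocallyOfFiniteType (XApr x A) :=
    MorphismProperty.of_isPullback (P := @LocallyOfFiniteType) (IsPullback.of_hasPullback x (specOver A)) ‹_›
  haveI : IsLocallyNoetherian (XA x A) := LocallyOfFiniteType.isLocallyNoetherian (XApr x A)
  exact IsLocallyNoetherian.component_noetherian ⟨_, isAffineOpen_up x A hU⟩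

/-- A resolved ideal lifts locally along every surjection. -/
theorem localLift_of_isRes [LocallyOfFiniteType x] {B A : Art k k} (p : B ⟶ A) (hp : Function.Surjective p)
    (I : (localHilb X x I₀).obj A) {U : X.Opens} (hU : IsAffineOpen U) {r : ℕ}
    (φ : Matrix (Fin (r + 1)) (Fin r) Γ(X, U)) (hφ : BurchSpread.IsRes (I₀.ideal ⟨U, hU⟩) φ) :
    ∃ f : Fin (r + 1) → Γ(XA x B, up x B U), LocalLift p I hU f := by
  letI := (sc x A U).toAlgebra
  haveI : Module.Flat A Γ(XA x A, up x A U) :=
    haveI := flat_XApr x A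
    RingHom.flat_algebraMap_iff.mp (H24Def.flat_scalar (XApr x A) (isAffineOpen_up x A hU))
  haveI := idl_flat I hU
  haveI := isNoetherianRing_up (x := x) A hU
  let e : Γ(XA x A, up x A U) ⧸ (maximalIdeal A).map (algebraMap A Γ(XA x A, up x A U)) ≃+* Γ(X, U) :=
    (Ideal.quotEquivOfEq (res_props x A hU).2.symm).trans
      (RingHom.quotientKerEquivOfSurjective (res_props x A hU).1)
  have he : ∀ s, e (Ideal.Quotient.mk _ s) = res x A U s := fun s => rfl
  let φb := φ.map e.symm
  have hφb : φb.map e = φ := Matrix.ext fun i j => e.apply_symm_apply _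
  obtain ⟨hspan, hinj, hex⟩ := hφ
  obtain ⟨hinj', hex'⟩ := exact_map_of_ringEquiv e φb (by rw [hφb]; exact hinj) (by rw [hφb]; exact hex)
  have hspan' : Ideal.span (Set.range (cof φb)) =
      (idl I hU).map (Ideal.Quotient.mk ((maximalIdeal A).map (algebraMap A Γ(XA x A, up x A U)))) := by
    refine ((Ideal.comap_map_of_bijective e.toRingHom e.bijective).symm.trans
      (congrArg (Ideal.comap e.toRingHom) ?_)).trans (Ideal.comap_map_of_bijective e.toRingHom e.bijective)
    rw [Ideal.map_map, show e.toRingHom.comp (Ideal.Quotient.mk _) = res x A U from RingHom.ext he,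
      idl_res, Ideal.map_span, ← Set.range_comp, ← hspan]
    congr 2
    funext i
    rw [Function.comp_apply, map_cof', show φb.map e.toRingHom = φ from hφb]
    rfl
  obtain ⟨φA, -, hspanA, -, hexA⟩ := H24Def.exists_lift_resolution (maximalIdeal A) (H24Art.isNilpotent_maximalIdeal A)
    (idl I hU) φb hspan' hinj' hex'
  choose φB hφB using fun i j => (pm_props x p hp hU).1 (φA i j)
  have hpm : ∀ i, pm x p U (cof (Matrix.of φB) i) = cof φA i := fun i => by
    rw [map_cof', show (Matrix.of φB).map (pm x p U) = φA from Matrix.ext hφB]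
  refine ⟨cof (Matrix.of φB), ⟨fun i => ?_, ?_, fun c hc => ?_⟩⟩
  · show pm x p U _ ∈ idl I hU
    rw [hpm, ← hspanA]
    exact Ideal.subset_span ⟨i, rfl⟩
  · rw [← idl_res I hU, ← hspanA, Ideal.map_span, ← Set.range_comp]
    congr 2
    funext i
    rw [Function.comp_apply, ← hpm, res_pm]
  · have hc' : c ∈ LinearMap.ker (Fintype.linearCombination Γ(XA x A, up x A U) (cof φA)) := by
      rw [LinearMap.mem_ker, Fintype.linearCombination_apply]
      simpa only [hpm, smul_eq_mul] using hc
    rw [← hexA] at hc'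
    obtain ⟨u, rfl⟩ := hc'
    choose u' hu' using fun j => (pm_props x p hp hU).1 (u j)
    refine ⟨(Matrix.of φB).mulVecLin u', fun i => ?_, ?_⟩
    · refine (RingHom.map_mulVec (pm x p U) (Matrix.of φB) u' i).trans ?_
      rw [show (Matrix.of φB).map (pm x p U) = φA from Matrix.ext hφB, show (pm x p U) ∘ u' = u from funext hu']
      rfl
    · exact (Finset.sum_congr rfl fun i _ => mul_comm _ _).trans (cof_dotProduct_mulVec _ u')

theorem exists_localLift_of_codim_two [Smooth x] {B A : Art k k} (p : B ⟶ A) (hp : Function.Surjective p)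
    (I : (localHilb X x I₀).obj A) (y : I₀.subscheme) [LocCoh.IsCohenMacaulayLocalRing (I₀.subscheme.presheaf.stalk y)]
    (hcodim : ringKrullDim (I₀.subscheme.presheaf.stalk y) + 2 =
      ringKrullDim (X.presheaf.stalk (I₀.subschemeι.base y))) :
    ∃ (U : X.Opens) (hU : IsAffineOpen U) (_ : I₀.subschemeι y ∈ U) (r : ℕ)
      (f : Fin r → Γ(XA x B, up x B U)), LocalLift p I hU f := by
  obtain ⟨U, hyU, r, φ, hφ⟩ := BurchSpread.exists_affine_isRes k X I₀.subscheme x I₀.subschemeι y hcodim
  rw [Scheme.IdealSheafData.ker_subschemeι] at hφ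
  obtain ⟨f, hf⟩ := localLift_of_isRes p hp I U.2 φ hφ
  exact ⟨U.1, U.2, hyU, r + 1, f, hf⟩

end Groth.Agent.H24Hilb
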