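import Groth.Agent.H24Hilb.Glue

/-!
# Schlessinger's conditions for the local Hilbert functor
-/

set_option autoImplicit false
set_option linter.style.haveILetI false
universe u
open CategoryTheory CategoryTheory.Limits AlgebraicGeometry IsLocalRing ArtFun ArtFun.Art

namespace Groth.Agent.H24Hilb

variable {k : Type u} [Field k] {X : Scheme.{u}} {x : X ⟶ specPt k} {I₀ : X.IdealSheafData}

theorem ker_res_base {U : X.Opens} (hU : IsAffineOpen U) : RingHom.ker (res x (base k k) U) = ⊥ := by
  rw [(res_props x (base k k) hU).2, show maximalIdeal (base k k) = ⊥ from ?_, Ideal.map_bot]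
  exact eq_bot_iff.2 fun a ha => ((base k k).mem_maximalIdeal_iff a).1 ha

theorem h0_localHilb : H0 (localHilb X x I₀) := by
  refine ⟨?_, ⟨fun I I' => eq_of_idl fun U hU => ?_⟩⟩
  · refine ⟨(exists_of_up (x := x) (base k k) (fun U hU => (I₀.ideal ⟨U, hU⟩).comap (res x (base k k) U))
      (fun U hU r => ?_) (fun U hU => Ideal.map_comap_of_surjective _ (res_props x (base k k) hU).1 _) ?_).choose⟩
    · have e1 : ((I₀.ideal ⟨U, hU⟩).comap (res x (base k k) U)).map (rho x (base k k) (X.basicOpen_le r)) ≤
          (I₀.ideal ⟨_, hU.basicOpen r⟩).comap (res x (base k k) (X.basicOpen r)) := by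
        rw [Ideal.map_le_iff_le_comap]
        intro s hs
        show res x (base k k) (X.basicOpen r) (rho x (base k k) (X.basicOpen_le r) s) ∈ I₀.ideal ⟨_, hU.basicOpen r⟩
        rw [rho, res_map x (base k k) (X.basicOpen_le r)]
        exact I₀.ideal_le_comap_ideal (U := ⟨_, hU.basicOpen r⟩) (V := ⟨U, hU⟩) (X.basicOpen_le r) hs
      refine le_antisymm e1 fun s hs => ?_
      have h2 : res x (base k k) (X.basicOpen r) s ∈ (I₀.ideal ⟨U, hU⟩).map (X.presheaf.map (homOfLE (X.basicOpen_le r)).op).hom := by
        rw [I₀.map_ideal_basicOpen ⟨U, hU⟩ r]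
        exact hs
      suffices h3 : res x (base k k) (X.basicOpen r) s ∈
          (((I₀.ideal ⟨U, hU⟩).comap (res x (base k k) U)).map (rho x (base k k) (X.basicOpen_le r))).map
            (res x (base k k) (X.basicOpen r)) by
        obtain ⟨s', hs', he⟩ :=
          (Ideal.mem_map_iff_of_surjective _ (res_props x (base k k) (hU.basicOpen r)).1).1 h3
        have : s' - s ∈ RingHom.ker (res x (base k k) (X.basicOpen r)) := by
          rw [RingHom.mem_ker, map_sub, he, sub_self]
        rw [ker_res_base (hU.basicOpen r), Ideal.mem_bot, sub_eq_zero] at this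
        exact this ▸ hs'
      rw [Ideal.map_map, show (res x (base k k) (X.basicOpen r)).comp (rho x (base k k) (X.basicOpen_le r)) =
        (X.presheaf.map (homOfLE (X.basicOpen_le r)).op).hom.comp (res x (base k k) U) from
          RingHom.ext fun t => res_map x (base k k) (X.basicOpen_le r) t, ← Ideal.map_map,
        Ideal.map_comap_of_surjective _ (res_props x (base k k) hU).1]
      exact h2
    · intro U hU
      letI := (sc x (base k k) U).toAlgebra
      haveI : IsArtinianRing (base k k) := inferInstance
      let F : Field (base k k) := inferInstanceAs (Field k)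
      exact Module.Flat.of_free
  · have key : ∀ J : (localHilb X x I₀).obj (base k k),
        idl J hU = (I₀.ideal ⟨U, hU⟩).comap (res x (base k k) U) := fun J => by
      refine le_antisymm (Ideal.map_le_iff_le_comap.1 (idl_res J hU).le) fun s hs => ?_
      obtain ⟨s', hs', he⟩ := (Ideal.mem_map_iff_of_surjective _ (res_props x (base k k) hU).1).1
        ((idl_res J hU).symm ▸ (show res x (base k k) U s ∈ I₀.ideal ⟨U, hU⟩ from hs))
      have : s' - s ∈ RingHom.ker (res x (base k k) U) := by rw [RingHom.mem_ker, map_sub, he, sub_self]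
      rw [ker_res_base hU, Ideal.mem_bot, sub_eq_zero] at this
      exact this ▸ hs'
    rw [key, key]

theorem toBase_surjective (A : Art k k) : Function.Surjective (toBase A) := A.res_surjective

theorem heps_localHilb : Heps (localHilb X x I₀) := fun _ _ _ _ h =>
  ⟨injective_cmp h (H24Art.fst_surjective h (toBase_surjective _))
      (H24Art.fst_surjective (H24Art.IsFibreProd.symm' h) (toBase_surjective _)),
    surjective_cmp h (toBase_surjective _)⟩

theorem hbar_localHilb : Hbar (localHilb X x I₀) := fun _ _ _ _ _ _ _ _ h hs => surjective_cmp h hs.1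

theorem hSq_localHilb : HSq (localHilb X x I₀) := fun _ _ _ _ _ _ h hs =>
  ⟨injective_cmp h (H24Art.fst_surjective h hs.1) (H24Art.fst_surjective (H24Art.IsFibreProd.symm' h) hs.1),
    surjective_cmp h hs.1⟩

end Groth.Agent.H24Hilb
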