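import Groth.Agent.H24Hilb.Sheaf

/-!
# Coordinates on sections of the trivial deformation
-/

set_option autoImplicit false
set_option linter.style.haveILetI false
universe u
open CategoryTheory CategoryTheory.Limits AlgebraicGeometry IsLocalRing ArtFun ArtFun.Art

namespace Groth.Agent.H24Hilb

variable {k : Type u} [Field k] {X : Scheme.{u}} (x : X ⟶ specPt k)

theorem pm_comp {A B C : Art k k} (g : A ⟶ B) (h : B ⟶ C) (U : X.Opens) (s : Γ(XA x A, up x A U)) :
    pm x (g ≫ h) U s = pm x h U (pm x g U s) := by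
  have := Scheme.Hom.appLE_comp_appLE (XAmap x h) (XAmap x g) (up x A U) (up x B U) (up x C U) (map_up x g U).ge
    (map_up x h U).ge
  simp only [← XAmap_comp] at this
  exact (ConcreteCategory.congr_hom this s).symm

/-- Bases of sections base change along every morphism of coefficient rings. -/
theorem exists_coords (B : Art k k) {U : X.Opens} (hU : IsAffineOpen U) :
    ∃ (ι : Type u) (co : ∀ (A : Art k k) (_ : B ⟶ A), Γ(XA x A, up x A U) → (ι →₀ A)),
      (∀ A g, Function.Bijective (co A g)) ∧
      (∀ A g s s', co A g (s + s') = co A g s + co A g s') ∧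
      (∀ A g a s i, co A g (sc x A U a * s) i = a * co A g s i) ∧
      (∀ A A' (g : B ⟶ A) (h : A ⟶ A') s i, co A' (g ≫ h) (pm x h U s) i = h (co A g s i)) := by
  classical
  haveI := flat_XApr x B
  letI := (sc x B U).toAlgebra
  haveI : Module.Flat B Γ(XA x B, up x B U) :=
    RingHom.flat_algebraMap_iff.mp (H24Def.flat_scalar (XApr x B) (isAffineOpen_up x B hU))
  haveI := H28Def.free_of_flat_artinian B Γ(XA x B, up x B U)
  let b := Module.Free.chooseBasis B Γ(XA x B, up x B U)
  have key : ∀ (A : Art k k) (g : B ⟶ A), ∃ co : Γ(XA x A, up x A U) → (Module.Free.ChooseBasisIndex B Γ(XA x B, up x B U) →₀ A),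
      Function.Bijective co ∧ (∀ s s', co (s + s') = co s + co s') ∧
      (∀ a s i, co (sc x A U a * s) i = a * co s i) ∧ (∀ i, co (pm x g U (b i)) = Finsupp.single i 1) := by
    intro A g
    letI := g.toAlgHom.toRingHom.toAlgebra
    letI := (sc x A U).toAlgebra
    letI := ((sc x A U).comp g.toAlgHom.toRingHom).toAlgebra
    letI := (pm x g U).toAlgebra
    haveI : IsScalarTower B A Γ(XA x A, up x A U) := IsScalarTower.of_algebraMap_eq fun _ => rfl
    haveI : IsScalarTower B Γ(XA x B, up x B U) Γ(XA x A, up x A U) :=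
      IsScalarTower.of_algebraMap_eq fun a => (pm_sc x g U a).symm
    have hP : IsPushout (CommRingCat.ofHom (algebraMap B A)) (CommRingCat.ofHom (algebraMap B Γ(XA x B, up x B U)))
        (CommRingCat.ofHom (algebraMap A Γ(XA x A, up x A U)))
        (CommRingCat.ofHom (algebraMap Γ(XA x B, up x B U) Γ(XA x A, up x A U))) :=
      H28Def.isPushout_scalar g.toAlgHom.toRingHom (XAmap x g) (XApr x A) (XApr x B) (isPullback_XAmap x g)
        (isAffineOpen_up x B hU) _ (map_up x g U).symm
    have hA : Algebra.IsPushout B A Γ(XA x B, up x B U) Γ(XA x A, up x A U) :=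
      CommRingCat.isPushout_iff_isPushout.1 hP
    let c := hA.out.basis b
    refine ⟨fun s => c.repr s, c.repr.bijective, fun s s' => map_add _ s s', fun a s i => ?_, fun i => ?_⟩
    · show c.repr (algebraMap A Γ(XA x A, up x A U) a * s) i = _
      rw [← Algebra.smul_def, map_smul]
      rfl
    · have : c i = pm x g U (b i) := hA.out.basis_apply b i
      show c.repr _ = _
      rw [← this, c.repr_self]
  choose co hbij hadd hsc hb using key
  refine ⟨_, co, hbij, hadd, hsc, fun A A' g h s i => ?_⟩
  let E : Γ(XA x A, up x A U) →+ (Module.Free.ChooseBasisIndex B Γ(XA x B, up x B U) →₀ A) :=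
    AddMonoidHom.mk' (co A g) (hadd A g)
  let E' : Γ(XA x A', up x A' U) →+ (Module.Free.ChooseBasisIndex B Γ(XA x B, up x B U) →₀ A') :=
    AddMonoidHom.mk' (co A' (g ≫ h)) (hadd A' (g ≫ h))
  obtain ⟨v, hv⟩ : ∃ v : Module.Free.ChooseBasisIndex B Γ(XA x B, up x B U) →₀ A,
      s = v.sum fun j a => sc x A U a * pm x g U (b j) := by
    refine ⟨co A g s, (hbij A g).1 ?_⟩
    show co A g s = E ((co A g s).sum fun j a => sc x A U a * pm x g U (b j))
    rw [map_finsuppSum]
    conv_lhs => rw [← (co A g s).sum_single]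
    refine Finsupp.sum_congr fun j _ => Finsupp.ext fun l => ?_
    show _ = co A g _ l
    rw [hsc, hb, Finsupp.single_apply, Finsupp.single_apply]
    split_ifs <;> simp
  subst hv
  show E' _ i = h (E _ i)
  rw [map_finsuppSum, map_finsuppSum, map_finsuppSum, Finsupp.sum, Finsupp.sum, Finsupp.finsetSum_apply,
    Finsupp.finsetSum_apply, map_sum]
  refine Finset.sum_congr rfl fun j _ => ?_
  show co A' (g ≫ h) _ i = h (co A g _ i)
  rw [map_mul, pm_sc, ← pm_comp, hsc, hsc, hb, hb, map_mul, Finsupp.single_apply, Finsupp.single_apply]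
  split_ifs <;> simp

end Groth.Agent.H24Hilb
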