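import Groth.Agent.H24Hilb.Torsor

/-!
# Functoriality of the difference of two embedded deformations
-/

set_option autoImplicit false
set_option linter.style.haveILetI false
universe u
open CategoryTheory CategoryTheory.Limits AlgebraicGeometry IsLocalRing ArtFun ArtFun.Art

namespace Groth.Agent.H24Hilb

variable {k : Type u} [Field k] {X : Scheme.{u}} {x : X ⟶ specPt k} {I₀ : X.IdealSheafData}

/-- Scalars restrict to scalars on the closed fibre. -/
theorem res_sc (B : Art k k) (U : X.Opens) (b : B) : res x B U (sc x B U b) = H24Def.scalar x U (B.res b) :=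
  H28Def.appLE_scalar B.res.toRingHom _ _ _ (isPullback_XAincl x B).w _ _ _ _

variable {B A B' A' : Art k k} {p : B ⟶ A} {p' : B' ⟶ A'} {n n' : ℕ} {t : Fin n → B} {t' : Fin n' → B'}

theorem Rel.map (ht : IsKerBasis p t) (ht' : IsKerBasis p' t') {φ : Fin n → (ClSub.idealMod I₀ ⟶ ClSub.quotMod I₀)}
    {I₁ I₂ : (localHilb X x I₀).obj B} (h : Rel t φ I₁ I₂) (g : B ⟶ B') (c : Fin n → Fin n' → B')
    (hc : ∀ i, g (t i) = ∑ j, c i j * t' j) (ψ : Fin n' → (ClSub.idealMod I₀ ⟶ ClSub.quotMod I₀))
    (hψ : ∀ j (U : X.Opens), IsAffineOpen U → ∀ m, (ψ j).app U m =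
      ∑ i, res x B' U (sc x B' U (c i j)) • (φ i).app U m) :
    Rel t' ψ ((localHilb X x I₀).map g I₁) ((localHilb X x I₀).map g I₂) := by
  intro U hU y hy m a hm ha
  set K := idl ((localHilb X x I₀).map g I₂) hU
  obtain ⟨m₁, a₁, hm₁, ha₁, hmem⟩ : ∃ (m : Γ(ClSub.idealMod I₀, U)) (a : Fin n' → Γ(X, U)),
      OmegaSh.idealSect I₀ U m = res x B' U y ∧ (∀ j, qt I₀ U (a j) = (ψ j).app U m) ∧
        y - tmul x t' hU a ∈ K := by
    rw [idl_map] at hy
    refine Submodule.span_induction (p := fun y _ => ∃ (m : Γ(ClSub.idealMod I₀, U)) (a : Fin n' → Γ(X, U)),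
      OmegaSh.idealSect I₀ U m = res x B' U y ∧ (∀ j, qt I₀ U (a j) = (ψ j).app U m) ∧
        y - tmul x t' hU a ∈ K) ?_ ?_ ?_ ?_ hy
    · rintro _ ⟨y₀, hy₀, rfl⟩
      obtain ⟨m, a, hm, ha⟩ := exists_data φ I₁ hU hy₀
      refine ⟨m, fun j => ∑ i, res x B' U (sc x B' U (c i j)) * a i, by rw [hm, res_pm], fun j => ?_, ?_⟩
      · rw [hψ j U hU, map_sum]
        exact Finset.sum_congr rfl fun i _ => by rw [qt_smul, ha]
      · have e : pm x g U (tmul x t hU a) = tmul x t' hU (fun j => ∑ i, res x B' U (sc x B' U (c i j)) * a i) := by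
          rw [tmul_eq ht' hU (fun j => ∑ i, sc x B' U (c i j) * pm x g U (Function.surjInv (res_props x B hU).1 (a i)))
            (fun j => by
              rw [map_sum]
              exact Finset.sum_congr rfl fun i _ => by
                rw [map_mul, res_pm, Function.surjInv_eq (res_props x B hU).1])]
          rw [tmul, map_sum]
          simp only [map_mul, pm_sc, hc, map_sum, Finset.sum_mul, Finset.mul_sum]
          rw [Finset.sum_comm]
          exact Finset.sum_congr rfl fun j _ => Finset.sum_congr rfl fun i _ => by ring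
        show pm x g U y₀ - _ ∈ idl _ hU
        rw [← e, ← map_sub, idl_map]
        exact Ideal.mem_map_of_mem _ (h U hU y₀ hy₀ m a hm ha)
    · exact ⟨0, 0, by rw [map_zero, map_zero], fun j => by rw [Pi.zero_apply, map_zero, map_zero],
        by rw [tmul_zero ht', sub_zero]; exact zero_mem _⟩
    · rintro u v - - ⟨m, a, hm, ha, hu⟩ ⟨m', a', hm', ha', hv⟩
      refine ⟨m + m', a + a', by rw [map_add, map_add, hm, hm'],
        fun j => by rw [Pi.add_apply, map_add, map_add, ha, ha'], ?_⟩
      rw [tmul_add ht', add_sub_add_comm]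
      exact add_mem hu hv
    · rintro r u - ⟨m, a, hm, ha, hu⟩
      refine ⟨res x B' U r • m, fun j => res x B' U r * a j, by rw [H29Blow.idealSect_smul, hm, smul_eq_mul, map_mul],
        fun j => by rw [qt_smul, ha]; exact ((ψ j).app_smul _ _).symm, ?_⟩
      rw [smul_eq_mul, ← mul_tmul ht', ← mul_sub]
      exact Ideal.mul_mem_left _ _ hu
  have hmm : m₁ = m := H29Blow.idealSect_injective I₀ U (hm₁.trans hm.symm)
  have h2 : tmul x t' hU (a₁ - a) ∈ K := (tmul_mem_iff ht' hU _ _).2 fun j => by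
    rw [← qt_eq_zero_iff hU, Pi.sub_apply, map_sub, ha₁, ha, hmm, sub_self]
  have h3 := add_mem hmem h2
  rw [tmul_sub ht'] at h3
  convert h3 using 1
  abel

end Groth.Agent.H24Hilb
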