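import Groth.Agent.H24Hilb.Coords
import Groth.Agent.H28Def.Lift
import Groth.Agent.H24Art.Basic

/-!
# Gluing embedded deformations over fibre products
-/

set_option autoImplicit false
set_option linter.style.haveILetI false
universe u
open CategoryTheory CategoryTheory.Limits AlgebraicGeometry IsLocalRing ArtFun ArtFun.Art

namespace Groth.Agent.H24Hilb

variable {k : Type u} [Field k] {X : Scheme.{u}} {x : X ⟶ specPt k} {I₀ : X.IdealSheafData}
  {B A A' A'' : Art k k} {p' : B ⟶ A'} {p'' : B ⟶ A''} {f' : A' ⟶ A} {f'' : A'' ⟶ A}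

/-- Sections over a fibre product: uniqueness. -/
theorem fib_ext (h : IsFibreProd p' p'' f' f'') {U : X.Opens} (hU : IsAffineOpen U)
    {s s' : Γ(XA x B, up x B U)} (h1 : pm x p' U s = pm x p' U s') (h2 : pm x p'' U s = pm x p'' U s') : s = s' := by
  obtain ⟨ι, co, hbij, -, -, hnat⟩ := exists_coords x B hU
  refine (hbij B (𝟙 B)).1 (Finsupp.ext fun i => h.inj _ _ ?_ ?_)
  · rw [← hnat B A' (𝟙 B) p', ← hnat B A' (𝟙 B) p', h1]
  · rw [← hnat B A'' (𝟙 B) p'', ← hnat B A'' (𝟙 B) p'', h2]

/-- Sections over a fibre product: existence. -/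
theorem fib_lift (h : IsFibreProd p' p'' f' f'') {U : X.Opens} (hU : IsAffineOpen U)
    (s' : Γ(XA x A', up x A' U)) (s'' : Γ(XA x A'', up x A'' U)) (he : pm x f' U s' = pm x f'' U s'') :
    ∃ s : Γ(XA x B, up x B U), pm x p' U s = s' ∧ pm x p'' U s = s'' := by
  classical
  obtain ⟨ι, co, hbij, -, -, hnat⟩ := exists_coords x B hU
  have hc : ∀ i, f' (co A' p' s' i) = f'' (co A'' p'' s'' i) := fun i => by
    rw [← hnat A' A p' f', ← hnat A'' A p'' f'', he]
    simp only [h.w]
  choose b hb' hb'' using fun i => h.surj _ _ (hc i)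
  have hfin : ∀ i, i ∉ (co A' p' s').support ∪ (co A'' p'' s'').support → b i = 0 := fun i hi => by
    rw [Finset.mem_union, not_or, Finsupp.notMem_support_iff, Finsupp.notMem_support_iff] at hi
    exact h.inj _ _ (by rw [hb', hi.1, map_zero]) (by rw [hb'', hi.2, map_zero])
  let v : ι →₀ B := Finsupp.onFinset _ b fun i hi => by_contra fun hh => hi (hfin i hh)
  obtain ⟨s, hs⟩ := (hbij B (𝟙 B)).2 v
  refine ⟨s, (hbij A' p').1 (Finsupp.ext fun i => ?_), (hbij A'' p'').1 (Finsupp.ext fun i => ?_)⟩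
  · have h1 := hnat B A' (𝟙 B) p' s i
    rw [hs] at h1
    simp only [Category.id_comp] at h1
    rw [h1]
    exact hb' i
  · have h1 := hnat B A'' (𝟙 B) p'' s i
    rw [hs] at h1
    simp only [Category.id_comp] at h1
    rw [h1]
    exact hb'' i

theorem mem_idl_map_iff {g : A' ⟶ A} (hg : Function.Surjective g) {U : X.Opens} (hU : IsAffineOpen U)
    (K : Ideal Γ(XA x A', up x A' U)) {z : Γ(XA x A, up x A U)} :
    z ∈ K.map (pm x g U) ↔ ∃ y ∈ K, pm x g U y = z :=
  Ideal.mem_map_iff_of_surjective _ (pm_props x g hg hU).1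

/-- Embedded deformations glue over fibre products along surjections. -/
theorem surjective_cmp (h : IsFibreProd p' p'' f' f'') (hs : Function.Surjective f'') :
    Function.Surjective (cmp (localHilb X x I₀) h) := by
  rintro ⟨⟨I', I''⟩, he⟩
  have he' : ∀ U (hU : IsAffineOpen U), (idl I' hU).map (pm x f' U) = (idl I'' hU).map (pm x f'' U) := fun U hU => by
    rw [← idl_map, ← idl_map]
    exact congrArg (fun I => idl I hU) he
  have hp' : Function.Surjective p' := H24Art.fst_surjective h hs
  let J : ∀ U : X.Opens, IsAffineOpen U → Ideal Γ(XA x B, up x B U) := fun U hU =>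
    (idl I' hU).comap (pm x p' U) ⊓ (idl I'' hU).comap (pm x p'' U)
  have hlift : ∀ U hU, ∀ y ∈ idl I' hU, ∃ s ∈ J U hU, pm x p' U s = y := by
    intro U hU y hy
    obtain ⟨y'', hy'', hyy⟩ := (mem_idl_map_iff hs hU _).1 (he' U hU ▸ Ideal.mem_map_of_mem _ hy)
    obtain ⟨s, hs', hs''⟩ := fib_lift h hU y y'' hyy.symm
    exact ⟨s, ⟨show pm x p' U s ∈ _ by rw [hs']; exact hy, show pm x p'' U s ∈ _ by rw [hs'']; exact hy''⟩, hs'⟩
  have hmap' : ∀ U hU, (J U hU).map (pm x p' U) = idl I' hU := fun U hU =>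
    le_antisymm (Ideal.map_le_iff_le_comap.2 inf_le_left) fun y hy => by
      obtain ⟨s, hs, rfl⟩ := hlift U hU y hy
      exact Ideal.mem_map_of_mem _ hs
  have hker : ∀ (U : X.Opens) (hU : IsAffineOpen U) (z : Γ(XA x A'', up x A'' U)), pm x f'' U z = 0 →
      ∃ w, w ∈ (RingHom.ker p'.toAlgHom.toRingHom).map (sc x B U) ∧ pm x p' U w = 0 ∧ pm x p'' U w = z := by
    intro U hU z hz
    obtain ⟨w, hw', hw''⟩ := fib_lift h hU 0 z (by rw [map_zero, hz])
    exact ⟨w, (pm_props x p' hp' hU).2 ▸ hw', hw', hw''⟩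
  have hmap'' : ∀ U hU, (J U hU).map (pm x p'' U) = idl I'' hU := by
    intro U hU
    refine le_antisymm (Ideal.map_le_iff_le_comap.2 inf_le_right) ?_
    letI := (sc x A'' U).toAlgebra
    haveI := idl_flat I'' hU
    set K : Ideal Γ(XA x A'', up x A'' U) :=
      (RingHom.ker f''.toAlgHom.toRingHom).map (algebraMap A'' Γ(XA x A'', up x A'' U))
    have hK : IsNilpotent K := by
      obtain ⟨n, hn⟩ := H24Art.isNilpotent_maximalIdeal A''
      refine ⟨n, le_bot_iff.1 ?_⟩
      rw [← Ideal.map_pow]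
      refine (Ideal.map_mono (Ideal.pow_right_mono (H24Art.ker_le_maximalIdeal f'') n)).trans ?_
      rw [hn, Ideal.zero_eq_bot, Ideal.map_bot]
    refine H24Def.le_of_le_sup_smul hK fun y hy => ?_
    have hy2 : pm x f'' U y ∈ Ideal.span (pm x f' U '' (idl I' hU : Set Γ(XA x A', up x A' U))) := by
      show pm x f'' U y ∈ (idl I' hU).map (pm x f' U)
      rw [he' U hU]
      exact Ideal.mem_map_of_mem _ hy
    have : ∀ z ∈ Ideal.span (pm x f' U '' (idl I' hU : Set Γ(XA x A', up x A' U))),
        ∃ q ∈ (J U hU).map (pm x p'' U), pm x f'' U q = z := by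
      intro z hz
      induction hz using Submodule.span_induction with
      | mem z hz =>
        obtain ⟨y', hy', rfl⟩ := hz
        obtain ⟨s, hsJ, rfl⟩ := hlift U hU y' hy'
        exact ⟨_, Ideal.mem_map_of_mem _ hsJ, by rw [← pm_comp, ← pm_comp, h.w]⟩
      | zero => exact ⟨0, zero_mem _, map_zero _⟩
      | add a b _ _ ha hb =>
        obtain ⟨q, hq, rfl⟩ := ha
        obtain ⟨q', hq', rfl⟩ := hb
        exact ⟨q + q', add_mem hq hq', map_add _ _ _⟩
      | smul c a _ ha =>
        obtain ⟨q, hq, rfl⟩ := ha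
        obtain ⟨c, rfl⟩ := (pm_props x f'' hs hU).1 c
        exact ⟨c * q, Ideal.mul_mem_left _ _ hq, map_mul _ _ _⟩
    obtain ⟨q, hq, hqy⟩ := this _ hy2
    have hqI : q ∈ idl I'' hU := Ideal.map_le_iff_le_comap.2 inf_le_right hq
    refine Submodule.mem_sup.2 ⟨q, hq, y - q, ?_, add_sub_cancel _ _⟩
    have hd : y - q ∈ K := by
      have h0 : y - q ∈ RingHom.ker (pm x f'' U) := by rw [RingHom.mem_ker, map_sub, hqy, sub_self]
      rwa [(pm_props x f'' hs hU).2] at h0
    have := H24Def.mem_smul_ker (A := Γ(XA x A'', up x A'' U)) (RingHom.ker f''.toAlgHom.toRingHom)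
      (Submodule.mkQ (idl I'' hU)) (Submodule.mkQ_surjective _) (x := y - q)
      (by rw [smul_eq_mul, Ideal.mul_top]; exact hd)
      ((Submodule.Quotient.mk_eq_zero _).2 (sub_mem hy hqI))
    rwa [Submodule.ker_mkQ] at this
  have hflat : ∀ U hU, letI := (sc x B U).toAlgebra; Module.Flat B (Γ(XA x B, up x B U) ⧸ J U hU) := by
    intro U hU
    letI := (sc x B U).toAlgebra
    letI := (sc x A' U).toAlgebra
    haveI := idl_flat I' hU
    haveI : Module.Flat B Γ(XA x B, up x B U) :=
      haveI := flat_XApr x B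
      RingHom.flat_algebraMap_iff.mp (H24Def.flat_scalar (XApr x B) (isAffineOpen_up x B hU))
    have hle : J U hU ≤ (idl I' hU).comap (pm x p' U) := inf_le_left
    let φ : Γ(XA x B, up x B U) ⧸ J U hU →+* Γ(XA x A', up x A' U) ⧸ idl I' hU := Ideal.quotientMap _ _ hle
    have hφs : Function.Surjective φ := by
      intro z
      obtain ⟨z, rfl⟩ := Ideal.Quotient.mk_surjective z
      obtain ⟨s, rfl⟩ := (pm_props x p' hp' hU).1 z
      exact ⟨Ideal.Quotient.mk _ s, rfl⟩
    have hKle : ∀ w ∈ (RingHom.ker p'.toAlgHom.toRingHom).map (sc x B U), pm x p' U w = 0 := fun w hw => by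
      rw [← RingHom.mem_ker, (pm_props x p' hp' hU).2]; exact hw
    refine H28Def.flat_of_lift p'.toAlgHom.toRingHom hp' (RingHom.ker_ne_top _) φ hφs (fun a => ?_) ?_ ?_
    · show Ideal.Quotient.mk _ (pm x p' U (sc x B U a)) = _
      rw [pm_sc]
      rfl
    · rw [IsScalarTower.algebraMap_eq B Γ(XA x B, up x B U), ← Ideal.map_map]
      refine le_antisymm (fun z hz => ?_) (Ideal.map_le_iff_le_comap.2 fun w hw => ?_)
      · obtain ⟨s, rfl⟩ := Ideal.Quotient.mk_surjective z
        have hs' : pm x p' U s ∈ idl I' hU := Ideal.Quotient.eq_zero_iff_mem.1 hz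
        obtain ⟨y, hy, hys⟩ := hlift U hU _ hs'
        have hd : s - y ∈ (RingHom.ker p'.toAlgHom.toRingHom).map (sc x B U) :=
          (pm_props x p' hp' hU).2 ▸ (show pm x p' U (s - y) = 0 by rw [map_sub, hys, sub_self])
        have h0 : Ideal.Quotient.mk (J U hU) s = Ideal.Quotient.mk (J U hU) (s - y) :=
          Ideal.Quotient.eq.2 (by rw [sub_sub_cancel]; exact hy)
        rw [h0]
        exact Ideal.mem_map_of_mem _ hd
      · show φ (Ideal.Quotient.mk _ w) = 0
        show Ideal.Quotient.mk _ (pm x p' U w) = 0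
        rw [hKle w hw, map_zero]
    · refine H28Def.lTensor_quotient_ideal_injective (J U hU) _ fun s hsJ hsK => ?_
      letI := (sc x A'' U).toAlgebra
      haveI := idl_flat I'' hU
      have hd : pm x f'' U (pm x p'' U s) = 0 := by
        rw [← pm_comp, ← h.w, pm_comp, hKle s hsK, map_zero]
      have h1 := H24Def.mem_smul_ker (A := Γ(XA x A'', up x A'' U)) (RingHom.ker f''.toAlgHom.toRingHom)
        (Submodule.mkQ (idl I'' hU)) (Submodule.mkQ_surjective _) (x := pm x p'' U s)
        (by
          rw [smul_eq_mul, Ideal.mul_top]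
          exact (pm_props x f'' hs hU).2 ▸ hd)
        ((Submodule.Quotient.mk_eq_zero _).2 hsJ.2)
      rw [Submodule.ker_mkQ, smul_eq_mul, ← hmap'' U hU] at h1
      obtain ⟨w, hw, hw', hw''⟩ : ∃ w ∈ (RingHom.ker p'.toAlgHom.toRingHom).map (sc x B U) * J U hU,
          pm x p' U w = 0 ∧ pm x p'' U w = pm x p'' U s := by
        refine Submodule.mul_induction_on (C := fun z => ∃ w ∈ (RingHom.ker p'.toAlgHom.toRingHom).map (sc x B U) * J U hU,
          pm x p' U w = 0 ∧ pm x p'' U w = z) h1 ?_ ?_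
        · intro a ha b hb
          have hb' : b ∈ Ideal.span (pm x p'' U '' (J U hU : Set Γ(XA x B, up x B U))) := hb
          clear hb
          revert a
          induction hb' using Submodule.span_induction with
          | mem b hb =>
            intro a ha
            obtain ⟨y, hy, rfl⟩ := hb
            obtain ⟨w, hw, hw', hw''⟩ := hker U hU a (by rw [← RingHom.mem_ker, (pm_props x f'' hs hU).2]; exact ha)
            exact ⟨w * y, Ideal.mul_mem_mul hw hy, by rw [map_mul, hw', zero_mul], by rw [map_mul, hw'']⟩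
          | zero => intro a _; exact ⟨0, zero_mem _, map_zero _, by rw [map_zero, mul_zero]⟩
          | add b b' _ _ hb hb' =>
            intro a ha
            obtain ⟨w, hw, h1, h2⟩ := hb a ha
            obtain ⟨v, hv, h3, h4⟩ := hb' a ha
            exact ⟨w + v, add_mem hw hv, by rw [map_add, h1, h3, add_zero], by rw [map_add, h2, h4, mul_add]⟩
          | smul c b _ hb =>
            intro a ha
            obtain ⟨w, hw, h1, h2⟩ := hb (a * c) (Ideal.mul_mem_right _ _ ha)
            exact ⟨w, hw, h1, by rw [h2, smul_eq_mul, mul_assoc]⟩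
        · rintro a b ⟨w, hw, h1, h2⟩ ⟨v, hv, h3, h4⟩
          exact ⟨w + v, add_mem hw hv, by rw [map_add, h1, h3, add_zero], by rw [map_add, h2, h4]⟩
      rw [fib_ext h hU (hw'.trans (hKle s hsK).symm) hw''] at hw
      exact hw
  have hres : ∀ U hU, (J U hU).map (res x B U) = I₀.ideal ⟨U, hU⟩ := by
    intro U hU
    rw [← idl_res I' hU, ← hmap' U hU, Ideal.map_map]
    congr 1
    exact RingHom.ext fun s => (res_pm x p' U s).symm
  have hloc : ∀ (U : X.Opens) (hU : IsAffineOpen U) (r : Γ(X, U)),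
      (J U hU).map (rho x B (X.basicOpen_le r)) = J _ (hU.basicOpen r) := by
    intro U hU r
    refine le_antisymm (Ideal.map_le_iff_le_comap.2 fun s hs => ⟨?_, ?_⟩) fun s hs => ?_
    · show pm x p' (X.basicOpen r) (rho x B (X.basicOpen_le r) s) ∈ idl I' (hU.basicOpen r)
      rw [rho, pm_map x p' (X.basicOpen_le r)]
      exact idl_restrict I' hU (hU.basicOpen r) (X.basicOpen_le r) hs.1
    · show pm x p'' (X.basicOpen r) (rho x B (X.basicOpen_le r) s) ∈ idl I'' (hU.basicOpen r)
      rw [rho, pm_map x p'' (X.basicOpen_le r)]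
      exact idl_restrict I'' hU (hU.basicOpen r) (X.basicOpen_le r) hs.2
    · obtain ⟨g, hgr, hgu, hnum, -⟩ := exists_num x B hU r
      obtain ⟨n, s', hs'⟩ := hnum s
      have key : ∀ (C : Art k k) (q : B ⟶ C) (I : (localHilb X x I₀).obj C),
          pm x q _ s ∈ idl I (hU.basicOpen r) → ∃ m, pm x q U (g ^ m * s') ∈ idl I hU := by
        intro C q I hq
        obtain ⟨g₂, hg₂, -, -, hden⟩ := exists_num x C hU r
        have h1 : rho x C (X.basicOpen_le r) (pm x q U s') ∈ (idl I hU).map (rho x C (X.basicOpen_le r)) := by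
          rw [idl_rho I hU (hU.basicOpen r), rho, ← pm_map x q (X.basicOpen_le r)]
          rw [show ((XA x B).presheaf.map (homOfLE (up_mono x B (X.basicOpen_le r))).op) s' =
            rho x B (X.basicOpen_le r) s' from rfl, ← hs', map_mul]
          exact Ideal.mul_mem_right _ _ hq
        obtain ⟨m, hm⟩ := hden _ _ h1
        have hd : IsNilpotent (pm x q U g - g₂) := by
          have h0 : pm x q U g - g₂ ∈ RingHom.ker (res x C U) := by
            rw [RingHom.mem_ker, map_sub, res_pm, hgr, hg₂, sub_self]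
          rw [(res_props x C hU).2] at h0
          obtain ⟨e, he⟩ := H24Art.isNilpotent_maximalIdeal C
          refine ⟨e, (Ideal.mem_bot).1 ?_⟩
          have := Ideal.pow_mem_pow h0 e
          rwa [← Ideal.map_pow, he, Ideal.zero_eq_bot, Ideal.map_bot] at this
        obtain ⟨e, he⟩ := hd
        refine ⟨m + e, ?_⟩
        rw [map_mul, map_pow, show pm x q U g = g₂ + (pm x q U g - g₂) from (add_sub_cancel _ _).symm, add_pow,
          Finset.sum_mul]
        refine Ideal.sum_mem _ fun i _ => ?_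
        by_cases hi : m ≤ i
        · obtain ⟨j, rfl⟩ := Nat.exists_eq_add_of_le hi
          rw [show ∀ a b c d : Γ(XA x C, up x C U), g₂ ^ (m + j) * a * c * d = g₂ ^ j * a * c * (g₂ ^ m * d) from
            fun a b c d => by ring]
          · exact Ideal.mul_mem_left _ _ hm
          · exact 0
        · rw [show m + e - i = e + (m - i) by omega, pow_add, he, zero_mul, mul_zero, zero_mul, zero_mul]
          exact zero_mem _
      obtain ⟨m₁, hm₁⟩ := key A' p' I' hs.1
      obtain ⟨m₂, hm₂⟩ := key A'' p'' I'' hs.2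
      have hJ : g ^ (m₁ + m₂) * s' ∈ J U hU := by
        refine ⟨?_, ?_⟩
        · show pm x p' U (g ^ (m₁ + m₂) * s') ∈ idl I' hU
          rw [pow_add, mul_comm (g ^ m₁), mul_assoc, map_mul]
          exact Ideal.mul_mem_left _ _ hm₁
        · show pm x p'' U (g ^ (m₁ + m₂) * s') ∈ idl I'' hU
          rw [pow_add, mul_assoc, map_mul]
          exact Ideal.mul_mem_left _ _ hm₂
      have h2 := Ideal.mem_map_of_mem (rho x B (X.basicOpen_le r)) hJ
      rw [map_mul, map_pow, ← hs', ← mul_assoc, mul_comm _ s, mul_assoc, ← pow_add] at h2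
      exact (Ideal.mul_unit_mem_iff_mem _ (hgu.pow _)).1 h2
  obtain ⟨I, hI⟩ := exists_of_up (x := x) B J hloc hres hflat
  refine ⟨I, Subtype.ext (Prod.ext (eq_of_idl fun U hU => ?_) (eq_of_idl fun U hU => ?_))⟩
  · show idl ((localHilb X x I₀).map p' I) hU = idl I' hU
    rw [show idl ((localHilb X x I₀).map p' I) hU = (idl I hU).map (pm x p' U) from idl_map p' I hU, hI, hmap']
  · show idl ((localHilb X x I₀).map p'' I) hU = idl I'' hU
    rw [show idl ((localHilb X x I₀).map p'' I) hU = (idl I hU).map (pm x p'' U) from idl_map p'' I hU, hI, hmap'']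

/-- Embedded deformations over a fibre product of surjections are determined by their images. -/
theorem injective_cmp (h : IsFibreProd p' p'' f' f'') (hp' : Function.Surjective p')
    (hp'' : Function.Surjective p'') : Function.Injective (cmp (localHilb X x I₀) h) := by
  classical
  have key : ∀ (I : (localHilb X x I₀).obj B) U (hU : IsAffineOpen U) s,
      pm x p' U s ∈ (idl I hU).map (pm x p' U) → pm x p'' U s ∈ (idl I hU).map (pm x p'' U) → s ∈ idl I hU := by
    intro I U hU s h1 h2
    letI := (sc x B U).toAlgebra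
    haveI := idl_flat I hU
    haveI := H28Def.free_of_flat_artinian B (Γ(XA x B, up x B U) ⧸ idl I hU)
    let b := Module.Free.chooseBasis B (Γ(XA x B, up x B U) ⧸ idl I hU)
    have hk : ∀ {C : Art k k} (q : B ⟶ C), Function.Surjective q → pm x q U s ∈ (idl I hU).map (pm x q U) →
        ∀ i, q (b.repr (Ideal.Quotient.mk _ s) i) = 0 := by
      intro C q hq hm i
      obtain ⟨y, hy, hys⟩ := (Ideal.mem_map_iff_of_surjective _ (pm_props x q hq hU).1).1 hm
      have hd : s - y ∈ (RingHom.ker q.toAlgHom.toRingHom).map (algebraMap B Γ(XA x B, up x B U)) :=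
        (pm_props x q hq hU).2 ▸ (show pm x q U (s - y) = 0 by rw [map_sub, hys, sub_self])
      have h3 : Ideal.Quotient.mk (idl I hU) s ∈
          (RingHom.ker q.toAlgHom.toRingHom) • (⊤ : Submodule B (Γ(XA x B, up x B U) ⧸ idl I hU)) := by
        rw [Ideal.smul_top_eq_map, Submodule.restrictScalars_mem, IsScalarTower.algebraMap_eq B Γ(XA x B, up x B U),
          ← Ideal.map_map, show Ideal.Quotient.mk (idl I hU) s = Ideal.Quotient.mk (idl I hU) (s - y) from
            Ideal.Quotient.eq.2 (by rw [sub_sub_cancel]; exact hy)]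
        exact Ideal.mem_map_of_mem _ hd
      refine Submodule.smul_induction_on (p := fun z => q (b.repr z i) = 0) h3 (fun r hr n _ => ?_) fun a c ha hc => ?_
      · show q (b.repr (r • n) i) = 0
        rw [map_smul, Finsupp.smul_apply, smul_eq_mul, map_mul, show q r = 0 from hr, zero_mul]
      · rw [map_add, Finsupp.add_apply, map_add, ha, hc, add_zero]
    refine Ideal.Quotient.eq_zero_iff_mem.1 (b.repr.injective (Finsupp.ext fun i => h.inj _ _ ?_ ?_))
    · rw [map_zero, Finsupp.coe_zero, Pi.zero_apply, map_zero, hk p' hp' h1]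
    · rw [map_zero, Finsupp.coe_zero, Pi.zero_apply, map_zero, hk p'' hp'' h2]
  intro I₁ I₂ he
  have e1 : (localHilb X x I₀).map p' I₁ = (localHilb X x I₀).map p' I₂ := congrArg (fun z => z.1.1) he
  have e2 : (localHilb X x I₀).map p'' I₁ = (localHilb X x I₀).map p'' I₂ := congrArg (fun z => z.1.2) he
  refine eq_of_idl fun U hU => le_antisymm (fun s hs => ?_) fun s hs => ?_
  · refine key I₂ U hU s ?_ ?_
    · rw [← idl_map, ← e1, idl_map]; exact Ideal.mem_map_of_mem _ hs
    · rw [← idl_map, ← e2, idl_map]; exact Ideal.mem_map_of_mem _ hs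
  · refine key I₁ U hU s ?_ ?_
    · rw [← idl_map, e1, idl_map]; exact Ideal.mem_map_of_mem _ hs
    · rw [← idl_map, e2, idl_map]; exact Ideal.mem_map_of_mem _ hs

end Groth.Agent.H24Hilb
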