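import Groth.Agent.H10Coh.SheafHom.Pullback
import Groth.Agent.H10Coh.Serre
import Groth.Agent.H29Ref.EvalStalk
import Groth.Agent.H8Props.FinLocFree.Global
import Groth.Agent.H8Props.FunDescent.Stalk

/-!
# Splitting extensions of locally free modules
-/

set_option autoImplicit false
set_option linter.style.haveILetI false
set_option backward.isDefEq.respectTransparency false
universe u
open CategoryTheory CategoryTheory.Limits AlgebraicGeometry
open Groth.Agent.H06Mod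

namespace Groth.Agent.H24Hilb

variable {X : Scheme.{u}}

open Groth.Agent.H16Derived.KFlat.Stalk Groth.Agent.H29Ref in
/-- Post-composition on the sheaf Hom of families of stalk maps. -/
noncomputable def postMap (G : X.Modules) {E Q : X.Modules} (π : E ⟶ Q) :
    RefHull.homSh G E ⟶ RefHull.homSh G Q :=
  H10Coh.SheafHom.curry (H10Coh.SheafHom.uncurry (𝟙 (RefHull.homSh G E)) ≫ π)

open Groth.Agent.H16Derived.KFlat.Stalk Groth.Agent.H29Ref in
theorem postMap_apply (G : X.Modules) {E Q : X.Modules} (π : E ⟶ Q) (V : X.Opens)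
    (f : Γ(RefHull.homSh G E, V)) (y : V) (m : Γ(G, V)) :
    ((postMap G π).app V f).1 y (G.presheaf.germ V y.1 y.2 m) =
      stalkLin π y.1 (f.1 y (G.presheaf.germ V y.1 y.2 m)) := by
  rw [postMap, H10Coh.SheafHom.curry_app, H10Coh.SheafHom.curryFun_apply, pair_germ, RefHull.stalkMapₗ_germ,
    ← germ_toLin f m y, stalkLin_germ, Scheme.Modules.Hom.comp_app, ConcreteCategory.comp_apply,
    H10Coh.SheafHom.uncurry_tensorSect]
  rfl


theorem evalStalk_postMap (E : X.Modules) {M N : X.Modules} (π : M ⟶ N) (x : X)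
    (v : (RefHull.homSh E M).presheaf.stalk x) (m : E.presheaf.stalk x) :
    RefHull.evalStalk E N x (stalkLin (postMap E π) x v) m = stalkLin π x (RefHull.evalStalk E M x v m) := by
  obtain ⟨U, hxU, f, rfl⟩ := TopCat.Presheaf.exists_germ_eq (RefHull.homSh E M).presheaf v
  obtain ⟨V, hxV, m, rfl⟩ := TopCat.Presheaf.exists_germ_eq E.presheaf m
  have hW : x ∈ U ⊓ V := ⟨hxU, hxV⟩
  rw [← TopCat.Presheaf.germ_res_apply (RefHull.homSh E M).presheaf (homOfLE (inf_le_left : U ⊓ V ≤ U)) x hW f,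
    ← TopCat.Presheaf.germ_res_apply E.presheaf (homOfLE (inf_le_right : U ⊓ V ≤ V)) x hW m, stalkLin_germ,
    RefHull.evalStalk_germ, RefHull.evalStalk_germ]
  exact postMap_apply E π (U ⊓ V) _ ⟨x, hW⟩ _

/-- `postMap` is the functor `𝓗om(E, ·)`. -/
theorem postMap_eq (G : X.Modules) [DCoh.HasSheafHom G] {E Q : X.Modules} (π : E ⟶ Q) :
    postMap G π = (H10Coh.SheafHom.homShIso G E).inv ≫ (DCoh.sheafHom G).map π ≫
      (H10Coh.SheafHom.homShIso G Q).hom := by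
  let adj := DCoh.sheafHomAdj G
  have h1 : (H10Coh.SheafHom.homShIso G E).inv =
      adj.homEquiv _ _ (H10Coh.SheafHom.uncurry (𝟙 (RefHull.homSh G E))) := rfl
  have h2 : (H10Coh.SheafHom.homShIso G Q).hom =
      H10Coh.SheafHom.curry ((adj.homEquiv _ _).symm (𝟙 ((DCoh.sheafHom G).obj Q))) := rfl
  rw [h1, h2, ← Category.assoc, ← H10Coh.SheafHom.curry_natural, ← Adjunction.homEquiv_naturality_right,
    ← Adjunction.homEquiv_naturality_left_symm, Category.comp_id, Equiv.symm_apply_apply]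
  rfl

/-- An extension of a finitely presented `E` by `A`, split on stalks, splits when `H¹(𝓗om(E, A))` vanishes. -/
theorem exists_section_of_stalkwise {S : ShortComplex X.Modules} (hS : S.ShortExact)
    (hfp : CohB1.IsFP S.X₃)
    (hloc : ∀ x : X, ∃ σ : S.X₃.presheaf.stalk x →ₗ[X.presheaf.stalk x] S.X₂.presheaf.stalk x,
      ∀ e, stalkLin S.g x (σ e) = e)
    [DCoh.HasSheafHom S.X₃] (h : Subsingleton (Coh.HH X ((DCoh.sheafHom S.X₃).obj S.X₁) 1)) :
    ∃ s : S.X₃ ⟶ S.X₂, s ≫ S.g = 𝟙 _ := by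
  let F := DCoh.sheafHom S.X₃
  haveI : F.IsRightAdjoint := ⟨_, ⟨DCoh.sheafHomAdj S.X₃⟩⟩
  haveI : PreservesLimitsOfSize.{0, 0} F := (DCoh.sheafHomAdj S.X₃).rightAdjoint_preservesLimits
  haveI : F.Additive := (DCoh.sheafHomAdj S.X₃).right_adjoint_additive
  haveI := hS.mono_f
  haveI := hS.epi_g
  haveI hpost : Epi (postMap S.X₃ S.g) := by
    refine (H8Props.FunDescent.epi_iff _).2 fun x w => ?_
    obtain ⟨σ, hσ⟩ := hloc x
    let θ : S.X₃.presheaf.stalk x →ₗ[X.presheaf.stalk x] S.X₂.presheaf.stalk x := σ.comp (show S.X₃.presheaf.stalk x →ₗ[X.presheaf.stalk x]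
      S.X₃.presheaf.stalk x from RefHull.evalStalk S.X₃ S.X₃ x w)
    obtain ⟨v, hv⟩ := (H29Ref.evalStalk_bijective S.X₃ S.X₂ hfp x).2 θ
    refine ⟨v, (H29Ref.evalStalk_bijective S.X₃ S.X₃ hfp x).1 (LinearMap.ext fun m => ?_)⟩
    rw [evalStalk_postMap, hv]
    exact hσ _
  have hmap : (DCoh.sheafHom S.X₃).map S.g = (H10Coh.SheafHom.homShIso S.X₃ S.X₂).hom ≫ postMap S.X₃ S.g ≫
      (H10Coh.SheafHom.homShIso S.X₃ S.X₃).inv := by
    rw [postMap_eq]
    simp
  haveI : Epi (F.map S.g) := by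
    show Epi ((DCoh.sheafHom S.X₃).map S.g)
    rw [hmap]
    infer_instance
  have hS' : (S.map F).ShortExact :=
    { exact := hS.exact.map_of_mono_of_preservesKernel F hS.mono_f inferInstance
      mono_f := inferInstanceAs (Mono (F.map S.f))
      epi_g := ‹_› }
  have hsur : Function.Surjective ((F.map S.g).app ⊤) :=
    H10Coh.surjective_app_of_subsingleton_HnM hS' ⊤ (@Equiv.subsingleton _ _ (H10Coh.HHEquiv _ 1).toEquiv.symm h)
  obtain ⟨z, hz⟩ := hsur ((H10Coh.SheafHom.homShIso S.X₃ S.X₃).inv.app ⊤ (RefHull.ofHom (𝟙 S.X₃) ⊤))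
  obtain ⟨s, hs⟩ := H10Coh.SheafHom.ofHom_surjective ((H10Coh.SheafHom.homShIso S.X₃ S.X₂).hom.app ⊤ z)
  refine ⟨s, H10Coh.SheafHom.ofHom_injective ?_⟩
  have h1 : (postMap S.X₃ S.g).app ⊤ (RefHull.ofHom s ⊤) = RefHull.ofHom (s ≫ S.g) ⊤ := by
    refine Subtype.ext (funext fun y => LinearMap.ext fun v => ?_)
    rw [← RefHull.evalStalk_germ S.X₃ S.X₃ y.1 y.2 ((postMap S.X₃ S.g).app ⊤ (RefHull.ofHom s ⊤)),
      ← stalkLin_germ, evalStalk_postMap, RefHull.evalStalk_germ]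
    show stalkLin S.g y.1 (RefHull.stalkMapₗ s y.1 v) = RefHull.stalkMapₗ (s ≫ S.g) y.1 v
    obtain ⟨U, hU, m, rfl⟩ := TopCat.Presheaf.exists_germ_eq S.X₃.presheaf v
    rw [RefHull.stalkMapₗ_germ, RefHull.stalkMapₗ_germ, stalkLin_germ]
    rfl
  rw [← h1, hs, postMap_eq]
  have hc : ∀ (w : Γ((DCoh.sheafHom S.X₃).obj S.X₂, ⊤)),
      ((H10Coh.SheafHom.homShIso S.X₃ S.X₂).inv ≫ (DCoh.sheafHom S.X₃).map S.g ≫
        (H10Coh.SheafHom.homShIso S.X₃ S.X₃).hom).app ⊤ ((H10Coh.SheafHom.homShIso S.X₃ S.X₂).hom.app ⊤ w) =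
      (H10Coh.SheafHom.homShIso S.X₃ S.X₃).hom.app ⊤ (((DCoh.sheafHom S.X₃).map S.g).app ⊤ w) := fun w => by
    show ((H10Coh.SheafHom.homShIso S.X₃ S.X₂).hom ≫ (H10Coh.SheafHom.homShIso S.X₃ S.X₂).inv ≫
      (DCoh.sheafHom S.X₃).map S.g ≫ (H10Coh.SheafHom.homShIso S.X₃ S.X₃).hom).app ⊤ w = _
    rw [Iso.hom_inv_id_assoc]
    rfl
  refine (hc z).trans ((congrArg _ hz).trans ?_)
  show ((H10Coh.SheafHom.homShIso S.X₃ S.X₃).inv ≫ (H10Coh.SheafHom.homShIso S.X₃ S.X₃).hom).app ⊤ _ = _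
  rw [Iso.inv_hom_id]
  rfl

/-- An extension of a finite locally free module `E` by `A` splits when `H¹(𝓗om(E, A))` vanishes. -/
theorem exists_section_of_subsingleton_HH_one {S : ShortComplex X.Modules} (hS : S.ShortExact)
    (hE : FlatMod.IsFinLocFree S.X₃) [DCoh.HasSheafHom S.X₃]
    (h : Subsingleton (Coh.HH X ((DCoh.sheafHom S.X₃).obj S.X₁) 1)) :
    ∃ s : S.X₃ ⟶ S.X₂, s ≫ S.g = 𝟙 _ := by
  refine exists_section_of_stalkwise hS (H8Props.FinLocFree.isFP_of_isFinLocFree _ hE) (fun x => ?_) h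
  haveI := hS.epi_g
  haveI := H8Props.FinLocFree.free_stalk _ hE x
  obtain ⟨σ, hσ⟩ := Module.projective_lifting_property (stalkLin S.g x) LinearMap.id
    ((H8Props.FunDescent.epi_iff S.g).1 hS.epi_g x)
  exact ⟨σ, fun e => LinearMap.congr_fun hσ e⟩

end Groth.Agent.H24Hilb
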