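import Groth.Agent.H24Hilb.Torsor

/-!
# Liftings of embedded deformations from ideals on affine opens
-/

set_option autoImplicit false
set_option linter.style.haveILetI false
universe u
open CategoryTheory CategoryTheory.Limits AlgebraicGeometry IsLocalRing ArtFun ArtFun.Art

namespace Groth.Agent.H24Hilb

variable {k : Type u} [Field k] {X : Scheme.{u}} {x : X ⟶ specPt k} {I₀ : X.IdealSheafData}
  {B A : Art k k} {p : B ⟶ A} {n : ℕ} {t : Fin n → B}

theorem exists_lift_of_ideals (ht : IsKerBasis p t) (hp : Function.Surjective p)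
    (I : (localHilb X x I₀).obj A) (J : ∀ U : X.Opens, IsAffineOpen U → Ideal Γ(XA x B, up x B U))
    (hres : ∀ U V hU hV (h : V ≤ U), ∀ z ∈ J U hU, rho x B h z ∈ J V hV)
    (hmap : ∀ U hU, (J U hU).map (pm x p U) = idl I hU)
    (hker : ∀ U hU, ∀ z ∈ J U hU, pm x p U z = 0 →
      ∃ a, (∀ i, a i ∈ I₀.ideal ⟨U, hU⟩) ∧ z = tmul x t hU a) :
    ∃ I' : (localHilb X x I₀).obj B, (localHilb X x I₀).map p I' = I ∧ ∀ U hU, idl I' hU = J U hU := by
  have hrp : ∀ U, (res x A U).comp (pm x p U) = res x B U := fun U => RingHom.ext fun s => res_pm x p U s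
  have hJ0 : ∀ U hU, (J U hU).map (res x B U) = I₀.ideal ⟨U, hU⟩ := fun U hU => by
    rw [← hrp, ← Ideal.map_map, hmap, idl_res]
  have htm : ∀ U hU (K : Ideal Γ(XA x B, up x B U)) (a : Fin n → Γ(X, U)), (∀ i, a i ∈ K.map (res x B U)) →
      tmul x t hU a ∈ K := by
    intro U hU K a ha
    choose z hz hza using fun i => (Ideal.mem_map_iff_of_surjective _ (res_props x B hU).1).1 (ha i)
    rw [tmul_eq ht hU z hza]
    exact Ideal.sum_mem _ fun i _ => Ideal.mul_mem_left _ _ (hz i)
  have hflat : ∀ U hU, letI := (sc x B U).toAlgebra; Module.Flat B (Γ(XA x B, up x B U) ⧸ J U hU) := by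
    intro U hU
    letI := (sc x B U).toAlgebra
    letI := (sc x A U).toAlgebra
    haveI : Module.Flat B Γ(XA x B, up x B U) :=
      haveI := flat_XApr x B
      RingHom.flat_algebraMap_iff.mp (H24Def.flat_scalar (XApr x B) (isAffineOpen_up x B hU))
    haveI := idl_flat I hU
    have hle : J U hU ≤ (idl I hU).comap (pm x p U) := Ideal.map_le_iff_le_comap.1 (hmap U hU).le
    let φ' : Γ(XA x B, up x B U) ⧸ J U hU →+* Γ(XA x A, up x A U) ⧸ idl I hU := Ideal.quotientMap _ _ hle
    have hφs : Function.Surjective φ' := by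
      intro z
      obtain ⟨z, rfl⟩ := Ideal.Quotient.mk_surjective z
      obtain ⟨s, rfl⟩ := (pm_props x p hp hU).1 z
      exact ⟨Ideal.Quotient.mk _ s, rfl⟩
    refine H28Def.flat_of_lift p.toAlgHom.toRingHom hp (RingHom.ker_ne_top _) φ' hφs (fun c => ?_) ?_ ?_
    · show Ideal.Quotient.mk _ (pm x p U (sc x B U c)) = _
      rw [pm_sc]
      rfl
    · rw [IsScalarTower.algebraMap_eq B Γ(XA x B, up x B U), ← Ideal.map_map]
      refine le_antisymm (fun z hz => ?_) (Ideal.map_le_iff_le_comap.2 fun w hw => ?_)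
      · obtain ⟨s, rfl⟩ := Ideal.Quotient.mk_surjective z
        have hs : pm x p U s ∈ (J U hU).map (pm x p U) :=
          (hmap U hU).symm ▸ Ideal.Quotient.eq_zero_iff_mem.1 hz
        obtain ⟨y, hy, hys⟩ := (Ideal.mem_map_iff_of_surjective _ (pm_props x p hp hU).1).1 hs
        have hd : s - y ∈ (RingHom.ker p.toAlgHom.toRingHom).map (sc x B U) :=
          (pm_props x p hp hU).2 ▸ (show pm x p U (s - y) = 0 by rw [map_sub, hys, sub_self])
        rw [show Ideal.Quotient.mk (J U hU) s = Ideal.Quotient.mk (J U hU) (s - y) from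
          Ideal.Quotient.eq.2 (by rw [sub_sub_cancel]; exact hy)]
        exact Ideal.mem_map_of_mem _ hd
      · show Ideal.Quotient.mk _ (pm x p U w) = 0
        have : pm x p U w = 0 := by
          rw [← RingHom.mem_ker, (pm_props x p hp hU).2]; exact hw
        rw [this, map_zero]
    · refine H28Def.lTensor_quotient_ideal_injective (J U hU) _ fun s hsJ hsK => ?_
      have h0 : pm x p U s = 0 := by rw [← RingHom.mem_ker, (pm_props x p hp hU).2]; exact hsK
      obtain ⟨a, ha, rfl⟩ := hker U hU s hsJ h0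
      choose z hz hzc using fun i =>
        (Ideal.mem_map_iff_of_surjective _ (res_props x B hU).1).1 (hJ0 U hU ▸ ha i)
      rw [tmul_eq ht hU z hzc]
      exact Ideal.sum_mem _ fun i _ => Ideal.mul_mem_mul (Ideal.mem_map_of_mem _ (ht.mem i)) (hz i)
  have hloc : ∀ (U : X.Opens) (hU : IsAffineOpen U) (r : Γ(X, U)),
      (J U hU).map (rho x B (X.basicOpen_le r)) = J _ (hU.basicOpen r) := by
    intro U hU r
    have hle : X.basicOpen r ≤ U := X.basicOpen_le r
    have hV := hU.basicOpen r
    refine le_antisymm (Ideal.map_le_iff_le_comap.2 fun z hz => hres U _ hU hV hle z hz) fun z hz => ?_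
    have hpr : (pm x p (X.basicOpen r)).comp (rho x B hle) = (rho x A hle).comp (pm x p U) :=
      RingHom.ext fun s => pm_map x p hle s
    have h1 : pm x p _ z ∈ ((J U hU).map (rho x B hle)).map (pm x p (X.basicOpen r)) := by
      rw [Ideal.map_map, hpr, ← Ideal.map_map, hmap, idl_rho I hU hV hle, ← hmap _ hV]
      exact Ideal.mem_map_of_mem _ hz
    obtain ⟨w, hw, hwz⟩ := (Ideal.mem_map_iff_of_surjective _ (pm_props x p hp hV).1).1 h1
    have hw' : w ∈ J _ hV :=
      Ideal.map_le_iff_le_comap.2 (fun z hz => hres U _ hU hV hle z hz) hw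
    obtain ⟨a, ha, he⟩ := hker _ hV _ (sub_mem hz hw') (by rw [map_sub, hwz, sub_self])
    have hres' : ((J U hU).map (rho x B hle)).map (res x B (X.basicOpen r)) = I₀.ideal ⟨_, hV⟩ := by
      rw [← hrp, ← Ideal.map_map, Ideal.map_map (rho x B hle), hpr, ← Ideal.map_map, hmap, idl_rho I hU hV hle,
        idl_res]
    have h2 := add_mem (htm _ hV _ a fun i => hres'.symm ▸ ha i) hw
    rwa [← he, sub_add_cancel] at h2
  obtain ⟨I', hI'⟩ := exists_of_up (x := x) B J hloc hJ0 hflat
  exact ⟨I', eq_of_idl fun U hU => by rw [idl_map, hI', hmap], hI'⟩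

end Groth.Agent.H24Hilb
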