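import Groth.Agent.H24Hilb.RegularObs
import Groth.Agent.H24Hilb.HomSplit
import Groth.Agent.H29Ref.EvalStalk
import Groth.Agent.H10Coh.QCohExt
import Groth.Agent.H10Coh.BaseChange
import Groth.Agent.H17.OmegaLocal

/-!
# Embedded deformations which lift locally and have `H¹(N) = 0`
-/

set_option autoImplicit false
set_option linter.style.haveILetI false
universe u
open CategoryTheory CategoryTheory.Limits AlgebraicGeometry IsLocalRing ArtFun ArtFun.Art TensorProduct
open Groth.Agent.H06Mod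

namespace Groth.Agent.H24Hilb

variable {k : Type u} [Field k] {X : Scheme.{u}} {x : X ⟶ specPt k} {I₀ : X.IdealSheafData}
  {B A : Art k k} {p : B ⟶ A}

/-- Generators in the preimage whose relations lift. -/
structure LocalLift (p : B ⟶ A) (I : (localHilb X x I₀).obj A) {U : X.Opens} (hU : IsAffineOpen U) {r : ℕ}
    (f : Fin r → Γ(XA x B, up x B U)) : Prop where
  mem : ∀ j, f j ∈ pre p I hU
  span : I₀.ideal ⟨U, hU⟩ = Ideal.span (Set.range fun j => res x B U (f j))
  rel : ∀ c : Fin r → Γ(XA x A, up x A U), ∑ j, c j * pm x p U (f j) = 0 →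
    ∃ c' : Fin r → Γ(XA x B, up x B U), (∀ j, pm x p U (c' j) = c j) ∧ ∑ j, c' j * f j = 0

variable {t : Fin 1 → B} (hp : Function.Surjective p) (ht : IsKerBasis p t)
  {I : (localHilb X x I₀).obj A} {U : X.Opens} {hU : IsAffineOpen U} {r : ℕ} {f : Fin r → Γ(XA x B, up x B U)}
  (hf : LocalLift p I hU f)

include hf

theorem LocalLift.idl_le : idl I hU ≤ Ideal.span (Set.range fun j => pm x p U (f j)) := by
  obtain ⟨N, hN⟩ := H24Art.isNilpotent_maximalIdeal A
  refine H24Def.le_of_le_sup_smul (K := (maximalIdeal A).map (sc x A U)) ⟨N, ?_⟩ ?_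
  · rw [← Ideal.map_pow, hN, Ideal.zero_eq_bot, Ideal.map_bot, Ideal.zero_eq_bot]
  intro y hy
  have hy0 : res x A U y ∈ Ideal.span (Set.range fun j => res x B U (f j)) :=
    hf.span ▸ idl_res I hU ▸ Ideal.mem_map_of_mem _ hy
  obtain ⟨c, hc⟩ := Ideal.mem_span_range_iff_exists_fun.1 hy0
  choose c' hc' using fun j => (res_props x A hU).1 (c j)
  have hd : y - ∑ j, c' j * pm x p U (f j) ∈ (maximalIdeal A).map (sc x A U) * idl I hU := by
    refine mem_maximal_mul I hU (sub_mem hy (Ideal.sum_mem _ fun j _ => Ideal.mul_mem_left _ _ (hf.mem j))) ?_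
    rw [map_sub, map_sum, ← hc, sub_eq_zero]
    exact Finset.sum_congr rfl fun j _ => by rw [map_mul, hc', res_pm]
  rw [← sub_add_cancel y (∑ j, c' j * pm x p U (f j))]
  exact add_mem (Submodule.mem_sup_right hd)
    (Submodule.mem_sup_left (Ideal.sum_mem _ fun j _ => Ideal.mul_mem_left _ _ (Ideal.subset_span ⟨j, rfl⟩)))

include hp ht

theorem LocalLift.exists_sub_tmul_mem {q : Γ(XA x B, up x B U)} (hq : q ∈ pre p I hU) :
    ∃ a : Γ(X, U), q - tmul x t hU (fun _ => a) ∈ Ideal.span (Set.range f) := by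
  obtain ⟨c, hc⟩ := Ideal.mem_span_range_iff_exists_fun.1 (hf.idl_le hq)
  choose c' hc' using fun j => (pm_props x p hp hU).1 (c j)
  obtain ⟨b, hb⟩ := exists_tmul ht hU hp (s := q - ∑ j, c' j * f j) (by
    rw [map_sub, map_sum, ← hc, sub_eq_zero]
    exact Finset.sum_congr rfl fun j _ => by rw [map_mul, hc'])
  refine ⟨b 0, ?_⟩
  rw [show (fun _ => b 0) = b from funext fun i => by rw [Fin.fin_one_eq_zero i], ← hb, sub_sub_cancel]
  exact Ideal.sum_mem _ fun j _ => Ideal.mul_mem_left _ _ (Ideal.subset_span ⟨j, rfl⟩)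

theorem LocalLift.maximal_mul_pre_le :
    (maximalIdeal B).map (sc x B U) * pre p I hU ≤ Ideal.span (Set.range f) := by
  refine Ideal.mul_le.2 fun s hs q hq => ?_
  obtain ⟨a, ha⟩ := hf.exists_sub_tmul_mem hp ht hq
  have h0 : s * tmul x t hU (fun _ => a) = 0 := by
    rw [tmul, Finset.mul_sum]
    refine Finset.sum_eq_zero fun i _ => ?_
    obtain rfl : i = 0 := Fin.fin_one_eq_zero i
    rw [← mul_assoc, mul_comm s, maximal_mul_t ht hs, zero_mul]
  rw [← sub_add_cancel q (tmul x t hU fun _ => a), mul_add, h0, add_zero]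
  exact Ideal.mul_mem_left _ _ ha

theorem LocalLift.mem_of_tmul_mem {a : Γ(X, U)} (h : tmul x t hU (fun _ => a) ∈ Ideal.span (Set.range f)) :
    a ∈ I₀.ideal ⟨U, hU⟩ := by
  obtain ⟨c, hc⟩ := Ideal.mem_span_range_iff_exists_fun.1 h
  obtain ⟨c', hc', hrel⟩ := hf.rel (fun j => pm x p U (c j)) (by
    rw [← pm_tmul ht hU (fun _ => a), ← hc, map_sum]
    exact Finset.sum_congr rfl fun j _ => by rw [map_mul])
  choose b hb using fun j => exists_tmul ht hU hp (s := c j - c' j) (by rw [map_sub, hc', sub_self])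
  have h0 : tmul x t hU (fun _ => a) = tmul x t hU (∑ j, fun i => res x B U (f j) * b j i) := by
    have hs : ∀ (s : Finset (Fin r)) (φ : Fin r → Fin 1 → Γ(X, U)),
        tmul x t hU (∑ j ∈ s, φ j) = ∑ j ∈ s, tmul x t hU (φ j) := by
      intro s φ
      induction s using Finset.cons_induction with
      | empty => rw [Finset.sum_empty, Finset.sum_empty, tmul_zero ht]
      | cons a s ha ih => rw [Finset.sum_cons, Finset.sum_cons, tmul_add ht, ih]
    rw [hs, ← hc, ← sub_zero (∑ j, c j * f j), ← hrel, ← Finset.sum_sub_distrib]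
    exact Finset.sum_congr rfl fun j _ => by
      rw [← sub_mul, hb, mul_comm]
      exact mul_tmul ht hU _ _
  rw [← sub_eq_zero, ← tmul_sub ht] at h0
  have := congrFun (tmul_inj ht hU h0) 0
  rw [Pi.sub_apply, Pi.zero_apply, sub_eq_zero, Finset.sum_apply] at this
  rw [this, hf.span]
  exact Ideal.sum_mem _ fun j _ => Ideal.mul_mem_right _ _ (Ideal.subset_span ⟨j, rfl⟩)

variable (ι : ClSub.quotMod I₀ ⟶ obsMod p I)
  (hι : ∀ (U : X.Opens) (hU : IsAffineOpen U) (a : Γ(X, U)),
    emb p I U (ι.app U (qt I₀ U a)) = cls p I U (tmul x t hU fun _ => a))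

include hι

/-- The retraction on sections over the chart. -/
theorem LocalLift.exists_retraction_app : ∃ ρ : Γ(obsMod p I, U) →+ Γ(ClSub.quotMod I₀, U),
    (∀ (c : Γ(X, U)) m, ρ (c • m) = c • ρ m) ∧ ∀ z, ρ (ι.app U z) = z := by
  have hta : ∀ a : Γ(X, U), tmul x t hU (fun _ => a) ∈ pre p I hU := fun a => by
    show pm x p U _ ∈ idl I hU
    rw [pm_tmul ht]
    exact zero_mem _
  have hval : ∀ m : Γ(obsMod p I, U), ∃ z, ∀ q ∈ pre p I hU, emb p I U m = cls p I U q →
      ∀ a, q - tmul x t hU (fun _ => a) ∈ Ideal.span (Set.range f) → qt I₀ U a = z := by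
    intro m
    obtain ⟨q, hq, hm⟩ := cls_emb I hp hU m
    obtain ⟨a, ha⟩ := hf.exists_sub_tmul_mem hp ht hq
    refine ⟨qt I₀ U a, fun q' hq' hm' a' ha' => ?_⟩
    have hqq : q - q' ∈ (maximalIdeal B).map (sc x B U) * pre p I hU :=
      (cls_eq_zero_iff I hp hU _).1 (by rw [map_sub, ← hm, ← hm', sub_self])
    rw [← sub_eq_zero, ← map_sub]
    refine (qt_eq_zero_iff hU _).2 (hf.mem_of_tmul_mem hp ht ?_)
    rw [show (fun _ : Fin 1 => a' - a) = (fun _ => a') - (fun _ => a) from rfl, tmul_sub ht,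
      show tmul x t hU (fun _ => a') - tmul x t hU (fun _ => a) =
        (q - tmul x t hU (fun _ => a)) - (q' - tmul x t hU (fun _ => a')) - (q - q') by ring]
    exact sub_mem (sub_mem ha ha') (hf.maximal_mul_pre_le hp ht hqq)
  choose ρ hρ using hval
  have hρ' : ∀ m q, q ∈ pre p I hU → emb p I U m = cls p I U q →
      ∀ a, q - tmul x t hU (fun _ => a) ∈ Ideal.span (Set.range f) → ρ m = qt I₀ U a :=
    fun m q hq hm a ha => (hρ m q hq hm a ha).symm
  refine ⟨AddMonoidHom.mk' ρ fun m m' => ?_, fun c m => ?_, fun z => ?_⟩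
  · obtain ⟨q, hq, hm⟩ := cls_emb I hp hU m
    obtain ⟨q', hq', hm'⟩ := cls_emb I hp hU m'
    obtain ⟨a, ha⟩ := hf.exists_sub_tmul_mem hp ht hq
    obtain ⟨a', ha'⟩ := hf.exists_sub_tmul_mem hp ht hq'
    rw [hρ' m q hq hm a ha, hρ' m' q' hq' hm' a' ha', ← map_add]
    refine hρ' _ (q + q') (add_mem hq hq') (by rw [map_add, hm, hm', map_add]) _ ?_
    rw [show (fun _ : Fin 1 => a + a') = (fun _ => a) + (fun _ => a') from rfl, tmul_add ht,
      show q + q' - (tmul x t hU (fun _ => a) + tmul x t hU (fun _ => a')) =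
        (q - tmul x t hU (fun _ => a)) + (q' - tmul x t hU (fun _ => a')) by ring]
    exact add_mem ha ha'
  · obtain ⟨q, hq, hm⟩ := cls_emb I hp hU m
    obtain ⟨a, ha⟩ := hf.exists_sub_tmul_mem hp ht hq
    obtain ⟨c', rfl⟩ := (res_props x B hU).1 c
    show ρ (res x B U c' • m) = res x B U c' • ρ m
    rw [hρ' m q hq hm a ha, hρ' _ (c' * q) (Ideal.mul_mem_left _ _ hq) (emb_smul I hp hU c' hq hm)
      (res x B U c' * a) (by
        rw [← mul_tmul ht hU c' (fun _ => a), ← mul_sub]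
        exact Ideal.mul_mem_left _ _ ha)]
    exact qt_smul _ _
  · obtain ⟨a, rfl⟩ := qt_surjective hU z
    show ρ (ι.app U (qt I₀ U a)) = qt I₀ U a
    exact hρ' _ _ (hta a) (hι U hU a) a (by rw [sub_self]; exact zero_mem _)

theorem LocalLift.exists_stalk_retraction [(obsMod p I).IsQuasicoherent] {v : X} (hv : v ∈ U) :
    ∃ θ : (obsMod p I).presheaf.stalk v →ₗ[X.presheaf.stalk v] (ClSub.quotMod I₀).presheaf.stalk v,
      ∀ z, θ (stalkLin ι v z) = z := by
  obtain ⟨ρ, hρs, hρι⟩ := hf.exists_retraction_app hp ht ι hι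
  obtain ⟨θ, hθ⟩ := H29Ref.exists_stalk_lift (ClSub.quotMod I₀) (F := obsMod p I) ‹_› hU ⟨v, hv⟩
    (((ClSub.quotMod I₀).presheaf.germ U v hv).hom.comp ρ) fun a m => by
      show (ClSub.quotMod I₀).presheaf.germ U v hv (ρ (a • m)) = _
      rw [hρs]
      exact H06Mod.germ_smul _ U hv a (ρ m)
  let θ' : (obsMod p I).presheaf.stalk v →ₗ[X.presheaf.stalk v] (ClSub.quotMod I₀).presheaf.stalk v := θ
  refine ⟨θ', fun z => ?_⟩
  have hq : (ClSub.quotMod I₀).IsQuasicoherent :=
    haveI := H10Coh.isQuasicoherent_unit (X := I₀.subscheme)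
    H10Coh.isQuasicoherent_pushforward_of_isAffineHom I₀.subschemeι _
  have hz := Submodule.eq_top_iff'.1 (H29Ref.span_germ_affine (ClSub.quotMod I₀) hq hU id
    (by rw [Set.range_id, Submodule.span_univ]) ⟨v, hv⟩) z
  induction hz using Submodule.span_induction with
  | mem w hw =>
    obtain ⟨z₀, rfl⟩ := hw
    rw [stalkLin_germ]
    refine (hθ _).trans ?_
    show (ClSub.quotMod I₀).presheaf.germ U v hv (ρ (ι.app U z₀)) = _
    rw [hρι]
    rfl
  | zero => rw [map_zero, map_zero]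
  | add a b _ _ ha hb => rw [map_add, map_add, ha, hb]
  | smul c a _ ha => rw [map_smul, map_smul, ha]

omit hf hp ht hι

/-- The quotient by the kernel of a closed immersion. -/
noncomputable def quotPushIso {Z : Scheme.{u}} (i : Z ⟶ X) [IsClosedImmersion i] :
    ClSub.quotMod i.ker ≅ (Scheme.Modules.pushforward i).obj (Coh.structureModule Z) :=
  (Scheme.Modules.pushforward i.imageι).mapIso (asIso (ClSub.unitToPush i.toImage)) ≪≫
    (Scheme.Modules.pushforwardComp i.toImage i.imageι).app (Coh.structureModule Z) ≪≫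
    (Scheme.Modules.pushforwardCongr i.toImage_imageι).app (Coh.structureModule Z)

omit ι
variable {Z : Scheme.{u}} (i : Z ⟶ X) [IsClosedImmersion i]

set_option maxHeartbeats 800000 in
theorem exists_lift_of_HH_one (e₂ : ClSub.quotMod I₀ ≅ (Scheme.Modules.pushforward i).obj (Coh.structureModule Z))
    (ι : ClSub.quotMod I₀ ⟶ obsMod p I) (π : obsMod p I ⟶ ClSub.idealMod I₀) (hz : ι ≫ π = 0)
    (hS : (ShortComplex.mk ι π hz).ShortExact)
    (hret : ∀ y : Z, ∃ θ : (obsMod p I).presheaf.stalk (i y) →ₗ[X.presheaf.stalk (i y)]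
      (ClSub.quotMod I₀).presheaf.stalk (i y), ∀ z, θ (stalkLin ι (i y) z) = z)
    (hfp : CohB1.IsFP ((Scheme.Modules.pullback i).obj (ClSub.idealMod I₀)))
    [DCoh.HasSheafHom ((Scheme.Modules.pullback i).obj (ClSub.idealMod I₀))]
    (h1 : Subsingleton (Coh.HH Z ((DCoh.sheafHom ((Scheme.Modules.pullback i).obj
      (ClSub.idealMod I₀))).obj (Coh.structureModule Z)) 1)) :
    ∃ r : obsMod p I ⟶ ClSub.quotMod I₀, ι ≫ r = 𝟙 _ := by
  let L := Scheme.Modules.pullback i
  let adj := Scheme.Modules.pullbackPushforwardAdjunction i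
  let O := Coh.structureModule Z
  haveI : IsIso (adj.counit.app O) := Closed.isIso_counit_of_isClosedImmersion i O
  haveI : PreservesColimitsOfSize.{0, 0} L := adj.leftAdjoint_preservesColimits
  haveI : L.PreservesZeroMorphisms := Functor.preservesZeroMorphisms_of_isLeftAdjoint L
  haveI := hS.epi_g
  haveI : Epi π := hS.epi_g
  have hR : ∀ y : Z, ∃ R : (L.obj (obsMod p I)).presheaf.stalk y →ₗ[Z.presheaf.stalk y]
      (L.obj (ClSub.quotMod I₀)).presheaf.stalk y, ∀ z, R (stalkLin (L.map ι) y z) = z := by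
    intro y
    obtain ⟨θ, hθ⟩ := hret y
    letI := H06Mod.stalkAlgebra i y
    refine ⟨(pullStalkEquiv i (ClSub.quotMod I₀) y).toLinearMap.comp
      ((θ.baseChange (Z.presheaf.stalk y)).comp
        (pullStalkEquiv i (obsMod p I) y).symm.toLinearMap), fun z => ?_⟩
    obtain ⟨u, rfl⟩ := (pullStalkEquiv i (ClSub.quotMod I₀) y).surjective z
    simp only [LinearMap.comp_apply, LinearEquiv.coe_coe]
    rw [H8Props.FunDescent.pullStalkEquiv_naturality, LinearEquiv.symm_apply_apply]
    refine congrArg _ ?_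
    induction u using TensorProduct.induction_on with
    | zero => simp
    | tmul a b => simp [hθ]
    | add a b ha hb => rw [map_add, map_add, ha, hb]
  haveI : Mono (L.map ι) := (H8Props.FunDescent.mono_iff _).2 fun y a b h => by
    obtain ⟨R, hR⟩ := hR y
    rw [← hR a, ← hR b, h]
  haveI : Epi (L.map π) := inferInstance
  have hS' : ((ShortComplex.mk ι π hz).map L).ShortExact :=
    { exact := hS.exact.map_of_epi_of_preservesCokernel L hS.epi_g inferInstance
      mono_f := ‹_›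
      epi_g := ‹_› }
  let e : L.obj (ClSub.quotMod I₀) ≅ O := L.mapIso e₂ ≪≫ asIso (adj.counit.app O)
  have hz' : (e.inv ≫ L.map ι) ≫ L.map π = 0 := by
    rw [Category.assoc, ← L.map_comp, hz, L.map_zero, comp_zero]
  have hS'' : (ShortComplex.mk (e.inv ≫ L.map ι) (L.map π) hz').ShortExact :=
    ShortComplex.shortExact_of_iso (ShortComplex.isoMk (S₁ := (ShortComplex.mk ι π hz).map L)
      (S₂ := ShortComplex.mk (e.inv ≫ L.map ι) (L.map π) hz') e (Iso.refl _) (Iso.refl _)
      ((Iso.hom_inv_id_assoc e _).trans (Category.comp_id _).symm)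
      ((Category.id_comp _).trans (Category.comp_id _).symm)) hS'
  haveI : DCoh.HasSheafHom (ShortComplex.mk (e.inv ≫ L.map ι) (L.map π) hz').X₃ := ‹_›
  obtain ⟨sec, hsec⟩ := exists_section_of_stalkwise hS'' hfp (fun y => by
    obtain ⟨R, hR⟩ := hR y
    let F := stalkLin (L.map ι) y
    let G := stalkLin (L.map π) y
    have hG : Function.Surjective G := (H8Props.FunDescent.epi_iff _).1 ‹_› y
    have hGF : ∀ a, G a = 0 ↔ a ∈ Set.range F := fun a => (stalk_exact _ hS' y) a
    obtain ⟨σ₀, hσ₀⟩ : ∃ σ₀ : _ → _, Function.RightInverse σ₀ G := hG.hasRightInverse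
    have key : ∀ a b, G a = G b → a - F (R a) = b - F (R b) := by
      intro a b h
      obtain ⟨c, hc⟩ := (hGF (a - b)).1 (by rw [map_sub, h, sub_self])
      have : F (R (a - b)) = a - b := by rw [← hc, hR]
      rw [map_sub, map_sub] at this
      linear_combination (norm := abel) -this
    refine ⟨{ toFun := fun e => σ₀ e - F (R (σ₀ e)), map_add' := fun a b => ?_, map_smul' := fun c a => ?_ },
      fun e => ?_⟩
    · rw [key (σ₀ (a + b)) (σ₀ a + σ₀ b) (by rw [map_add, hσ₀, hσ₀, hσ₀]), map_add, map_add]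
      abel
    · rw [RingHom.id_apply, key (σ₀ (c • a)) (c • σ₀ a) (by rw [map_smul, hσ₀, hσ₀]), map_smul, map_smul, smul_sub]
    · show G (σ₀ e - F (R (σ₀ e))) = e
      rw [map_sub, hσ₀, (hGF _).2 ⟨_, rfl⟩, sub_zero]) h1
  let sp := ShortComplex.Splitting.ofExactOfSection _ hS''.exact sec hsec hS''.mono_f
  refine ⟨adj.unit.app (obsMod p I) ≫ (Scheme.Modules.pushforward i).map sp.r ≫ e₂.inv, ?_⟩
  have h2 : L.map ι ≫ sp.r = L.map e₂.hom ≫ adj.counit.app O := by
    have := congrArg (fun φ => e.hom ≫ φ) sp.f_r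
    simp only [Category.assoc, Iso.hom_inv_id_assoc, Category.comp_id] at this
    exact this
  rw [← adj.unit_naturality_assoc, ← Functor.map_comp_assoc, h2, Functor.map_comp, Category.assoc]
  erw [adj.unit_naturality_assoc, adj.right_triangle_components_assoc]
  exact e₂.hom_inv_id

theorem surjective_map_of_localLift' {B A : Art k k} (p : B ⟶ A) (hp : Function.Surjective p) (hi : i.ker = I₀)
    (hloc : ∀ ⦃B A : Art k k⦄ (p : B ⟶ A), IsSmallExt p → ∀ (I : (localHilb X x I₀).obj A) (y : Z),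
      ∃ (U : X.Opens) (hU : IsAffineOpen U) (_ : i y ∈ U) (r : ℕ)
        (f : Fin r → Γ(XA x B, up x B U)), LocalLift p I hU f)
    (hfp : CohB1.IsFP (Omega.conormal i)) [DCoh.HasSheafHom (Omega.conormal i)]
    (h1 : Subsingleton (Coh.HH Z ((DCoh.sheafHom (Omega.conormal i)).obj (Coh.structureModule Z)) 1)) :
    Function.Surjective ((localHilb X x I₀).map p) := by
  subst hi
  refine surjective_map_of_smallExt (fun B A p hp I => ?_) p hp
  obtain ⟨t, ht⟩ := exists_kerBasis_one hp.1 hp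
  obtain ⟨ι, hι⟩ := exists_obsι I hp.1 ht
  obtain ⟨π, hπ⟩ := exists_obsπ I hp.1 ht
  obtain ⟨hz, hS⟩ := shortExact_obs I hp.1 ht ι π hι hπ
  haveI h₁ : (ClSub.quotMod i.ker).IsQuasicoherent :=
    haveI := H10Coh.isQuasicoherent_unit (X := i.ker.subscheme)
    H10Coh.isQuasicoherent_pushforward_of_isAffineHom i.ker.subschemeι _
  haveI h₃ : (ClSub.idealMod i.ker).IsQuasicoherent := H17.OmegaLocal.isQuasicoherent_idealMod i.ker
  haveI : (ShortComplex.mk ι π hz).X₁.IsQuasicoherent := h₁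
  haveI : (ShortComplex.mk ι π hz).X₃.IsQuasicoherent := h₃
  haveI : (obsMod p I).IsQuasicoherent := H10Coh.isQuasicoherent_X₂ hS
  haveI : DCoh.HasSheafHom ((Scheme.Modules.pullback i).obj (ClSub.idealMod i.ker)) := ‹_›
  obtain ⟨r, hr⟩ := exists_lift_of_HH_one i (quotPushIso i) ι π hz hS (fun y => by
    obtain ⟨U, hU, hyU, r, f, hf⟩ := hloc p hp I y
    exact hf.exists_stalk_retraction hp.1 ht ι hι hyU) hfp h1
  exact exists_lift_of_retraction I hp.1 ht ι hι r hr

omit [IsClosedImmersion i]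

theorem surjective_map_of_localLift {B A : Art k k} (p : B ⟶ A) (hp : Function.Surjective p)
    (hloc : ∀ ⦃B A : Art k k⦄ (p : B ⟶ A), IsSmallExt p → ∀ (I : (localHilb X x I₀).obj A) (y : I₀.subscheme),
      ∃ (U : X.Opens) (hU : IsAffineOpen U) (_ : I₀.subschemeι y ∈ U) (r : ℕ)
        (f : Fin r → Γ(XA x B, up x B U)), LocalLift p I hU f)
    (hfp : CohB1.IsFP (Omega.conormal I₀.subschemeι))
    [DCoh.HasSheafHom (Omega.conormal I₀.subschemeι)]
    (h1 : Subsingleton (Coh.HH I₀.subscheme ((DCoh.sheafHom (Omega.conormal I₀.subschemeι)).obj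
      (Coh.structureModule I₀.subscheme)) 1)) :
    Function.Surjective ((localHilb X x I₀).map p) := by
  exact surjective_map_of_localLift' I₀.subschemeι p hp I₀.ker_subschemeι hloc hfp h1

end Groth.Agent.H24Hilb
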