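import Groth.Agent.H24Hilb.Torsor
import Groth.Agent.H10Coh.Pn.Results
import Groth.Agent.H10Coh.TensorBasics
import Groth.Agent.H10Inj.Coproduct
import Groth.Agent.H17.OmegaAffine
import Groth.Prelude.Def_DCoh4
import Groth.Prelude.Def_Omega2

/-!
# Maps from the ideal to the quotient as sections of the normal sheaf
-/

set_option autoImplicit false
set_option linter.style.haveILetI false
universe u
open CategoryTheory CategoryTheory.Limits AlgebraicGeometry

namespace Groth.Agent.H24Hilb

variable {X : Scheme.{u}}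

/-- Maps out of the structure module are global sections. -/
noncomputable def homUnitEquiv (M : X.Modules) : (Coh.structureModule X ⟶ M) ≃+ Γ(M, ⊤) where
  toFun φ := φ.app ⊤ (1 : Γ(X, ⊤))
  invFun s := H10Inj.homOfTop M s
  left_inv φ := by
    refine Scheme.Modules.hom_ext _ _ fun W => AddCommGrpCat.hom_ext (AddMonoidHom.ext fun r => ?_)
    refine (H06Mod.app_unit _ W r).trans (Eq.trans ?_ (H06Mod.app_unit φ W r).symm)
    rw [H10Inj.homOfTop_app]
  right_inv s := H10Inj.homOfTop_app M s
  map_add' _ _ := rfl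

/-- Maps from the ideal to the quotient are global sections of the normal sheaf. -/
noncomputable def normalEquiv (I₀ : X.IdealSheafData) [DCoh.HasSheafHom (Omega.conormal I₀.subschemeι)] :
    (ClSub.idealMod I₀ ⟶ ClSub.quotMod I₀) ≃
      Coh.HH I₀.subscheme ((DCoh.sheafHom (Omega.conormal I₀.subschemeι)).obj (Coh.structureModule I₀.subscheme)) 0 :=
  let C := Omega.conormal I₀.subschemeι
  let O := Coh.structureModule I₀.subscheme
  let e₁ : (Scheme.Modules.pullback I₀.subschemeι).obj (ClSub.idealMod I₀) ≅ C :=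
    (Scheme.Modules.pullback I₀.subschemeι).mapIso (eqToIso (congrArg ClSub.idealMod I₀.ker_subschemeι.symm))
  ((Scheme.Modules.pullbackPushforwardAdjunction I₀.subschemeι).homEquiv (ClSub.idealMod I₀) O).symm.trans <|
  ((e₁ ≪≫ (H10Coh.Tw.rightUnitIso C).symm).homCongr (Iso.refl O)).trans <|
  ((DCoh.sheafHomAdj C).homEquiv O O).trans <|
  (homUnitEquiv ((DCoh.sheafHom C).obj O)).toEquiv.trans
    (H10Coh.HH0Equiv ((DCoh.sheafHom C).obj O)).symm.toEquiv

/-- Maps from the ideal to the quotient for an arbitrary closed immersion. -/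
theorem nonempty_normalEquiv {Z : Scheme.{u}} (i : Z ⟶ X) [IsClosedImmersion i]
    [DCoh.HasSheafHom (Omega.conormal i)] :
    Nonempty ((ClSub.idealMod i.ker ⟶ ClSub.quotMod i.ker) ≃
      Coh.HH Z ((DCoh.sheafHom (Omega.conormal i)).obj (Coh.structureModule Z)) 0) := by
  let C := Omega.conormal i
  let O := Coh.structureModule Z
  let e₂ : ClSub.quotMod i.ker ≅ (Scheme.Modules.pushforward i).obj O :=
    (Scheme.Modules.pushforward i.imageι).mapIso (asIso (ClSub.unitToPush i.toImage)) ≪≫
      (Scheme.Modules.pushforwardComp i.toImage i.imageι).app O ≪≫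
      (Scheme.Modules.pushforwardCongr i.toImage_imageι).app O
  exact ⟨((Iso.refl (ClSub.idealMod i.ker)).homCongr e₂).trans <|
    ((Scheme.Modules.pullbackPushforwardAdjunction i).homEquiv (ClSub.idealMod i.ker) O).symm.trans <|
    (((H10Coh.Tw.rightUnitIso C).symm).homCongr (Iso.refl O)).trans <|
    ((DCoh.sheafHomAdj C).homEquiv O O).trans <|
    (homUnitEquiv ((DCoh.sheafHom C).obj O)).toEquiv.trans
      (H10Coh.HH0Equiv ((DCoh.sheafHom C).obj O)).symm.toEquiv⟩

end Groth.Agent.H24Hilb
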