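import Groth.Agent.H24Hilb.Tangent
import Groth.Agent.H24Hilb.LocalLift

/-!
# The tangent space of the local Hilbert functor of a closed immersion
-/

set_option autoImplicit false
set_option linter.style.haveILetI false
universe u
open CategoryTheory CategoryTheory.Limits AlgebraicGeometry ArtFun ArtFun.Art

namespace Groth.Agent.H24Hilb

variable {k : Type u} [Field k] {X : Scheme.{u}} [X.Over (Spec (CommRingCat.of k))] {Z : Scheme.{u}}
  [Z.Over (Spec (CommRingCat.of k))] (i : Z ⟶ X) [IsClosedImmersion i] [DCoh.HasSheafHom (Omega.conormal i)]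

/-- The tangent space is the space of global sections of the normal sheaf, for any closed immersion. -/
theorem nonempty_tangent_linearEquiv_closed
    [TangentStr (localHilb X (X ↘ Spec (CommRingCat.of k)) i.ker)]
    (hi : i ≫ (X ↘ Spec (CommRingCat.of k)) = Z ↘ Spec (CommRingCat.of k)) :
    Nonempty (TangentSpace (localHilb X (X ↘ Spec (CommRingCat.of k)) i.ker) ≃ₗ[k]
      Coh.HH Z ((DCoh.sheafHom (Omega.conormal i)).obj (Coh.structureModule Z)) 0) := by
  obtain ⟨T, hT, hadd, hsmul⟩ := exists_tangentEquiv (k := k) (X := X) (I₀ := i.ker)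
  haveI : (Scheme.Modules.pullback i).Additive :=
    (Scheme.Modules.pullbackPushforwardAdjunction i).left_adjoint_additive
  haveI : (DCoh.sheafHom (Omega.conormal i)).Additive :=
    (DCoh.sheafHomAdj (Omega.conormal i)).right_adjoint_additive
  let C := Omega.conormal i
  let O := Coh.structureModule Z
  let adj := Scheme.Modules.pullbackPushforwardAdjunction i
  let N := (DCoh.sheafHom C).obj O
  let e : (Scheme.Modules.pullback i).obj (ClSub.idealMod i.ker) ≅ ((DCoh.tensorBi (X := Z)).obj C).obj O :=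
    (H10Coh.Tw.rightUnitIso C).symm
  let E : (ClSub.idealMod i.ker ⟶ ClSub.quotMod i.ker) → Γ(N, ⊤) := fun φ =>
    homUnitEquiv N ((DCoh.sheafHomAdj C).homEquiv O O
      (e.inv ≫ (adj.homEquiv (ClSub.idealMod i.ker) O).symm (φ ≫ (quotPushIso i).hom)))
  have hEbij : Function.Bijective E := by
    let E' : (ClSub.idealMod i.ker ⟶ ClSub.quotMod i.ker) ≃ Γ(N, ⊤) :=
      (quotPushIso i).homToEquiv.trans <| (adj.homEquiv (ClSub.idealMod i.ker) O).symm.trans <|
      e.homFromEquiv.trans <| ((DCoh.sheafHomAdj C).homEquiv O O).trans (homUnitEquiv N).toEquiv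
    exact E'.bijective
  have hEadd : ∀ φ φ', E (φ + φ') = E φ + E φ' := fun φ φ' => by
    show homUnitEquiv N _ = homUnitEquiv N _ + homUnitEquiv N _
    rw [← map_add (homUnitEquiv N)]
    congr 1
    simp only [Adjunction.homEquiv_counit, Preadditive.add_comp]
    rw [Functor.map_add, Preadditive.add_comp, Preadditive.comp_add]
    exact homEquiv_add (DCoh.sheafHomAdj C) _ _
  have hEsmul : ∀ (c : k) φ, E (φ ≫ Formal.smulMod k (ClSub.quotMod i.ker) c) =
      (show Γ(Z, ⊤) from Coh.toGlobal (Z ↘ Spec (CommRingCat.of k)) c) • E φ := fun c φ => by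
    show homUnitEquiv N _ = _ • homUnitEquiv N _
    rw [Category.assoc, H24Formal.smulMod_comm, ← Category.assoc, ← H24Formal.pushforward_map_smulMod i hi O c,
      Adjunction.homEquiv_naturality_right_symm]
    rw [← Category.assoc]
    erw [sheafHomAdj_smulMod]
    show ((_ ≫ Formal.smulMod k N c : Coh.structureModule Z ⟶ N)).app ⊤ (1 : Γ(Z, ⊤)) = _
    refine (H24Formal.smulMod_app N c ⊤ _).trans ?_
    congr 1
    show Z.presheaf.map (homOfLE (le_top : (⊤ : Z.Opens) ≤ ⊤)).op _ = _
    rw [show (homOfLE (le_top : (⊤ : Z.Opens) ≤ ⊤)).op = 𝟙 _ from rfl, CategoryTheory.Functor.map_id]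
    rfl
  exact ⟨LinearEquiv.ofBijective
    { toFun := fun a => (H10Coh.HH0Equiv N).symm (E (T a))
      map_add' := fun a b => by rw [hadd, hEadd, map_add]
      map_smul' := fun c a => by
        apply (H10Coh.HH0Equiv N).injective
        rw [RingHom.id_apply, AddEquiv.apply_symm_apply, hsmul, hEsmul]
        refine Eq.trans ?_ (H10Coh.HH0Equiv_smul N _ _).symm
        rw [AddEquiv.apply_symm_apply]
        rfl }
    (((H10Coh.HH0Equiv N).symm.bijective.comp hEbij).comp hT)⟩

end Groth.Agent.H24Hilb
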