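import Groth.Agent.H24Hilb.Normal
import Groth.Agent.H24Formal.Pullback
import Groth.Agent.H24Formal.SectionSystem
import Groth.Agent.H10Coh.SheafHom.Adj

/-!
# Linearity of the identification with sections of the normal sheaf
-/

set_option autoImplicit false
set_option linter.style.haveILetI false
universe u
open CategoryTheory CategoryTheory.Limits AlgebraicGeometry

namespace Groth.Agent.H24Hilb

variable {A : Type u} [CommRing A] {X : Scheme.{u}} [X.Over (Spec (CommRingCat.of A))]

/-- Adjunction bijections are additive. -/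
theorem homEquiv_add {C D : Type*} [Category C] [Category D] [Preadditive C] [Preadditive D] {L : C ⥤ D}
    {R : D ⥤ C} (adj : L ⊣ R) [R.Additive] {M : C} {N : D} (f g : L.obj M ⟶ N) :
    adj.homEquiv M N (f + g) = adj.homEquiv M N f + adj.homEquiv M N g := by
  simp [Adjunction.homEquiv_unit, Functor.map_add, Preadditive.comp_add]

/-- Scalars commute with the tensor product. -/
theorem tensor_map_smulMod (C N : X.Modules) (a : A) :
    ((DCoh.tensorBi (X := X)).obj C).map (Formal.smulMod A N a) =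
      Formal.smulMod A (H16Derived.KFlat.Stalk.tensor C N) a := by
  refine H10Coh.SheafHom.tensor_ext fun U m n => ?_
  rw [H10Coh.SheafHom.map_tensorSect]
  exact H16Derived.KFlat.Stalk.tensorSect_smul_right ..

/-- The sheaf Hom functor is linear over the scalars. -/
theorem sheafHomAdj_smulMod (C : X.Modules) [DCoh.HasSheafHom C] (N G : X.Modules)
    (ψ : H16Derived.KFlat.Stalk.tensor C N ⟶ G) (a : A) :
    (DCoh.sheafHomAdj C).homEquiv N G (ψ ≫ Formal.smulMod A G a) =
      (DCoh.sheafHomAdj C).homEquiv N G ψ ≫ Formal.smulMod A ((DCoh.sheafHom C).obj G) a := by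
  rw [← H24Formal.smulMod_comm ψ a, ← tensor_map_smulMod, Adjunction.homEquiv_naturality_left,
    H24Formal.smulMod_comm]

variable {k : Type u} [Field k] {Y : Scheme.{u}} [Y.Over (Spec (CommRingCat.of k))] (I₀ : Y.IdealSheafData)
  [I₀.subscheme.Over (Spec (CommRingCat.of k))] [DCoh.HasSheafHom (Omega.conormal I₀.subschemeι)]

omit [I₀.subscheme.Over (Spec (CommRingCat.of k))] [Y.Over (Spec (CommRingCat.of k))] in
theorem normalEquiv_add (φ φ' : ClSub.idealMod I₀ ⟶ ClSub.quotMod I₀) :
    normalEquiv I₀ (φ + φ') = normalEquiv I₀ φ + normalEquiv I₀ φ' := by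
  haveI : (Scheme.Modules.pullback I₀.subschemeι).Additive :=
    (Scheme.Modules.pullbackPushforwardAdjunction I₀.subschemeι).left_adjoint_additive
  haveI : (DCoh.sheafHom (Omega.conormal I₀.subschemeι)).Additive :=
    (DCoh.sheafHomAdj (Omega.conormal I₀.subschemeι)).right_adjoint_additive
  let C := Omega.conormal I₀.subschemeι
  let O := Coh.structureModule I₀.subscheme
  let adj := Scheme.Modules.pullbackPushforwardAdjunction I₀.subschemeι
  let e₁ : (Scheme.Modules.pullback I₀.subschemeι).obj (ClSub.idealMod I₀) ≅ C :=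
    (Scheme.Modules.pullback I₀.subschemeι).mapIso (eqToIso (congrArg ClSub.idealMod I₀.ker_subschemeι.symm))
  let e := e₁ ≪≫ (H10Coh.Tw.rightUnitIso C).symm
  let N := (DCoh.sheafHom C).obj O
  have hg : ∀ ψ, H10Coh.HH0Equiv N (normalEquiv I₀ ψ) =
      homUnitEquiv N ((DCoh.sheafHomAdj C).homEquiv O O ((e.homCongr (Iso.refl O))
        ((adj.homEquiv (ClSub.idealMod I₀) O).symm ψ))) := fun ψ => (H10Coh.HH0Equiv N).apply_symm_apply _
  apply (H10Coh.HH0Equiv N).injective
  rw [map_add (H10Coh.HH0Equiv N), hg, hg, hg, ← map_add (homUnitEquiv N)]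
  congr 1
  simp only [Adjunction.homEquiv_counit, Iso.homCongr_apply, Iso.refl_hom, Category.comp_id]
  rw [Functor.map_add, Preadditive.add_comp, Preadditive.comp_add]
  exact homEquiv_add (DCoh.sheafHomAdj C) _ _

theorem normalEquiv_smul (hY : I₀.subschemeι ≫ (Y ↘ Spec (CommRingCat.of k)) = I₀.subscheme ↘ Spec (CommRingCat.of k))
    (φ : ClSub.idealMod I₀ ⟶ ClSub.quotMod I₀) (c : k) :
    normalEquiv I₀ (φ ≫ Formal.smulMod k (ClSub.quotMod I₀) c) = c • normalEquiv I₀ φ := by
  let C := Omega.conormal I₀.subschemeι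
  let O := Coh.structureModule I₀.subscheme
  let adj := Scheme.Modules.pullbackPushforwardAdjunction I₀.subschemeι
  let e₁ : (Scheme.Modules.pullback I₀.subschemeι).obj (ClSub.idealMod I₀) ≅ C :=
    (Scheme.Modules.pullback I₀.subschemeι).mapIso (eqToIso (congrArg ClSub.idealMod I₀.ker_subschemeι.symm))
  let e := e₁ ≪≫ (H10Coh.Tw.rightUnitIso C).symm
  let N := (DCoh.sheafHom C).obj O
  let g := fun ψ => homUnitEquiv N ((DCoh.sheafHomAdj C).homEquiv O O ((e.homCongr (Iso.refl O))
    ((adj.homEquiv (ClSub.idealMod I₀) O).symm ψ)))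
  have hg : ∀ ψ, H10Coh.HH0Equiv N (normalEquiv I₀ ψ) = g ψ := fun ψ => (H10Coh.HH0Equiv N).apply_symm_apply _
  apply (H10Coh.HH0Equiv N).injective
  have h2 : H10Coh.HH0Equiv N (c • normalEquiv I₀ φ) =
      (show Γ(I₀.subscheme, ⊤) from Coh.toGlobal (I₀.subscheme ↘ Spec (CommRingCat.of k)) c) • g φ := by
    rw [← hg φ]
    exact H10Coh.HH0Equiv_smul N _ _
  refine (hg _).trans (Eq.trans ?_ h2.symm)
  show homUnitEquiv N _ = _
  rw [← H24Formal.pushforward_map_smulMod I₀.subschemeι hY O c, Adjunction.homEquiv_naturality_right_symm]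
  simp only [Iso.homCongr_apply, Iso.refl_hom, Category.comp_id]
  rw [← Category.assoc]
  erw [sheafHomAdj_smulMod]
  show ((_ ≫ Formal.smulMod k N c : Coh.structureModule I₀.subscheme ⟶ N)).app ⊤ (1 : Γ(I₀.subscheme, ⊤)) = _
  refine (H24Formal.smulMod_app N c ⊤ _).trans ?_
  congr 1
  show I₀.subscheme.presheaf.map (homOfLE (le_top : (⊤ : I₀.subscheme.Opens) ≤ ⊤)).op _ = _
  rw [show (homOfLE (le_top : (⊤ : I₀.subscheme.Opens) ≤ ⊤)).op = 𝟙 _ from rfl, CategoryTheory.Functor.map_id]
  rfl

end Groth.Agent.H24Hilb
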