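import Groth.Agent.H24Hilb.HomSplit
import Groth.Agent.H24Hilb.Normal
import Groth.Agent.H24Hilb.NormalLinear
import Groth.Agent.H10Coh.LocalizedH
import Groth.Agent.H10Coh.Serre

/-!
# The class of a locally split extension in the first cohomology of the sheaf Hom
-/

set_option autoImplicit false
set_option linter.style.haveILetI false
universe u
open CategoryTheory CategoryTheory.Limits AlgebraicGeometry Opposite
open Groth.Agent.H06Mod

namespace Groth.Agent.H24Hilb

attribute [local instance 10000] H10Coh.hasSheafifyAb H10Coh.hasWeakSheafifyAb H10Coh.hasExtAb H10Coh.enoughInjAb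

variable {Z : Scheme.{u}} (C : Z.Modules) [DCoh.HasSheafHom C]

/-- The sheaf Hom out of `C` keeps a sequence exact which is split on stalks. -/
theorem shortExact_map_sheafHom {S : ShortComplex Z.Modules} (hS : S.ShortExact) (hfp : CohB1.IsFP C)
    (hloc : ∀ x : Z, ∃ σ : S.X₃.presheaf.stalk x →ₗ[Z.presheaf.stalk x] S.X₂.presheaf.stalk x,
      ∀ e, stalkLin S.g x (σ e) = e) :
    haveI : (DCoh.sheafHom C).Additive := (DCoh.sheafHomAdj C).right_adjoint_additive
    (S.map (DCoh.sheafHom C)).ShortExact := by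
  let F := DCoh.sheafHom C
  haveI : F.IsRightAdjoint := ⟨_, ⟨DCoh.sheafHomAdj C⟩⟩
  haveI : PreservesLimitsOfSize.{0, 0} F := (DCoh.sheafHomAdj C).rightAdjoint_preservesLimits
  haveI : F.Additive := (DCoh.sheafHomAdj C).right_adjoint_additive
  haveI := hS.mono_f
  haveI := hS.epi_g
  haveI : Epi (postMap C S.g) := by
    refine (H8Props.FunDescent.epi_iff _).2 fun x w => ?_
    obtain ⟨σ, hσ⟩ := hloc x
    obtain ⟨v, hv⟩ := (H29Ref.evalStalk_bijective C S.X₂ hfp x).2
      (σ.comp (show C.presheaf.stalk x →ₗ[Z.presheaf.stalk x] S.X₃.presheaf.stalk x from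
        RefHull.evalStalk C S.X₃ x w))
    refine ⟨v, (H29Ref.evalStalk_bijective C S.X₃ hfp x).1 (LinearMap.ext fun m => ?_)⟩
    rw [evalStalk_postMap, hv]
    exact hσ _
  haveI : Epi (F.map S.g) := by
    show Epi ((DCoh.sheafHom C).map S.g)
    rw [show (DCoh.sheafHom C).map S.g = (H10Coh.SheafHom.homShIso C S.X₂).hom ≫ postMap C S.g ≫
      (H10Coh.SheafHom.homShIso C S.X₃).inv by rw [postMap_eq]; simp]
    infer_instance
  exact { exact := hS.exact.map_of_mono_of_preservesKernel F hS.mono_f inferInstance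
          mono_f := inferInstanceAs (Mono (F.map S.f))
          epi_g := ‹_› }

/-- Maps out of `C` are the global sections of the sheaf Hom. -/
noncomputable def homSect (N : Z.Modules) : (C ⟶ N) ≃ Γ((DCoh.sheafHom C).obj N, ⊤) :=
  ((H10Coh.Tw.rightUnitIso C).symm.homCongr (Iso.refl N)).trans <|
    ((DCoh.sheafHomAdj C).homEquiv (Coh.structureModule Z) N).trans
      (homUnitEquiv ((DCoh.sheafHom C).obj N)).toEquiv

theorem homSect_comp {N N' : Z.Modules} (φ : C ⟶ N) (g : N ⟶ N') :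
    homSect C N' (φ ≫ g) = ((DCoh.sheafHom C).map g).app ⊤ (homSect C N φ) := by
  let e := (H10Coh.Tw.rightUnitIso C).symm
  let G : ∀ M : Z.Modules, (C ⟶ M) → (Coh.structureModule Z ⟶ (DCoh.sheafHom C).obj M) := fun M ψ =>
    (DCoh.sheafHomAdj C).homEquiv (Coh.structureModule Z) M ((e.homCongr (Iso.refl M)) ψ)
  have hG : G N' (φ ≫ g) = G N φ ≫ (DCoh.sheafHom C).map g := by
    simp only [G, Iso.homCongr_apply, Iso.refl_hom, Category.comp_id]
    rw [← Category.assoc]
    exact (DCoh.sheafHomAdj C).homEquiv_naturality_right _ _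
  exact congrArg (fun ψ : Coh.structureModule Z ⟶ (DCoh.sheafHom C).obj N' => ψ.app ⊤ (1 : Γ(Z, ⊤))) hG

/-- Maps out of `C` are the degree zero cohomology of the sheaf Hom. -/
noncomputable def h0Cls (N : Z.Modules) : (C ⟶ N) ≃ H10Coh.HnM ((DCoh.sheafHom C).obj N) 0 ⊤ :=
  (homSect C N).trans (H10Coh.H0Equiv (H10Coh.sh ((DCoh.sheafHom C).obj N)) ⊤).symm.toEquiv

theorem h0Cls_comp {N N' : Z.Modules} (φ : C ⟶ N) (g : N ⟶ N') :
    h0Cls C N' (φ ≫ g) =
      (h0Cls C N φ).comp (Abelian.Ext.mk₀ ((H10Coh.shF Z).map ((DCoh.sheafHom C).map g))) (add_zero 0) := by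
  apply (H10Coh.H0Equiv (H10Coh.sh ((DCoh.sheafHom C).obj N')) ⊤).injective
  refine (AddEquiv.apply_symm_apply _ _).trans (Eq.trans ?_ (H10Coh.H0Equiv_map _ _).symm)
  refine (homSect_comp C φ g).trans ?_
  exact congrArg (((DCoh.sheafHom C).map g).app ⊤)
    ((H10Coh.H0Equiv (H10Coh.sh ((DCoh.sheafHom C).obj N)) ⊤).apply_symm_apply (homSect C N φ)).symm

variable {C}

/-- The connecting class of a map into the quotient of an extension. -/
noncomputable def obsCls {S : ShortComplex Z.Modules} [(DCoh.sheafHom C).Additive]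
    (hF : (S.map (DCoh.sheafHom C)).ShortExact) (φ : C ⟶ S.X₃) :
    H10Coh.HnM ((DCoh.sheafHom C).obj S.X₁) 1 ⊤ :=
  Abelian.Ext.comp (h0Cls C S.X₃ φ) (H10Coh.shortExact_sh hF).extClass (zero_add 1)

theorem obsCls_eq_zero_iff {S : ShortComplex Z.Modules} [(DCoh.sheafHom C).Additive]
    (hF : (S.map (DCoh.sheafHom C)).ShortExact) (φ : C ⟶ S.X₃) :
    obsCls hF φ = 0 ↔ ∃ s : C ⟶ S.X₂, s ≫ S.g = φ := by
  constructor
  · intro h
    obtain ⟨x, hx⟩ := Abelian.Ext.covariant_sequence_exact₃ (H10Coh.Zsh ⊤) (H10Coh.shortExact_sh hF)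
      _ (zero_add 1) h
    obtain ⟨s, rfl⟩ := (h0Cls C S.X₂).surjective x
    exact ⟨s, (h0Cls C S.X₃).injective ((h0Cls_comp C s S.g).trans hx)⟩
  · rintro ⟨s, rfl⟩
    refine (congrArg (fun z => Abelian.Ext.comp z (H10Coh.shortExact_sh hF).extClass (zero_add 1))
      (h0Cls_comp C s S.g)).trans ?_
    refine (Abelian.Ext.comp_assoc_of_second_deg_zero _ _ _ _).trans ?_
    exact (congrArg (fun z => Abelian.Ext.comp (h0Cls C S.X₂ s) z (zero_add 1))
      (H10Coh.shortExact_sh hF).comp_extClass).trans (Abelian.Ext.comp_zero _ _ _ _ _)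

/-- The class is natural in the extension. -/
theorem obsCls_natural {S S' : ShortComplex Z.Modules} [(DCoh.sheafHom C).Additive]
    (hF : (S.map (DCoh.sheafHom C)).ShortExact) (hF' : (S'.map (DCoh.sheafHom C)).ShortExact) (f : S ⟶ S')
    (φ : C ⟶ S.X₃) (φ' : C ⟶ S'.X₃) (h : φ ≫ f.τ₃ = φ') :
    obsCls hF' φ' =
      H10Coh.compMk₀ ((H10Coh.shF Z).map ((DCoh.sheafHom C).map f.τ₁)) 1 ⊤ (obsCls hF φ) := by
  subst h
  have hn := ShortComplex.ShortExact.extClass_naturality (H10Coh.shortExact_sh hF) (H10Coh.shortExact_sh hF')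
    ((H10Coh.shF Z).mapShortComplex.map ((DCoh.sheafHom C).mapShortComplex.map f))
  refine Eq.trans ?_ (Abelian.Ext.comp_assoc_of_third_deg_zero _ _ _ _).symm
  refine Eq.trans ?_ (congrArg (fun z => Abelian.Ext.comp (h0Cls C S.X₃ φ) z (zero_add 1)) hn.symm)
  refine (congrArg (fun z => Abelian.Ext.comp z (H10Coh.shortExact_sh hF').extClass (zero_add 1))
    (h0Cls_comp C φ f.τ₃)).trans ?_
  exact Abelian.Ext.comp_assoc_of_second_deg_zero _ _ _ _

theorem compMk₀_map_add {M N : Z.Modules} [(DCoh.sheafHom C).Additive] (g g' : M ⟶ N)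
    (x : H10Coh.HnM ((DCoh.sheafHom C).obj M) 1 ⊤) :
    H10Coh.compMk₀ ((H10Coh.shF Z).map ((DCoh.sheafHom C).map (g + g'))) 1 ⊤ x =
      H10Coh.compMk₀ ((H10Coh.shF Z).map ((DCoh.sheafHom C).map g)) 1 ⊤ x +
        H10Coh.compMk₀ ((H10Coh.shF Z).map ((DCoh.sheafHom C).map g')) 1 ⊤ x := by
  rw [Functor.map_add, Functor.map_add, H10Coh.compMk₀_add]

theorem compMk₀_map_smul {A : Type u} [CommRing A] [Z.Over (Spec (CommRingCat.of A))] {M : Z.Modules}
    (g : M ⟶ Coh.structureModule Z) (a : A) (x : H10Coh.HnM ((DCoh.sheafHom C).obj M) 1 ⊤) :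
    (H10Coh.HHEquiv _ 1).symm (H10Coh.compMk₀ ((H10Coh.shF Z).map ((DCoh.sheafHom C).map
        (g ≫ Formal.smulMod A (Coh.structureModule Z) a))) 1 ⊤ x) =
      a • (H10Coh.HHEquiv _ 1).symm (H10Coh.compMk₀ ((H10Coh.shF Z).map ((DCoh.sheafHom C).map g)) 1 ⊤ x) := by
  apply (H10Coh.HHEquiv ((DCoh.sheafHom C).obj (Coh.structureModule Z)) 1).injective
  rw [AddEquiv.apply_symm_apply]
  refine Eq.trans ?_ (H10Coh.HHEquiv_smul _ 1 _ _).symm
  rw [AddEquiv.apply_symm_apply, Functor.map_comp, Functor.map_comp, H10Coh.compMk₀_comp]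
  refine Eq.trans ?_ (H10Coh.smulH_apply _ _ _ _ _).symm
  have hm : (DCoh.sheafHom C).map (Formal.smulMod A (Coh.structureModule Z) a) =
      Formal.smulMod A ((DCoh.sheafHom C).obj (Coh.structureModule Z)) a := by
    have := sheafHomAdj_smulMod C ((DCoh.sheafHom C).obj (Coh.structureModule Z)) (Coh.structureModule Z)
      (((DCoh.sheafHomAdj C).homEquiv _ _).symm (𝟙 _)) a
    rw [Adjunction.homEquiv_naturality_right, Equiv.apply_symm_apply, Category.id_comp] at this
    rw [this, Category.id_comp]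
  rw [hm]
  rfl

end Groth.Agent.H24Hilb
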