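import Groth.Agent.H24Hilb.Obstruction
import Groth.Agent.H24Hilb.Coords
import Groth.Agent.H24Hilb.Functorial
import Groth.Agent.H24Formal.CohFormal
import Groth.Agent.LeadAff.Chevalley

/-!
# Functoriality of the obstruction extension in the semismall extension
-/

set_option autoImplicit false
set_option linter.style.haveILetI false
universe u
open CategoryTheory CategoryTheory.Limits AlgebraicGeometry IsLocalRing ArtFun ArtFun.Art

namespace Groth.Agent.H24Hilb

variable {k : Type u} [Field k] {X : Scheme.{u}} {x : X ⟶ specPt k} {I₀ : X.IdealSheafData}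
  {B B₁ A : Art k k} {p : B ⟶ A} {p₁ : B₁ ⟶ A} (q : B ⟶ B₁) (hq : q ≫ p₁ = p)
  (hp : Function.Surjective p) (hp₁ : Function.Surjective p₁) (I : (localHilb X x I₀).obj A)

include hq in
theorem pm_mem_pre {U : X.Opens} (hU : IsAffineOpen U) {r : Γ(XA x B, up x B U)} (hr : r ∈ pre p I hU) :
    pm x q U r ∈ pre (B := B₁) p₁ I hU := by
  show pm x p₁ U (pm x q U r) ∈ idl I hU
  rw [← pm_comp, hq]
  exact hr

theorem map_maximal_le (U : X.Opens) :
    ((maximalIdeal B).map (sc x B U)).map (pm x q U) ≤ (maximalIdeal B₁).map (sc x B₁ U) := by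
  rw [Ideal.map_map, Ideal.map_le_iff_le_comap]
  intro b hb
  show pm x q U (sc x B U b) ∈ (maximalIdeal B₁).map (sc x B₁ U)
  rw [pm_sc]
  exact Ideal.mem_map_of_mem _ (H24Art.map_mem_maximalIdeal q hb)

include hq hp hp₁

/-- The map of obstruction extensions. -/
theorem exists_obsMap : ∃ Φ : obsMod p I ⟶ obsMod p₁ I, ∀ (U : X.Opens) (hU : IsAffineOpen U) m,
    ∀ r ∈ pre p I hU, emb p I U m = cls p I U r → emb p₁ I U (Φ.app U m) = cls p₁ I U (pm x q U r) := by
  have hval : ∀ U (hU : IsAffineOpen U) (m : Γ(obsMod p I, U)), ∃ m₁, ∀ r ∈ pre p I hU,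
      emb p I U m = cls p I U r → emb p₁ I U m₁ = cls p₁ I U (pm x q U r) := by
    intro U hU m
    obtain ⟨r, hr, hm⟩ := cls_emb I hp hU m
    obtain ⟨m₁, hm₁⟩ := exists_emb I hp₁ hU (pm_mem_pre q hq I hU hr)
    refine ⟨m₁, fun r' hr' hm' => hm₁.trans ?_⟩
    have h := (cls_eq_zero_iff I hp hU (r - r')).1 (by rw [map_sub, ← hm, ← hm', sub_self])
    rw [← sub_eq_zero, ← map_sub, ← map_sub, cls_eq_zero_iff I hp₁ hU]
    have h2 := Ideal.mem_map_of_mem (pm x q U) h
    rw [Ideal.map_mul] at h2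
    refine Ideal.mul_mono (map_maximal_le q U) (Ideal.map_le_iff_le_comap.2 fun z hz => ?_) h2
    exact pm_mem_pre q hq I hU hz
  choose f hf using hval
  let f' : ∀ (U : X.Opens), IsAffineOpen U → (Γ(obsMod p I, U) →+ Γ(obsMod p₁ I, U)) := fun U hU =>
    { toFun := f U hU
      map_zero' := emb_injective p₁ I U (by
        rw [hf U hU 0 0 (zero_mem _) (by rw [map_zero, map_zero]), map_zero, map_zero, map_zero])
      map_add' := fun m m' => emb_injective p₁ I U (by
        obtain ⟨r, hr, hm⟩ := cls_emb I hp hU m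
        obtain ⟨r', hr', hm'⟩ := cls_emb I hp hU m'
        rw [map_add, hf U hU _ r hr hm, hf U hU _ r' hr' hm',
          hf U hU _ (r + r') (add_mem hr hr') (by rw [map_add, hm, hm', map_add]), map_add, map_add]) }
  obtain ⟨Φ, hΦ⟩ := H11Sym.exists_hom_of_affine (obsMod p I) (obsMod p₁ I) f' (fun U hU c m => by
      obtain ⟨r, hr, hm⟩ := cls_emb I hp hU m
      obtain ⟨c', rfl⟩ := (res_props x B hU).1 c
      refine emb_injective p₁ I U ?_
      show emb p₁ I U (f U hU _) = emb p₁ I U (res x B U c' • f U hU _)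
      rw [hf U hU _ (c' * r) (Ideal.mul_mem_left _ _ hr) (emb_smul I hp hU c' hr hm), map_mul, ← res_pm x q U c',
        emb_smul I hp₁ hU (pm x q U c') (pm_mem_pre q hq I hU hr) (hf U hU _ r hr hm)])
    (fun U hU c m => by
      obtain ⟨r, hr, hm⟩ := cls_emb I hp hU m
      have hle : X.basicOpen c ≤ U := X.basicOpen_le c
      refine emb_injective p₁ I _ ?_
      show emb p₁ I _ (f _ _ _) = emb p₁ I _ ((obsMod p₁ I).presheaf.map (homOfLE hle).op (f U hU _))
      rw [emb_res p₁ I hle, hf U hU _ r hr hm, ← cls_res p₁ I hle,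
        hf _ (hU.basicOpen c) _ (rho x B hle r) (pre_restrict I hp hU (hU.basicOpen c) hle hr)
          (by rw [emb_res p I hle, hm, cls_res p I hle])]
      rw [rho, rho, pm_map x q hle])
  exact ⟨Φ, fun U hU m r hr hm => by rw [hΦ U hU]; exact hf U hU m r hr hm⟩

variable {Φ : obsMod p I ⟶ obsMod p₁ I}
  (hΦ : ∀ (U : X.Opens) (hU : IsAffineOpen U) m,
    ∀ r ∈ pre p I hU, emb p I U m = cls p I U r → emb p₁ I U (Φ.app U m) = cls p₁ I U (pm x q U r))
  {π : obsMod p I ⟶ ClSub.idealMod I₀} {π₁ : obsMod p₁ I ⟶ ClSub.idealMod I₀}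
  (hπ : ∀ (U : X.Opens) (hU : IsAffineOpen U) m,
    ∀ r ∈ pre p I hU, emb p I U m = cls p I U r → OmegaSh.idealSect I₀ U (π.app U m) = res x B U r)
  (hπ₁ : ∀ (U : X.Opens) (hU : IsAffineOpen U) m,
    ∀ r ∈ pre p₁ I hU, emb p₁ I U m = cls p₁ I U r → OmegaSh.idealSect I₀ U (π₁.app U m) = res x B₁ U r)

include hΦ hπ hπ₁

omit hp₁ in
theorem obsMap_comp_π : Φ ≫ π₁ = π := by
  refine LeadAff.hom_ext_affine _ _ fun U hU m => ?_
  obtain ⟨r, hr, hm⟩ := cls_emb I hp hU m
  refine H29Blow.idealSect_injective I₀ U ?_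
  show OmegaSh.idealSect I₀ U (π₁.app U (Φ.app U m)) = _
  rw [hπ₁ U hU _ _ (pm_mem_pre q hq I hU hr) (hΦ U hU m r hr hm), hπ U hU m r hr hm, res_pm]

omit hΦ hπ₁ hq hp₁

/-- Sections killed by `π` come from the kernel of the extension. -/
theorem exists_tmul_of_π_eq_zero {n : ℕ} {t : Fin n → B} (ht : IsKerBasis p t) {U : X.Opens} (hU : IsAffineOpen U)
    {m : Γ(obsMod p I, U)} (hm0 : π.app U m = 0) :
    ∃ a, tmul x t hU a ∈ pre p I hU ∧ emb p I U m = cls p I U (tmul x t hU a) := by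
  obtain ⟨r, hr, hm⟩ := cls_emb I hp hU m
  have hr0 : res x B U r = 0 := by rw [← hπ U hU m r hr hm, hm0, map_zero]
  have h1 : pm x p U r ∈ ((maximalIdeal B).map (sc x B U) * pre p I hU).map (pm x p U) := by
    rw [map_maximal_mul_pre I hp hU]
    exact mem_maximal_mul I hU hr (by rw [res_pm, hr0])
  obtain ⟨w, hw, hwr⟩ := (Ideal.mem_map_iff_of_surjective _ (pm_props x p hp hU).1).1 h1
  obtain ⟨a, ha⟩ := exists_tmul ht hU hp (s := r - w) (by rw [map_sub, hwr, sub_self])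
  refine ⟨a, ?_, ?_⟩
  · show pm x p U _ ∈ idl I hU
    rw [pm_tmul ht]
    exact zero_mem _
  · rw [hm, ← ha, map_sub, (cls_eq_zero_iff I hp hU w).2 hw, sub_zero]

/-- The projection to the ideal is an epimorphism. -/
theorem epi_π : Epi π :=
  H11Tilde.epi_of_locally_surjective π fun W z v hv => by
    obtain ⟨U, hU, hvU, hle₀⟩ := exists_isAffineOpen_mem_and_subset (U := W) hv
    have hle : U ≤ W := hle₀
    obtain ⟨r, hr, hre⟩ := exists_q_pre I hp hU ((H29Blow.mem_ideal_iff_exists_idealSect I₀ hU _).2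
      ⟨(ClSub.idealMod I₀).presheaf.map (homOfLE hle).op z, rfl⟩)
    obtain ⟨m, hm⟩ := exists_emb I hp hU hr
    exact ⟨U, hle, hvU, m, H29Blow.idealSect_injective I₀ U ((hπ U hU m r hr hm).trans hre)⟩

omit hπ hp

/-- Change of coordinates of the kernel. -/
theorem pm_tmul_coeff {n : ℕ} {t : Fin n → B} {t₁ : Fin 1 → B₁} (ht₁ : IsKerBasis p₁ t₁) (d : Fin n → k)
    (hd : ∀ i, q (t i) = algebraMap k B₁ (d i) * t₁ 0) {U : X.Opens} (hU : IsAffineOpen U) (a : Fin n → Γ(X, U)) :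
    pm x q U (tmul x t hU a) = tmul x t₁ hU fun _ => ∑ i, H24Def.scalar x U (d i) * a i := by
  rw [tmul_eq ht₁ hU (fun _ => ∑ i, sc x B₁ U (algebraMap k B₁ (d i)) *
      pm x q U (Function.surjInv (res_props x B hU).1 (a i))) (fun _ => by
    rw [map_sum]
    refine Finset.sum_congr rfl fun i _ => ?_
    rw [map_mul, res_pm, Function.surjInv_eq (res_props x B hU).1, res_sc, AlgHom.commutes, Algebra.algebraMap_self,
      RingHom.id_apply]),
    Fin.sum_univ_one, tmul, map_sum, Finset.mul_sum]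
  refine Finset.sum_congr rfl fun i _ => ?_
  rw [map_mul, pm_sc, hd, map_mul]
  ring

end Groth.Agent.H24Hilb
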