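import Groth.Agent.H24Hilb.Functorial
import Groth.Agent.H24Hilb.Conditions
import Groth.Agent.H24Hilb.NormalLinear
import Groth.Agent.H24Art.Tangent

/-!
# The tangent space of the local Hilbert functor
-/

set_option autoImplicit false
set_option linter.style.haveILetI false
universe u
open CategoryTheory CategoryTheory.Limits AlgebraicGeometry IsLocalRing ArtFun ArtFun.Art

namespace Groth.Agent.H24Hilb

variable {k : Type u} [Field k]

/-- `ε`. -/
noncomputable def eps : Fin 1 → (dual k k) := fun _ => (TrivSqZeroExt.inr (1 : k) : TrivSqZeroExt k k)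

/-- `ε₁, ε₂`. -/
noncomputable def eps2 : Fin 2 → (dual2 k k) :=
  fun i => (TrivSqZeroExt.inr (if i = 0 then (1, 0) else (0, 1)) : TrivSqZeroExt k (k × k))

theorem mul_inr {M : Type u} [AddCommGroup M] [Module k M] [Module kᵐᵒᵖ M] [IsCentralScalar k M]
    (a : TrivSqZeroExt k M) (v : M) : a * TrivSqZeroExt.inr v = TrivSqZeroExt.inr (a.fst • v) := by
  refine TrivSqZeroExt.ext ?_ ?_ <;> simp

theorem eq_inl_mul (j : TrivSqZeroExt k k) (hj : j.fst = 0) :
    j = TrivSqZeroExt.inl j.snd * TrivSqZeroExt.inr (1 : k) := by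
  rw [mul_inr, TrivSqZeroExt.fst_inl, smul_eq_mul, mul_one]
  exact TrivSqZeroExt.ext (by rw [TrivSqZeroExt.fst_inr, hj]) (by rw [TrivSqZeroExt.snd_inr])

theorem eq_inl_mul2 (j : TrivSqZeroExt k (k × k)) (hj : j.fst = 0) :
    j = TrivSqZeroExt.inl j.snd.1 * TrivSqZeroExt.inr ((1 : k), (0 : k)) +
      TrivSqZeroExt.inl j.snd.2 * TrivSqZeroExt.inr ((0 : k), (1 : k)) := by
  rw [mul_inr, mul_inr, TrivSqZeroExt.fst_inl, TrivSqZeroExt.fst_inl, ← TrivSqZeroExt.inr_add]
  exact TrivSqZeroExt.ext (by rw [TrivSqZeroExt.fst_inr, hj]) (by rw [TrivSqZeroExt.snd_inr]; simp)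

theorem mul_inr_eq_zero {M : Type u} [AddCommGroup M] [Module k M] [Module kᵐᵒᵖ M] [IsCentralScalar k M]
    (a : TrivSqZeroExt k M) (ha : a.fst = 0) (v : M) : a * TrivSqZeroExt.inr v = 0 := by
  rw [mul_inr, ha, zero_smul, TrivSqZeroExt.inr_zero]

theorem fst_eq_zero_of (a : TrivSqZeroExt k k) (h : a * TrivSqZeroExt.inr (1 : k) = 0) : a.fst = 0 := by
  simpa [mul_inr] using congrArg TrivSqZeroExt.snd h

theorem fst_eq_zero_of2 (a b : TrivSqZeroExt k (k × k))
    (h : a * TrivSqZeroExt.inr ((1 : k), (0 : k)) + b * TrivSqZeroExt.inr ((0 : k), (1 : k)) = 0) :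
    a.fst = 0 ∧ b.fst = 0 := by
  simpa [mul_inr] using congrArg TrivSqZeroExt.snd h

theorem isKerBasis_eps : IsKerBasis (toBase (dual k k)) eps := by
  refine ⟨fun j hj => ⟨fun _ => (TrivSqZeroExt.inl (TrivSqZeroExt.snd j) : TrivSqZeroExt k k), ?_⟩,
    fun i => TrivSqZeroExt.fst_inr k (1 : k), fun a ha i => ?_, fun c hc i => ?_⟩
  · rw [Fin.sum_univ_one]
    exact eq_inl_mul j hj
  · exact mul_inr_eq_zero (k := k) a (((dual k k).mem_maximalIdeal_iff a).1 ha) _
  · rw [Fin.sum_univ_one] at hc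
    obtain rfl : i = 0 := Subsingleton.elim _ _
    exact ((dual k k).mem_maximalIdeal_iff _).2 (fst_eq_zero_of _ hc)

theorem isKerBasis_eps2 : IsKerBasis (toBase (dual2 k k)) eps2 := by
  refine ⟨fun j hj => ⟨fun i => (TrivSqZeroExt.inl (if i = 0 then (TrivSqZeroExt.snd j).1 else (TrivSqZeroExt.snd j).2) :
      TrivSqZeroExt k (k × k)), ?_⟩,
    fun i => TrivSqZeroExt.fst_inr k (if i = 0 then ((1 : k), (0 : k)) else (0, 1)), fun a ha i => ?_, fun c hc i => ?_⟩
  · rw [Fin.sum_univ_two]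
    exact eq_inl_mul2 j hj
  · exact mul_inr_eq_zero (k := k) a (((dual2 k k).mem_maximalIdeal_iff a).1 ha) _
  · refine ((dual2 k k).mem_maximalIdeal_iff _).2 ?_
    rw [Fin.sum_univ_two] at hc
    have h := fst_eq_zero_of2 _ _ hc
    fin_cases i
    · exact h.1
    · exact h.2

variable {X : Scheme.{u}} [X.Over (Spec (CommRingCat.of k))] {I₀ : X.IdealSheafData}

theorem scalar_smul (M : X.Modules) (c : k) (U : X.Opens) (m : Γ(M, U)) :
    H24Def.scalar (X ↘ Spec (CommRingCat.of k)) U c • m = (Formal.smulMod k M c).app U m := by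
  rw [H24Formal.smulMod_app]
  congr 1

/-- The tangent space is the space of maps from the ideal to the quotient. -/
theorem exists_tangentEquiv [TangentStr (localHilb X (X ↘ Spec (CommRingCat.of k)) I₀)] :
    ∃ T : TangentSpace (localHilb X (X ↘ Spec (CommRingCat.of k)) I₀) → (ClSub.idealMod I₀ ⟶ ClSub.quotMod I₀),
      Function.Bijective T ∧ (∀ a b, T (a + b) = T a + T b) ∧
        ∀ (c : k) a, T (c • a) = T a ≫ Formal.smulMod k (ClSub.quotMod I₀) c := by
  let F := localHilb X (X ↘ Spec (CommRingCat.of k)) I₀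
  have h0 : H0 F := h0_localHilb
  obtain ⟨Ib⟩ := h0.1
  haveI := h0.2
  let triv : ∀ B : Art k k, F.obj B := fun B => F.map (ofBase B) Ib
  have htriv : ∀ {B B' : Art k k} (g : B ⟶ B'), F.map g (triv B) = triv B' := fun {B B'} g => by
    show (F.map (ofBase B) ≫ F.map g) Ib = _
    rw [← Functor.map_comp, ofBase_comp]
  have hs : Function.Surjective (toBase (dual k k)) := (dual k k).res_surjective
  have hs2 : Function.Surjective (toBase (dual2 k k)) := (dual2 k k).res_surjective
  have hex : ∀ J : F.obj (dual k k), ∃ φ, Rel eps φ (triv (dual k k)) J := fun J =>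
    exists_rel isKerBasis_eps hs _ _ (Subsingleton.elim _ _)
  choose φ hφ using hex
  have huniq : ∀ J (ψ : ClSub.idealMod I₀ ⟶ ClSub.quotMod I₀), Rel eps (fun _ => ψ) (triv (dual k k)) J →
      φ J 0 = ψ := fun J ψ h => congrFun (rel_unique_left isKerBasis_eps hs (hφ J) h) 0
  refine ⟨fun a => φ a.val 0, ⟨fun a b h => ?_, fun ψ => ?_⟩, fun a b => ?_, fun c a => ?_⟩
  · have e : φ a.val = φ b.val := funext fun i => by rw [Fin.fin_one_eq_zero i]; exact h
    exact rel_unique_right isKerBasis_eps hs (Subsingleton.elim _ _) (Subsingleton.elim _ _) (hφ _) (e ▸ hφ _)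
  · obtain ⟨J, -, hJ⟩ := exists_of_rel isKerBasis_eps hs (fun _ => ψ) (triv (dual k k))
    exact ⟨TangentSpace.mk J, huniq J ψ hJ⟩
  · obtain ⟨z, hz1, hz2⟩ := H24Art.exists_dual2 h0 heps_localHilb a.val b.val
    obtain ⟨Φ, hΦ⟩ := exists_rel isKerBasis_eps2 hs2 (triv (dual2 k k)) z (Subsingleton.elim _ _)
    have key : ∀ (g : dual2 k k ⟶ dual k k) (d : Fin 2 → k), (∀ i, g (eps2 i) = algebraMap k (dual k k) (d i) * eps 0) →
        φ (F.map g z) 0 = ∑ i, Φ i ≫ Formal.smulMod k (ClSub.quotMod I₀) (d i) := by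
      intro g d hd
      refine huniq _ _ (htriv g ▸ Rel.map isKerBasis_eps2 isKerBasis_eps hΦ g
        (fun i _ => algebraMap k (dual k k) (d i)) (fun i => by rw [Fin.sum_univ_one]; exact hd i) _
        (fun j U hU m => ?_))
      rw [Fin.sum_univ_two, Fin.sum_univ_two, res_sc, res_sc, AlgHom.commutes, AlgHom.commutes,
        Algebra.algebraMap_self, RingHom.id_apply, RingHom.id_apply, scalar_smul, scalar_smul]
      rfl
    have e1 : ∀ (d : k), algebraMap k (dual k k) d * eps (0 : Fin 1) = (TrivSqZeroExt.inr d : TrivSqZeroExt k k) := by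
      intro d
      refine (mul_inr (k := k) (M := k) (TrivSqZeroExt.inl d) (1 : k)).trans ?_
      rw [TrivSqZeroExt.fst_inl, smul_eq_mul, mul_one]
    have k1 := key pr₁ (fun i => if i = 0 then 1 else 0) (fun i => by
      refine Eq.trans ?_ (e1 _).symm; fin_cases i <;> exact TrivSqZeroExt.ext rfl rfl)
    have k2 := key pr₂ (fun i => if i = 0 then 0 else 1) (fun i => by
      refine Eq.trans ?_ (e1 _).symm; fin_cases i <;> exact TrivSqZeroExt.ext rfl rfl)
    have k3 := key plus (fun _ => 1) (fun i => by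
      refine Eq.trans ?_ (e1 _).symm; fin_cases i
      · exact TrivSqZeroExt.ext rfl (add_zero (1 : k))
      · exact TrivSqZeroExt.ext rfl (zero_add (1 : k)))
    show φ (a + b).val 0 = φ a.val 0 + φ b.val 0
    have hab : F.map plus z = (a + b).val := by
      rw [← TangentStr.add_eq, hz1, hz2]
      rfl
    rw [← hab, ← hz1, ← hz2, k1, k2, k3, Fin.sum_univ_two, Fin.sum_univ_two, Fin.sum_univ_two]
    have h1 : ∀ ψ : ClSub.idealMod I₀ ⟶ ClSub.quotMod I₀, ψ ≫ Formal.smulMod k (ClSub.quotMod I₀) (1 : k) = ψ := fun ψ => by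
      refine Scheme.Modules.hom_ext _ _ fun U => ConcreteCategory.hom_ext _ _ fun m => ?_
      show (Formal.smulMod k (ClSub.quotMod I₀) (1 : k)).app U (ψ.app U m) = _
      rw [H24Formal.smulMod_app, map_one, one_smul]
    have h2 : ∀ ψ : ClSub.idealMod I₀ ⟶ ClSub.quotMod I₀, ψ ≫ Formal.smulMod k (ClSub.quotMod I₀) (0 : k) = 0 := fun ψ => by
      rw [H24Formal.smulMod_zero, comp_zero]
    simp [h1, h2]
  · show φ (c • a).val 0 = φ a.val 0 ≫ _
    have hca : F.map (scale c) a.val = (c • a).val := (TangentStr.smul_eq c a.val).symm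
    rw [← hca]
    refine huniq _ _ (htriv (scale c) ▸ Rel.map isKerBasis_eps isKerBasis_eps (hφ a.val) (scale c)
      (fun _ _ => algebraMap k (dual k k) c) (fun i => ?_) _ (fun j U hU m => ?_))
    · rw [Fin.sum_univ_one]
      refine Eq.trans ?_ (mul_inr (k := k) (M := k) (TrivSqZeroExt.inl c) (1 : k)).symm
      rw [TrivSqZeroExt.fst_inl]
      exact TrivSqZeroExt.ext rfl rfl
    · rw [Fin.sum_univ_one, res_sc, AlgHom.commutes, Algebra.algebraMap_self, RingHom.id_apply, scalar_smul]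
      rfl

/-- The tangent space is the space of global sections of the normal sheaf. -/
theorem nonempty_tangent_linearEquiv [TangentStr (localHilb X (X ↘ Spec (CommRingCat.of k)) I₀)]
    [I₀.subscheme.Over (Spec (CommRingCat.of k))] [DCoh.HasSheafHom (Omega.conormal I₀.subschemeι)]
    (hY : I₀.subschemeι ≫ (X ↘ Spec (CommRingCat.of k)) = I₀.subscheme ↘ Spec (CommRingCat.of k)) :
    Nonempty (TangentSpace (localHilb X (X ↘ Spec (CommRingCat.of k)) I₀) ≃ₗ[k]
      Coh.HH I₀.subscheme ((DCoh.sheafHom (Omega.conormal I₀.subschemeι)).obj (Coh.structureModule I₀.subscheme)) 0) := by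
  obtain ⟨T, hT, hadd, hsmul⟩ := exists_tangentEquiv (k := k) (X := X) (I₀ := I₀)
  exact ⟨LinearEquiv.ofBijective
    { toFun := fun a => normalEquiv I₀ (T a)
      map_add' := fun a b => by rw [hadd, normalEquiv_add]
      map_smul' := fun c a => by rw [hsmul, normalEquiv_smul I₀ hY]; rfl }
    ((normalEquiv I₀).bijective.comp hT)⟩

end Groth.Agent.H24Hilb
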