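import Groth.Agent.H24Hilb.ObsClass
import Groth.Agent.H24Hilb.ObsPush
import Groth.Agent.H24Hilb.LocalLift
import Groth.Agent.H10Coh.FinType
import Groth.Agent.H24Hilb.Tangent
import Groth.Agent.H8Props.FinLocFree.Sheaf
import Groth.Agent.H8Props.FinLocFree.Global
import Groth.Prelude.Def_ArtFun3

/-!
# The obstruction theory of the local Hilbert functor of a closed subscheme with liftable local equations
-/

set_option autoImplicit false
set_option linter.style.haveILetI false
universe u
open CategoryTheory CategoryTheory.Limits AlgebraicGeometry IsLocalRing ArtFun ArtFun.Art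
open Groth.Agent.H06Mod
open scoped TensorProduct

namespace Groth.Agent.H24Hilb

attribute [local instance 10000] H10Coh.hasSheafifyAb H10Coh.hasWeakSheafifyAb H10Coh.hasExtAb H10Coh.enoughInjAb

variable {k : Type u} [Field k]

/-- An extension with a one element kernel basis is small. -/
theorem isSmallExt_of_kerBasis {B A : Art k k} {p : B ⟶ A} (hp : Function.Surjective p) {t : Fin 1 → B}
    (ht : IsKerBasis p t) : IsSmallExt p := by
  have hne : t 0 ≠ 0 := fun h => (maximalIdeal.isMaximal B).ne_top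
    ((Ideal.eq_top_iff_one _).2 (ht.indep (fun _ => 1) (by rw [Fin.sum_univ_one, h, mul_zero]) 0))
  refine ⟨hp, fun h => hne ?_, ⟨t 0, le_antisymm (fun j hj => ?_) ?_⟩, ?_⟩
  · rw [← Ideal.mem_bot, ← h]
    exact ht.mem 0
  · obtain ⟨c, rfl⟩ := ht.span j hj
    rw [Fin.sum_univ_one]
    exact Ideal.mul_mem_left _ _ (Ideal.mem_span_singleton_self _)
  · exact (Ideal.span_singleton_le_iff_mem _).2 (ht.mem 0)
  · refine le_bot_iff.1 (Ideal.mul_le.2 fun a ha j hj => ?_)
    obtain ⟨c, rfl⟩ := ht.span j hj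
    rw [Fin.sum_univ_one, ← mul_assoc, mul_comm a, mul_assoc, ht.mul a ha 0, mul_zero]
    exact zero_mem _

theorem finite_ker {B A : Art k k} (p : B ⟶ A) : Module.Finite k (RingHom.ker p.toAlgHom) := by
  haveI := H24Art.moduleFinite B
  exact inferInstanceAs (Module.Finite k ((RingHom.ker p.toAlgHom).restrictScalars k))

/-- The quotients of a semismall extension along a basis of the kernel. -/
theorem exists_quot_basis {B A : Art k k} {p : B ⟶ A} (hp : IsSemismallExt p) {n : ℕ} {t : Fin n → B}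
    (ht : IsKerBasis p t) (j : Fin n) :
    ∃ (B₁ : Art k k) (q : B ⟶ B₁) (p₁ : B₁ ⟶ A) (t₁ : Fin 1 → B₁),
      IsSmallExt p₁ ∧ IsKerBasis p₁ t₁ ∧ q ≫ p₁ = p ∧
        ∀ l, q (t l) = algebraMap k B₁ ((Pi.single j (1 : k) : Fin n → k) l) * t₁ 0 := by
  classical
  let K : Ideal B := Ideal.span (t '' {l | l ≠ j})
  have hKp : K ≤ RingHom.ker p.toAlgHom := Ideal.span_le.2 (by rintro _ ⟨l, -, rfl⟩; exact ht.mem l)
  have hK : K ≤ maximalIdeal B := hKp.trans fun a ha => H24Art.ker_le_maximalIdeal p ha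
  have hsurj : Function.Surjective (quotFactor hK p hKp) := fun a => by
    obtain ⟨b, rfl⟩ := hp.1 a
    exact ⟨quotMk B K hK b, rfl⟩
  have ht₁ : IsKerBasis (quotFactor hK p hKp) (fun _ : Fin 1 => quotMk B K hK (t j)) := by
    refine ⟨fun s hs => ?_, fun _ => ht.mem j, fun a ha _ => ?_, fun c hc i => ?_⟩
    · obtain ⟨b, rfl⟩ := quotMk_surjective B K hK s
      obtain ⟨c, rfl⟩ := ht.span b hs
      refine ⟨fun _ => quotMk B K hK (c j), ?_⟩
      rw [Fin.sum_univ_one, ← map_mul, map_sum, Finset.sum_eq_single j]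
      · intro l _ hl
        exact Ideal.Quotient.eq_zero_iff_mem.2 (Ideal.mul_mem_left _ _ (Ideal.subset_span ⟨l, hl, rfl⟩))
      · exact fun h => absurd (Finset.mem_univ j) h
    · obtain ⟨b, rfl⟩ := quotMk_surjective B K hK a
      rw [← map_mul, ht.mul b ((H24Art.comap_maximalIdeal (quotMk B K hK)).1 ha) j, map_zero]
    · obtain ⟨b, hb⟩ := quotMk_surjective B K hK (c 0)
      rw [Fin.sum_univ_one, ← hb, ← map_mul] at hc
      obtain ⟨e, he, hee⟩ : ∃ e : Fin n → B, e j = 0 ∧ b * t j = ∑ l, e l * t l := by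
        refine Submodule.span_induction (p := fun y _ => ∃ e : Fin n → B, e j = 0 ∧ y = ∑ l, e l * t l) ?_ ?_ ?_ ?_
          (Ideal.Quotient.eq_zero_iff_mem.1 hc)
        · rintro _ ⟨l, hl, rfl⟩
          exact ⟨Pi.single l 1, Pi.single_eq_of_ne (Ne.symm hl) _, by simp [Pi.single_apply]⟩
        · exact ⟨0, rfl, by simp⟩
        · rintro u v - - ⟨e, he, rfl⟩ ⟨e', he', rfl⟩
          exact ⟨e + e', by simp [he, he'], by simp [add_mul, Finset.sum_add_distrib]⟩
        · rintro a u - ⟨e, he, rfl⟩
          exact ⟨a • e, by simp [he], by simp [Finset.mul_sum, mul_assoc]⟩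
      have hm : b ∈ maximalIdeal B := by
        have := ht.indep (fun l => e l - (Pi.single j b : Fin n → B) l) (by
          simp only [sub_mul, Finset.sum_sub_distrib, ← hee]
          simp [Pi.single_apply]) j
        rw [he, Pi.single_eq_same, zero_sub] at this
        exact neg_mem_iff.1 this
      obtain rfl : i = 0 := Fin.fin_one_eq_zero i
      rw [← hb]
      exact H24Art.map_mem_maximalIdeal _ hm
  refine ⟨quot B K hK, quotMk B K hK, quotFactor hK p hKp, _, isSmallExt_of_kerBasis hsurj ht₁, ht₁,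
    quotMk_quotFactor hK p hKp, fun l => ?_⟩
  by_cases h : l = j
  · subst h
    rw [Pi.single_eq_same, map_one, one_mul]
  · rw [Pi.single_eq_of_ne h, map_zero, zero_mul]
    exact Ideal.Quotient.eq_zero_iff_mem.2 (Ideal.subset_span ⟨l, h, rfl⟩)

/-- Additivity of the sheaf Hom. -/
theorem additive_sheafHom {Z : Scheme.{u}} (C : Z.Modules) [DCoh.HasSheafHom C] : (DCoh.sheafHom C).Additive :=
  (DCoh.sheafHomAdj C).right_adjoint_additive

attribute [local instance] additive_sheafHom

variable {X : Scheme.{u}} [X.Over (Spec (CommRingCat.of k))] {Z : Scheme.{u}} (i : Z ⟶ X) [IsClosedImmersion i]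

/-- The identification of the pullback of the quotient with the structure sheaf. -/
noncomputable def pullQuotIso :
    (Scheme.Modules.pullback i).obj (ClSub.quotMod i.ker) ≅ Coh.structureModule Z :=
  haveI : IsIso ((Scheme.Modules.pullbackPushforwardAdjunction i).counit.app (Coh.structureModule Z)) :=
    Closed.isIso_counit_of_isClosedImmersion i _
  (Scheme.Modules.pullback i).mapIso (quotPushIso i) ≪≫
    asIso ((Scheme.Modules.pullbackPushforwardAdjunction i).counit.app (Coh.structureModule Z))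

theorem preserves_colimits_pullback :
    PreservesColimitsOfSize.{0, 0} (Scheme.Modules.pullback i) :=
  (Scheme.Modules.pullbackPushforwardAdjunction i).leftAdjoint_preservesColimits

theorem additive_pullback : (Scheme.Modules.pullback i).Additive :=
  (Scheme.Modules.pullbackPushforwardAdjunction i).left_adjoint_additive

attribute [local instance] preserves_colimits_pullback additive_pullback

variable {B A : Art k k} {p : B ⟶ A} (hp : Function.Surjective p)
  (I : (localHilb X (X ↘ Spec (CommRingCat.of k)) i.ker).obj A)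

/-- The projection of the obstruction extension. -/
noncomputable def obsπ : obsMod p I ⟶ ClSub.idealMod i.ker :=
  (exists_obsπ' I hp).choose

theorem obsπ_spec : ∀ (U : X.Opens) (hU : IsAffineOpen U) m, ∀ q ∈ pre p I hU, emb p I U m = cls p I U q →
    OmegaSh.idealSect i.ker U ((obsπ i hp I).app U m) = res (X ↘ Spec (CommRingCat.of k)) B U q :=
  (exists_obsπ' I hp).choose_spec

/-- The projection, pulled back. -/
noncomputable abbrev obsπL :
    (Scheme.Modules.pullback i).obj (obsMod p I) ⟶ (Scheme.Modules.pullback i).obj (ClSub.idealMod i.ker) :=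
  (Scheme.Modules.pullback i).map (obsπ i hp I)

instance epi_obsπL : Epi (obsπL i hp I) :=
  haveI : Epi (obsπ i hp I) := epi_π hp I (obsπ_spec i hp I)
  (Scheme.Modules.pullback i).map_epi _

/-- The obstruction extension on the closed subscheme. -/
noncomputable abbrev obsSC : ShortComplex Z.Modules :=
  ShortComplex.mk (kernel.ι (obsπL i hp I)) (obsπL i hp I) (kernel.condition _)

theorem shortExact_obsSC : (obsSC i hp I).ShortExact :=
  { exact := ShortComplex.exact_of_f_is_kernel _ (kernelIsKernel _)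
    mono_f := inferInstanceAs (Mono (kernel.ι (obsπL i hp I)))
    epi_g := epi_obsπL i hp I }

/-- The comparison of kernels is an epimorphism. -/
theorem epi_kernelComparison :
    Epi (kernelComparison (obsπ i hp I) (Scheme.Modules.pullback i)) := by
  haveI : Epi (obsπ i hp I) := epi_π hp I (obsπ_spec i hp I)
  let S := ShortComplex.mk (kernel.ι (obsπ i hp I)) (obsπ i hp I) (kernel.condition _)
  have hS : S.Exact := ShortComplex.exact_of_f_is_kernel _ (kernelIsKernel _)
  exact (ShortComplex.exact_iff_epi_kernel_lift _).1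
    (hS.map_of_epi_of_preservesCokernel (Scheme.Modules.pullback i) inferInstance inferInstance)

variable [DCoh.HasSheafHom (Omega.conormal i)] (hlf : FlatMod.IsFinLocFree (Omega.conormal i))

include hlf in
theorem shortExact_map_obsSC : ((obsSC i hp I).map (DCoh.sheafHom (Omega.conormal i))).ShortExact :=
  shortExact_map_sheafHom (Omega.conormal i) (shortExact_obsSC i hp I)
    (H8Props.FinLocFree.isFP_of_isFinLocFree _ hlf) fun y => by
      haveI : Module.Free (Z.presheaf.stalk y) ((Omega.conormal i).presheaf.stalk y) :=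
        H8Props.FinLocFree.free_stalk _ hlf y
      have hs : Function.Surjective (stalkLin (obsπL i hp I) y) :=
        (H8Props.FunDescent.epi_iff _).1 (epi_obsπL i hp I) y
      haveI : Module.Free (Z.presheaf.stalk y)
          (((Scheme.Modules.pullback i).obj (ClSub.idealMod i.ker)).presheaf.stalk y) := ‹_›
      obtain ⟨σ, hσ⟩ := Module.projective_lifting_property (stalkLin (obsπL i hp I) y) LinearMap.id hs
      exact ⟨σ, fun e => LinearMap.congr_fun hσ e⟩

/-- The class of the obstruction extension. -/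
noncomputable def obsExtCls :
    H10Coh.HnM ((DCoh.sheafHom (Omega.conormal i)).obj (kernel (obsπL i hp I))) 1 ⊤ :=
  obsCls (C := Omega.conormal i) (shortExact_map_obsSC i hp I hlf) (𝟙 _)

theorem obsExtCls_eq_zero_iff :
    obsExtCls i hp I hlf = 0 ↔
      ∃ s : (Scheme.Modules.pullback i).obj (ClSub.idealMod i.ker) ⟶ _, s ≫ obsπL i hp I = 𝟙 _ :=
  obsCls_eq_zero_iff (C := Omega.conormal i) (shortExact_map_obsSC i hp I hlf) (𝟙 _)

/-- A lifting kills the class. -/
theorem obsExtCls_eq_zero_of_lift (I' : (localHilb X (X ↘ Spec (CommRingCat.of k)) i.ker).obj B)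
    (hI' : (localHilb X (X ↘ Spec (CommRingCat.of k)) i.ker).map p I' = I) : obsExtCls i hp I hlf = 0 := by
  have hsub : ∀ U (hU : IsAffineOpen U), idl I' hU ≤ pre p I hU := fun U hU r hr => by
    show pm _ p U r ∈ idl I hU
    rw [← hI', idl_map]
    exact Ideal.mem_map_of_mem _ hr
  have hval : ∀ U (hU : IsAffineOpen U) (a : Γ(ClSub.idealMod i.ker, U)), ∃ m, ∀ r ∈ idl I' hU,
      res _ B U r = OmegaSh.idealSect i.ker U a → emb p I U m = cls p I U r := by
    intro U hU a
    have ha : OmegaSh.idealSect i.ker U a ∈ i.ker.ideal ⟨U, hU⟩ :=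
      (H29Blow.mem_ideal_iff_exists_idealSect i.ker hU _).2 ⟨a, rfl⟩
    rw [← idl_res I' hU] at ha
    obtain ⟨r, hr, hre⟩ := (Ideal.mem_map_iff_of_surjective _ (res_props _ B hU).1).1 ha
    obtain ⟨m, hm⟩ := exists_emb I hp hU (hsub U hU hr)
    refine ⟨m, fun r' hr' hr'e => hm.trans ?_⟩
    rw [← sub_eq_zero, ← map_sub, cls_eq_zero_iff I hp hU]
    exact Ideal.mul_mono le_rfl (hsub U hU)
      (mem_maximal_mul I' hU (sub_mem hr hr') (by rw [map_sub, hre, hr'e, sub_self]))
  choose f hf using hval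
  have hrep : ∀ U (hU : IsAffineOpen U) (a : Γ(ClSub.idealMod i.ker, U)), ∃ r ∈ idl I' hU,
      res _ B U r = OmegaSh.idealSect i.ker U a := by
    intro U hU a
    refine (Ideal.mem_map_iff_of_surjective _ (res_props _ B hU).1).1 ?_
    rw [idl_res I' hU]
    exact (H29Blow.mem_ideal_iff_exists_idealSect i.ker hU _).2 ⟨a, rfl⟩
  let f' : ∀ (U : X.Opens), IsAffineOpen U → (Γ(ClSub.idealMod i.ker, U) →+ Γ(obsMod p I, U)) := fun U hU =>
    { toFun := f U hU
      map_zero' := emb_injective p I U (by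
        rw [hf U hU 0 0 (zero_mem _) (by rw [map_zero, map_zero]), map_zero, map_zero])
      map_add' := fun a b => emb_injective p I U (by
        obtain ⟨r, hr, hre⟩ := hrep U hU a
        obtain ⟨r', hr', hr'e⟩ := hrep U hU b
        rw [map_add, hf U hU _ r hr hre, hf U hU _ r' hr' hr'e,
          hf U hU _ (r + r') (add_mem hr hr') (by rw [map_add, map_add, hre, hr'e]), map_add]) }
  obtain ⟨σ, hσ⟩ := H11Sym.exists_hom_of_affine (ClSub.idealMod i.ker) (obsMod p I) f' (fun U hU c a => by
      obtain ⟨r, hr, hre⟩ := hrep U hU a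
      obtain ⟨c', rfl⟩ := (res_props (X ↘ Spec (CommRingCat.of k)) B hU).1 c
      refine emb_injective p I U ?_
      show emb p I U (f U hU _) = emb p I U (res _ B U c' • f U hU _)
      rw [hf U hU _ (c' * r) (Ideal.mul_mem_left _ _ hr) (by rw [map_mul, hre, H29Blow.idealSect_smul]),
        emb_smul I hp hU c' (hsub U hU hr) (hf U hU a r hr hre)])
    (fun U hU c a => by
      obtain ⟨r, hr, hre⟩ := hrep U hU a
      have hle : X.basicOpen c ≤ U := X.basicOpen_le c
      refine emb_injective p I _ ?_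
      show emb p I _ (f _ _ _) = emb p I _ ((obsMod p I).presheaf.map (homOfLE hle).op (f U hU _))
      rw [emb_res p I hle, hf U hU _ r hr hre, ← cls_res p I hle]
      exact hf _ (hU.basicOpen c) _ _ (idl_restrict I' hU (hU.basicOpen c) hle hr)
        (by
          show res (X ↘ Spec (CommRingCat.of k)) B _ (rho (X ↘ Spec (CommRingCat.of k)) B hle r) = _
          rw [rho, res_map _ B hle, hre, H29Blow.idealSect_res]))
  have hσπ : σ ≫ obsπ i hp I = 𝟙 _ := LeadAff.hom_ext_affine _ _ fun U hU a => by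
    obtain ⟨r, hr, hre⟩ := hrep U hU a
    refine H29Blow.idealSect_injective i.ker U ?_
    show OmegaSh.idealSect i.ker U ((obsπ i hp I).app U (σ.app U a)) = _
    rw [obsπ_spec i hp I U hU _ r (hsub U hU hr) (by rw [hσ U hU]; exact hf U hU a r hr hre), hre]
    rfl
  refine (obsExtCls_eq_zero_iff i hp I hlf).2 ⟨(Scheme.Modules.pullback i).map σ, ?_⟩
  rw [obsπL, ← Functor.map_comp, hσπ, CategoryTheory.Functor.map_id]

/-- The map of extensions along a morphism of semismall extensions. -/
noncomputable def kerΦ {B₁ : Art k k} {p₁ : B₁ ⟶ A} (hp₁ : Function.Surjective p₁) (Φ : obsMod p I ⟶ obsMod p₁ I)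
    (h : Φ ≫ obsπ i hp₁ I = obsπ i hp I) : kernel (obsπL i hp I) ⟶ kernel (obsπL i hp₁ I) :=
  kernel.map _ _ ((Scheme.Modules.pullback i).map Φ) (𝟙 _)
    (by rw [Category.comp_id, obsπL, obsπL, ← Functor.map_comp, h])

theorem obsExtCls_natural {B₁ : Art k k} {p₁ : B₁ ⟶ A} (hp₁ : Function.Surjective p₁) (Φ : obsMod p I ⟶ obsMod p₁ I)
    (h : Φ ≫ obsπ i hp₁ I = obsπ i hp I) :
    obsExtCls i hp₁ I hlf = H10Coh.compMk₀ ((H10Coh.shF Z).map ((DCoh.sheafHom (Omega.conormal i)).map
      (kerΦ i hp I hp₁ Φ h))) 1 ⊤ (obsExtCls i hp I hlf) := by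
  refine obsCls_natural (shortExact_map_obsSC i hp I hlf) (shortExact_map_obsSC i hp₁ I hlf)
    (ShortComplex.homMk (S₁ := obsSC i hp I) (S₂ := obsSC i hp₁ I) (kerΦ i hp I hp₁ Φ h)
      ((Scheme.Modules.pullback i).map Φ) (𝟙 _) ?_ ?_) (𝟙 _) (𝟙 _) (Category.id_comp _)
  · exact kernel.lift_ι _ _ _
  · show (Scheme.Modules.pullback i).map Φ ≫ obsπL i hp₁ I = obsπL i hp I ≫ 𝟙 _
    rw [Category.comp_id, obsπL, obsπL, ← Functor.map_comp, h]

section Small

variable {t : Fin 1 → B} (ht : IsKerBasis p t)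
  (hloc : ∀ ⦃B A : Art k k⦄ (p : B ⟶ A), IsSmallExt p →
    ∀ (I : (localHilb X (X ↘ Spec (CommRingCat.of k)) i.ker).obj A) (y : Z),
      ∃ (U : X.Opens) (hU : IsAffineOpen U) (_ : i y ∈ U) (r : ℕ)
        (f : Fin r → Γ(XA (X ↘ Spec (CommRingCat.of k)) B, up (X ↘ Spec (CommRingCat.of k)) B U)),
          LocalLift p I hU f)

/-- The inclusion of the kernel. -/
noncomputable def obsι : ClSub.quotMod i.ker ⟶ obsMod p I :=
  (exists_obsι I hp ht).choose

omit [DCoh.HasSheafHom (Omega.conormal i)] in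
theorem obsι_spec : ∀ (U : X.Opens) (hU : IsAffineOpen U) (a : Γ(X, U)),
    emb p I U ((obsι i hp I ht).app U (qt i.ker U a)) =
      cls p I U (tmul (X ↘ Spec (CommRingCat.of k)) t hU fun _ => a) :=
  (exists_obsι I hp ht).choose_spec

omit [DCoh.HasSheafHom (Omega.conormal i)] in
theorem obsι_π : obsι i hp I ht ≫ obsπ i hp I = 0 :=
  (shortExact_obs I hp ht _ _ (obsι_spec i hp I ht) (obsπ_spec i hp I)).choose

/-- The comparison of the structure sheaf with the kernel. -/
noncomputable def obsκ : Coh.structureModule Z ⟶ kernel (obsπL i hp I) :=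
  kernel.lift _ ((pullQuotIso i).inv ≫ (Scheme.Modules.pullback i).map (obsι i hp I ht))
    (by rw [obsπL, Category.assoc, ← Functor.map_comp, obsι_π, Functor.map_zero, comp_zero])

include hloc

omit [DCoh.HasSheafHom (Omega.conormal i)] in
theorem shortExact_obsL :
    ∃ hz : ((pullQuotIso i).inv ≫ (Scheme.Modules.pullback i).map (obsι i hp I ht)) ≫ obsπL i hp I = 0,
      (ShortComplex.mk _ _ hz).ShortExact := by
  let L := Scheme.Modules.pullback i
  let ι := obsι i hp I ht
  let π := obsπ i hp I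
  obtain ⟨hz, hS⟩ := shortExact_obs I hp ht ι π (obsι_spec i hp I ht) (obsπ_spec i hp I)
  haveI h₁ : (ClSub.quotMod i.ker).IsQuasicoherent :=
    haveI := H10Coh.isQuasicoherent_unit (X := i.ker.subscheme)
    H10Coh.isQuasicoherent_pushforward_of_isAffineHom i.ker.subschemeι _
  haveI h₃ : (ClSub.idealMod i.ker).IsQuasicoherent := H17.OmegaLocal.isQuasicoherent_idealMod i.ker
  haveI : (ShortComplex.mk ι π hz).X₁.IsQuasicoherent := h₁
  haveI : (ShortComplex.mk ι π hz).X₃.IsQuasicoherent := h₃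
  haveI : (obsMod p I).IsQuasicoherent := H10Coh.isQuasicoherent_X₂ hS
  haveI : Mono (L.map ι) := (H8Props.FunDescent.mono_iff _).2 fun y a b h => by
    obtain ⟨U, hU, hyU, r, f, hf⟩ := hloc p (isSmallExt_of_kerBasis hp ht) I y
    obtain ⟨θ, hθ⟩ := hf.exists_stalk_retraction hp ht ι (obsι_spec i hp I ht) hyU
    letI := H06Mod.stalkAlgebra i y
    obtain ⟨u, rfl⟩ := (pullStalkEquiv i (ClSub.quotMod i.ker) y).surjective a
    obtain ⟨v, rfl⟩ := (pullStalkEquiv i (ClSub.quotMod i.ker) y).surjective b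
    rw [H8Props.FunDescent.pullStalkEquiv_naturality, H8Props.FunDescent.pullStalkEquiv_naturality] at h
    refine congrArg _ ?_
    have h' := congrArg (θ.baseChange (Z.presheaf.stalk y)) ((pullStalkEquiv i (obsMod p I) y).injective h)
    have hid : ∀ w, θ.baseChange (Z.presheaf.stalk y) ((stalkLin ι (i y)).lTensor (Z.presheaf.stalk y) w) = w := by
      intro w
      induction w using TensorProduct.induction_on with
      | zero => simp
      | tmul a b => simp [hθ]
      | add a b ha hb => rw [map_add, map_add, ha, hb]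
    rwa [hid, hid] at h'
  have hS' : ((ShortComplex.mk ι π hz).map L).ShortExact :=
    { exact := hS.exact.map_of_epi_of_preservesCokernel L hS.epi_g inferInstance
      mono_f := ‹_›
      epi_g := epi_obsπL i hp I }
  have hz' : ((pullQuotIso i).inv ≫ L.map ι) ≫ L.map π = 0 := by
    rw [Category.assoc, ← L.map_comp, hz, L.map_zero, comp_zero]
  exact ⟨hz', ShortComplex.shortExact_of_iso (ShortComplex.isoMk (S₁ := (ShortComplex.mk ι π hz).map L)
      (S₂ := ShortComplex.mk ((pullQuotIso i).inv ≫ L.map ι) (L.map π) hz') (pullQuotIso i) (Iso.refl _) (Iso.refl _)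
      ((Iso.hom_inv_id_assoc _ _).trans (Category.comp_id _).symm)
      ((Category.id_comp _).trans (Category.comp_id _).symm)) hS'⟩

omit [DCoh.HasSheafHom (Omega.conormal i)] in
theorem isIso_obsκ : IsIso (obsκ i hp I ht) := by
  obtain ⟨hz, hS⟩ := shortExact_obsL i hp I ht hloc
  haveI : Mono ((pullQuotIso i).inv ≫ (Scheme.Modules.pullback i).map (obsι i hp I ht)) := hS.mono_f
  haveI : Mono (obsκ i hp I ht) := mono_of_mono_fac (kernel.lift_ι _ _ _)
  haveI : Epi (obsκ i hp I ht) := (ShortComplex.exact_iff_epi_kernel_lift _).1 hS.exact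
  exact isIso_of_mono_of_epi _

/-- The inverse of the comparison. -/
noncomputable def obsθ : kernel (obsπL i hp I) ⟶ Coh.structureModule Z :=
  haveI := isIso_obsκ i hp I ht hloc
  inv (obsκ i hp I ht)

omit [DCoh.HasSheafHom (Omega.conormal i)] in
theorem obsκ_θ : obsκ i hp I ht ≫ obsθ i hp I ht hloc = 𝟙 _ :=
  haveI := isIso_obsκ i hp I ht hloc
  IsIso.hom_inv_id _

include ht in
/-- A retraction of the extension from the vanishing of its class. -/
theorem exists_lift_of_obsExtCls (h : obsExtCls i hp I hlf = 0) :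
    ∃ I', (localHilb X (X ↘ Spec (CommRingCat.of k)) i.ker).map p I' = I := by
  let L := Scheme.Modules.pullback i
  let adj := Scheme.Modules.pullbackPushforwardAdjunction i
  let O := Coh.structureModule Z
  haveI : IsIso (adj.counit.app O) := Closed.isIso_counit_of_isClosedImmersion i O
  obtain ⟨sec, hsec⟩ := (obsExtCls_eq_zero_iff i hp I hlf).1 h
  obtain ⟨hz, hS⟩ := shortExact_obsL i hp I ht hloc
  let sp := ShortComplex.Splitting.ofExactOfSection _ hS.exact sec hsec hS.mono_f
  refine exists_lift_of_retraction I hp ht _ (obsι_spec i hp I ht)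
    (adj.unit.app (obsMod p I) ≫ (Scheme.Modules.pushforward i).map sp.r ≫ (quotPushIso i).inv) ?_
  have h2 : L.map (obsι i hp I ht) ≫ sp.r = L.map (quotPushIso i).hom ≫ adj.counit.app O := by
    have := congrArg (fun φ => (pullQuotIso i).hom ≫ φ) sp.f_r
    simp only [Category.assoc, Iso.hom_inv_id_assoc, Category.comp_id] at this
    exact this
  rw [← adj.unit_naturality_assoc, ← Functor.map_comp_assoc, h2, Functor.map_comp, Category.assoc]
  erw [adj.unit_naturality_assoc, adj.right_triangle_components_assoc]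
  exact (quotPushIso i).hom_inv_id

variable [Z.Over (Spec (CommRingCat.of k))]

/-- The coordinate of the obstruction along a small extension. -/
noncomputable def obsCoord :
    Coh.HH Z ((DCoh.sheafHom (Omega.conormal i)).obj (Coh.structureModule Z)) 1 :=
  (H10Coh.HHEquiv _ 1).symm (H10Coh.compMk₀ ((H10Coh.shF Z).map ((DCoh.sheafHom (Omega.conormal i)).map
    (obsθ i hp I ht hloc))) 1 ⊤ (obsExtCls i hp I hlf))

theorem obsExtCls_eq_zero_of_coord (h : obsCoord i hp I hlf ht hloc = 0) : obsExtCls i hp I hlf = 0 := by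
  haveI := isIso_obsκ i hp I ht hloc
  rw [obsCoord, map_eq_zero_iff _ (H10Coh.HHEquiv _ 1).symm.injective] at h
  have h2 := congrArg (H10Coh.compMk₀ ((H10Coh.shF Z).map ((DCoh.sheafHom (Omega.conormal i)).map
    (obsκ i hp I ht))) 1 ⊤) h
  rwa [map_zero, ← H10Coh.compMk₀_comp, ← Functor.map_comp, ← Functor.map_comp, obsθ, IsIso.inv_hom_id,
    CategoryTheory.Functor.map_id, CategoryTheory.Functor.map_id, H10Coh.compMk₀_id] at h2

end Small

variable [Z.Over (Spec (CommRingCat.of k))]
  (hloc : ∀ ⦃B A : Art k k⦄ (p : B ⟶ A), IsSmallExt p →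
    ∀ (I : (localHilb X (X ↘ Spec (CommRingCat.of k)) i.ker).obj A) (y : Z),
      ∃ (U : X.Opens) (hU : IsAffineOpen U) (_ : i y ∈ U) (r : ℕ)
        (f : Fin r → Γ(XA (X ↘ Spec (CommRingCat.of k)) B, up (X ↘ Spec (CommRingCat.of k)) B U)),
          LocalLift p I hU f)
  {n : ℕ} {t : Fin n → B}
  {B₁ : Art k k} {p₁ : B₁ ⟶ A} (hp₁ : Function.Surjective p₁) {t₁ : Fin 1 → B₁}

include hloc hlf

/-- The coordinate along a small quotient, on the class of the semismall extension. -/
theorem exists_obsCoord_eq (ht : IsKerBasis p t) (ht₁ : IsKerBasis p₁ t₁) (q : B ⟶ B₁) (hq : q ≫ p₁ = p)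
    (d : Fin n → k) (hd : ∀ l, q (t l) = algebraMap k B₁ (d l) * t₁ 0) :
    ∃ (η : kernel (obsπL i hp I) ⟶ Coh.structureModule Z) (ψ : kernel (obsπ i hp I) ⟶ ClSub.quotMod i.ker),
      obsCoord i hp₁ I hlf ht₁ hloc = (H10Coh.HHEquiv _ 1).symm
        (H10Coh.compMk₀ ((H10Coh.shF Z).map ((DCoh.sheafHom (Omega.conormal i)).map η)) 1 ⊤
          (obsExtCls i hp I hlf)) ∧
      kernelComparison (obsπ i hp I) (Scheme.Modules.pullback i) ≫ η =
        (Scheme.Modules.pullback i).map ψ ≫ (pullQuotIso i).hom ∧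
      ∀ (U : X.Opens) (hU : IsAffineOpen U) m a,
        tmul (X ↘ Spec (CommRingCat.of k)) t hU a ∈ pre p I hU →
        emb p I U ((kernel.ι (obsπ i hp I)).app U m) = cls p I U (tmul (X ↘ Spec (CommRingCat.of k)) t hU a) →
        ψ.app U m = qt i.ker U (∑ l, H24Def.scalar (X ↘ Spec (CommRingCat.of k)) U (d l) * a l) := by
  obtain ⟨Φ, hΦ⟩ := exists_obsMap q hq hp hp₁ I
  have hπ : Φ ≫ obsπ i hp₁ I = obsπ i hp I :=
    obsMap_comp_π q hq hp I hΦ (obsπ_spec i hp I) (obsπ_spec i hp₁ I)
  obtain ⟨hz, hS⟩ := shortExact_obs I hp₁ ht₁ _ _ (obsι_spec i hp₁ I ht₁) (obsπ_spec i hp₁ I)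
  haveI := hS.mono_f
  haveI : Mono (obsι i hp₁ I ht₁) := hS.mono_f
  let ψ : kernel (obsπ i hp I) ⟶ ClSub.quotMod i.ker := hS.exact.lift (kernel.ι (obsπ i hp I) ≫ Φ)
    (by show (kernel.ι _ ≫ Φ) ≫ obsπ i hp₁ I = 0; rw [Category.assoc, hπ, kernel.condition])
  have hψ : ψ ≫ obsι i hp₁ I ht₁ = kernel.ι (obsπ i hp I) ≫ Φ := hS.exact.lift_f _ _
  refine ⟨kerΦ i hp I hp₁ Φ hπ ≫ obsθ i hp₁ I ht₁ hloc, ψ, ?_, ?_, fun U hU m a ha hm => ?_⟩
  · rw [obsCoord, obsExtCls_natural i hp I hlf hp₁ Φ hπ, ← H10Coh.compMk₀_comp, ← Functor.map_comp,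
      ← Functor.map_comp]
  · have h1 : kernelComparison (obsπ i hp I) (Scheme.Modules.pullback i) ≫ kerΦ i hp I hp₁ Φ hπ =
        ((Scheme.Modules.pullback i).map ψ ≫ (pullQuotIso i).hom) ≫ obsκ i hp₁ I ht₁ := by
      refine (cancel_mono (kernel.ι (obsπL i hp₁ I))).1 ?_
      simp only [Category.assoc, kerΦ, obsκ, kernel.lift_ι, Iso.hom_inv_id_assoc]
      erw [kernelComparison_comp_ι_assoc]
      rw [← Functor.map_comp, ← Functor.map_comp, hψ]
    rw [← Category.assoc, h1, Category.assoc _ (obsκ i hp₁ I ht₁), obsκ_θ, Category.comp_id]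
  · refine H10Coh.injective_app_of_mono' (obsι i hp₁ I ht₁) U (emb_injective p₁ I U ?_)
    rw [obsι_spec i hp₁ I ht₁ U hU, ← pm_tmul_coeff q ht₁ d hd hU a, ← hΦ U hU _ _ ha hm]
    exact congrArg (fun φ => emb p₁ I U (φ.app U m)) hψ

include hp in
/-- The coordinates depend linearly on the small quotient. -/
theorem obsCoord_linear (hi : i ≫ (X ↘ Spec (CommRingCat.of k)) = Z ↘ Spec (CommRingCat.of k))
    (ht : IsKerBasis p t) (ht₁ : IsKerBasis p₁ t₁) (q : B ⟶ B₁) (hq : q ≫ p₁ = p)
    (d : Fin n → k) (hd : ∀ l, q (t l) = algebraMap k B₁ (d l) * t₁ 0)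
    (B' : Fin n → Art k k) (q' : ∀ j, B ⟶ B' j) (p' : ∀ j, B' j ⟶ A) (hp' : ∀ j, Function.Surjective (p' j))
    (t' : ∀ j, Fin 1 → B' j) (ht' : ∀ j, IsKerBasis (p' j) (t' j)) (hq' : ∀ j, q' j ≫ p' j = p)
    (hd' : ∀ j l, q' j (t l) = algebraMap k (B' j) ((Pi.single j (1 : k) : Fin n → k) l) * t' j 0) :
    obsCoord i hp₁ I hlf ht₁ hloc = ∑ j, d j • obsCoord i (hp' j) I hlf (ht' j) hloc := by
  classical
  obtain ⟨η, ψ, hη, hc, hψ⟩ := exists_obsCoord_eq i hp I hlf hloc hp₁ ht ht₁ q hq d hd
  choose η' ψ' hη' hc' hψ' using fun j =>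
    exists_obsCoord_eq i hp I hlf hloc (hp' j) ht (ht' j) (q' j) (hq' j) _ (hd' j)
  let x := X ↘ Spec (CommRingCat.of k)
  have hψsum : ψ = ∑ j, ψ' j ≫ Formal.smulMod k (ClSub.quotMod i.ker) (d j) :=
    LeadAff.hom_ext_affine _ _ fun U hU m => by
      obtain ⟨a, ha, hm⟩ := exists_tmul_of_π_eq_zero hp I (obsπ_spec i hp I) ht hU
        (m := (kernel.ι (obsπ i hp I)).app U m) (by
          show (kernel.ι (obsπ i hp I) ≫ obsπ i hp I).app U m = 0
          rw [kernel.condition]
          rfl)
      rw [hψ U hU m a ha hm, map_sum, H10Coh.app_sum_apply]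
      refine Finset.sum_congr rfl fun j _ => ?_
      show _ = (Formal.smulMod k (ClSub.quotMod i.ker) (d j)).app U ((ψ' j).app U m)
      rw [hψ' j U hU m a ha hm, Finset.sum_eq_single j
        (fun l _ hl => by rw [Pi.single_eq_of_ne hl, map_zero, zero_mul])
        (fun h => absurd (Finset.mem_univ j) h), Pi.single_eq_same, map_one, one_mul, qt_smul, scalar_smul]
  have hηsum : η = ∑ j, η' j ≫ Formal.smulMod k (Coh.structureModule Z) (d j) := by
    haveI := epi_kernelComparison i hp I
    refine (cancel_epi (kernelComparison (obsπ i hp I) (Scheme.Modules.pullback i))).1 ?_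
    rw [hc, hψsum, Functor.map_sum, Preadditive.sum_comp, Preadditive.comp_sum]
    refine Finset.sum_congr rfl fun j _ => ?_
    rw [← Category.assoc, hc' j, Functor.map_comp, H24Formal.pullback_map_smulMod i hi, Category.assoc,
      Category.assoc, H24Formal.smulMod_comm]
  let Λ : (kernel (obsπL i hp I) ⟶ Coh.structureModule Z) →+
      Coh.HH Z ((DCoh.sheafHom (Omega.conormal i)).obj (Coh.structureModule Z)) 1 :=
    AddMonoidHom.mk' (fun η => (H10Coh.HHEquiv _ 1).symm
      (H10Coh.compMk₀ ((H10Coh.shF Z).map ((DCoh.sheafHom (Omega.conormal i)).map η)) 1 ⊤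
        (obsExtCls i hp I hlf))) fun g g' => by rw [compMk₀_map_add, map_add]
  rw [hη]
  show Λ η = _
  rw [hηsum, map_sum]
  refine Finset.sum_congr rfl fun j _ => ?_
  rw [hη' j]
  exact compMk₀_map_smul (η' j) (d j) _

/-- The local Hilbert functor of a closed subscheme with liftable local equations and locally free conormal sheaf
has an obstruction theory with values in the first cohomology of the normal sheaf. -/
theorem hasObsTheory_of_localLift (hi : i ≫ (X ↘ Spec (CommRingCat.of k)) = Z ↘ Spec (CommRingCat.of k)) :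
    HasObsTheory (localHilb X (X ↘ Spec (CommRingCat.of k)) i.ker)
      (Coh.HH Z ((DCoh.sheafHom (Omega.conormal i)).obj (Coh.structureModule Z)) 1) := by
  classical
  have hfin : ∀ {C' C : Art k k} (p : C' ⟶ C), Module.Finite k (RingHom.ker p.toAlgHom) := fun p => finite_ker p
  let b := fun {C' C : Art k k} (p : C' ⟶ C) => haveI := hfin p; Module.finBasis k (RingHom.ker p.toAlgHom)
  choose B' q' p' t' hsm ht' hq' hd' using fun {C' C : Art k k} (p : C' ⟶ C) (hp : IsSemismallExt p) j =>
    exists_quot_basis hp (isKerBasis_of_basis hp (b p)) j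
  let crd := fun {C' C : Art k k} (p : C' ⟶ C) (hp : IsSemismallExt p)
      (J : (localHilb X (X ↘ Spec (CommRingCat.of k)) i.ker).obj C) j =>
    obsCoord i (hsm p hp j).1 J hlf (ht' p hp j) hloc
  refine ⟨⟨fun {C' C} p hp J => ∑ j, crd p hp J j ⊗ₜ[k] b p j, fun {C' C} p hp J => ?_,
    fun {C' C} p hp K hK hKJ hq J => ?_⟩⟩
  · constructor
    · intro h
      have hz : ∀ j, crd p hp J j = 0 := fun j => by
        have h2 := congrArg (fun z => TensorProduct.equivFinsuppOfBasisRight (b p) z j) h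
        simpa [map_sum, Finsupp.single_apply, Module.Basis.repr_self] using h2
      choose J' hJ' using fun j => exists_lift_of_obsExtCls i (hsm p hp j).1 J hlf (ht' p hp j) hloc
        (obsExtCls_eq_zero_of_coord i (hsm p hp j).1 J hlf (ht' p hp j) hloc (hz j))
      let x := X ↘ Spec (CommRingCat.of k)
      have ht := isKerBasis_of_basis hp (b p)
      have hpre : ∀ U (hU : IsAffineOpen U) a,
          tmul x (fun l => (b p l : C')) hU a ∈ pre p J hU := fun U hU a => by
        show pm x p U _ ∈ idl J hU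
        rw [pm_tmul ht]
        exact zero_mem _
      have hpq : ∀ j U s, pm x (p' p hp j) U (pm x (q' p hp j) U s) = pm x p U s := fun j U s => by
        rw [← pm_comp, hq']
      have htq : ∀ j U (hU : IsAffineOpen U) a, pm x (q' p hp j) U (tmul x (fun l => (b p l : C')) hU a) =
          tmul x (t' p hp j) hU (fun _ => a j) := fun j U hU a => by
        rw [pm_tmul_coeff (q' p hp j) (ht' p hp j) _ (hd' p hp j) hU a]
        congr 1
        funext _
        rw [Finset.sum_eq_single j (fun l _ hl => by rw [Pi.single_eq_of_ne hl, map_zero, zero_mul])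
          (fun h => absurd (Finset.mem_univ j) h), Pi.single_eq_same, map_one, one_mul]
      refine (exists_lift_of_ideals ht hp.1 J
        (fun U hU => pre p J hU ⊓ ⨅ j, (idl (J' j) hU).comap (pm x (q' p hp j) U))
        (fun U V hU hV h z hz => ?_) (fun U hU => ?_) fun U hU z hz h0 => ?_).imp fun _ h => h.1
      · rw [Ideal.mem_inf, Ideal.mem_iInf] at hz ⊢
        refine ⟨pre_restrict J hp.1 hU hV h hz.1, fun j => ?_⟩
        rw [Ideal.mem_comap, rho, pm_map x (q' p hp j) h]
        exact idl_restrict (J' j) hU hV h (hz.2 j)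
      · refine le_antisymm (Ideal.map_le_iff_le_comap.2 fun z hz => hz.1) fun y hy => ?_
        obtain ⟨r, rfl⟩ := (pm_props x p hp.1 hU).1 y
        have hsj : ∀ j, ∃ a : Γ(X, U), pm x (q' p hp j) U r - tmul x (t' p hp j) hU (fun _ => a) ∈
            idl (J' j) hU := by
          intro j
          have h1 : pm x (p' p hp j) U (pm x (q' p hp j) U r) ∈ (idl (J' j) hU).map (pm x (p' p hp j) U) := by
            rw [← idl_map, hJ', hpq]
            exact hy
          obtain ⟨z, hz, hze⟩ :=
            (Ideal.mem_map_iff_of_surjective _ (pm_props x (p' p hp j) (hsm p hp j).1 hU).1).1 h1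
          obtain ⟨a, ha⟩ := exists_tmul (ht' p hp j) hU (hsm p hp j).1 (s := pm x (q' p hp j) U r - z)
            (by rw [map_sub, hze, sub_self])
          exact ⟨a 0, by rwa [show (fun _ => a 0) = a from funext fun l => by rw [Fin.fin_one_eq_zero l], ← ha,
            sub_sub_cancel]⟩
        choose a ha using hsj
        have hmem : r - tmul x (fun l => (b p l : C')) hU a ∈
            pre p J hU ⊓ ⨅ j, (idl (J' j) hU).comap (pm x (q' p hp j) U) := by
          rw [Ideal.mem_inf, Ideal.mem_iInf]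
          refine ⟨sub_mem hy (hpre U hU a), fun j => ?_⟩
          rw [Ideal.mem_comap, map_sub, htq]
          exact ha j
        have := Ideal.mem_map_of_mem (pm x p U) hmem
        rwa [map_sub, pm_tmul ht, sub_zero] at this
      · obtain ⟨a, rfl⟩ := exists_tmul ht hU hp.1 h0
        rw [Ideal.mem_inf, Ideal.mem_iInf] at hz
        refine ⟨a, fun j => ?_, rfl⟩
        have := hz.2 j
        rw [Ideal.mem_comap, htq] at this
        exact (tmul_mem_iff (ht' p hp j) hU (J' j) _).1 this 0
    · rintro ⟨J', hJ'⟩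
      refine Finset.sum_eq_zero fun j _ => ?_
      have h0 := obsExtCls_eq_zero_of_lift i hp.1 J hlf J' hJ'
      obtain ⟨η, ψ, hη, -, -⟩ := exists_obsCoord_eq i hp.1 J hlf hloc (hsm p hp j).1 (isKerBasis_of_basis hp (b p))
        (ht' p hp j) (q' p hp j) (hq' p hp j) _ (hd' p hp j)
      show obsCoord i (hsm p hp j).1 J hlf (ht' p hp j) hloc ⊗ₜ[k] b p j = 0
      rw [hη, h0, map_zero, map_zero, TensorProduct.zero_tmul]
  · let pq := quotFactor hK p hKJ
    let κ := (kerToQuot hK p hKJ).restrictScalars k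
    let d : Fin _ → Fin _ → k := fun j l => (b pq).repr (κ (b p j)) l
    have hlin : ∀ l, crd pq hq J l = ∑ j, d j l • crd p hp J j := fun l => by
      refine obsCoord_linear i hp.1 J hlf hloc (hsm pq hq l).1 hi (isKerBasis_of_basis hp (b p)) (ht' pq hq l)
        (quotMk C' K hK ≫ q' pq hq l) (by rw [Category.assoc, hq', quotMk_quotFactor]) (fun j => d j l)
        (fun j => ?_) (B' p hp) (q' p hp) (p' p hp) (fun j => (hsm p hp j).1) (t' p hp) (ht' p hp) (hq' p hp)
        (hd' p hp)
      have he : quotMk C' K hK (b p j : C') = ∑ m, algebraMap k _ (d j m) * ((b pq m : _) : quot C' K hK) := by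
        refine (show quotMk C' K hK (b p j : C') = ((κ (b p j) : _) : quot C' K hK) from rfl).trans ?_
        conv_lhs => rw [← (b pq).sum_repr (κ (b p j))]
        rw [Submodule.coe_sum]
        exact Finset.sum_congr rfl fun m _ => Algebra.smul_def _ _
      show q' pq hq l (quotMk C' K hK (b p j : C')) = _
      rw [he, map_sum, Finset.sum_eq_single l]
      · rw [map_mul, AlgHom.commutes, hd', Pi.single_eq_same, map_one, one_mul]
      · intro m _ hm
        rw [map_mul, hd', Pi.single_eq_of_ne hm, map_zero, zero_mul, mul_zero]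
      · exact fun h => absurd (Finset.mem_univ l) h
    show ∑ l, crd pq hq J l ⊗ₜ[k] b pq l = LinearMap.lTensor _ κ (∑ j, crd p hp J j ⊗ₜ[k] b p j)
    rw [map_sum]
    simp only [hlin, TensorProduct.sum_tmul, LinearMap.lTensor_tmul]
    rw [Finset.sum_comm]
    refine Finset.sum_congr rfl fun j _ => ?_
    conv_rhs => rw [← (b pq).sum_repr (κ (b p j)), TensorProduct.tmul_sum]
    exact Finset.sum_congr rfl fun l _ => by rw [TensorProduct.smul_tmul]

end Groth.Agent.H24Hilb
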