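import Groth.Agent.H24Hilb.Lift
import Groth.Agent.H24Hilb.ObsAlgebra
import Groth.Agent.H11Tilde.ModLoc

/-!
# The obstruction extension of an embedded deformation along a small extension
-/

set_option autoImplicit false
set_option linter.style.haveILetI false
universe u
open CategoryTheory CategoryTheory.Limits AlgebraicGeometry IsLocalRing ArtFun ArtFun.Art

namespace Groth.Agent.H24Hilb

variable {k : Type u} [Field k] {X : Scheme.{u}} {x : X ⟶ specPt k} {I₀ : X.IdealSheafData}
  {B A : Art k k} (p : B ⟶ A) (I : (localHilb X x I₀).obj A)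

/-- The ideal sheaf of the preimage. -/
noncomputable def preSheaf : (XA x B).IdealSheafData := I.1.map (XAmap x p)

/-- The preimage times the ideal of the closed fibre. -/
noncomputable def mpre : (XA x B).IdealSheafData := (XAincl x B).ker * preSheaf p I

theorem mpre_le : mpre p I ≤ I.1.map (XAmap x p) := fun U => by
  rw [mpre, Scheme.IdealSheafData.ideal_mul, Pi.mul_apply]
  exact Ideal.mul_le.2 fun a _ b hb => Ideal.mul_mem_left _ a hb

/-- The map of closed subschemes. -/
noncomputable def jmap : I.1.subscheme ⟶ (mpre p I).subscheme :=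
  Scheme.IdealSheafData.subschemeMap I.1 (mpre p I) (XAmap x p) (mpre_le p I)

/-- The closed subscheme, over the base scheme. -/
noncomputable def jV : (mpre p I).subscheme ⟶ X := (mpre p I).subschemeι ≫ pullback.fst x (specOver B)

/-- The map whose kernel is the obstruction extension. -/
noncomputable def psi :
    (Scheme.Modules.pushforward (jV p I)).obj (Coh.structureModule (mpre p I).subscheme) ⟶
      (Scheme.Modules.pushforward (jV p I)).obj
        ((Scheme.Modules.pushforward (jmap p I)).obj (Coh.structureModule I.1.subscheme)) :=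
  (Scheme.Modules.pushforward (jV p I)).map (ClSub.unitToPush (jmap p I))

/-- The obstruction extension. -/
noncomputable def obsMod : X.Modules := kernel (psi p I)

/-- Its sections inside functions on the closed subscheme. -/
noncomputable def emb (U : X.Opens) :
    Γ(obsMod p I, U) →+ Γ((Scheme.Modules.pushforward (jV p I)).obj (Coh.structureModule (mpre p I).subscheme), U) :=
  ((kernel.ι (psi p I)).app U).hom

/-- The class of a section. -/
noncomputable def cls (U : X.Opens) :
    Γ(XA x B, up x B U) →+ Γ((Scheme.Modules.pushforward (jV p I)).obj (Coh.structureModule (mpre p I).subscheme), U) :=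
  ((mpre p I).subschemeι.app (up x B U)).hom.toAddMonoidHom

theorem cls_res {U V : X.Opens} (h : V ≤ U) (q : Γ(XA x B, up x B U)) :
    cls p I V (rho x B h q) =
      ((Scheme.Modules.pushforward (jV p I)).obj (Coh.structureModule (mpre p I).subscheme)).presheaf.map
        (homOfLE h).op (cls p I U q) :=
  congr($((mpre p I).subschemeι.naturality (homOfLE (up_mono x B h)).op) q)

theorem emb_injective (U : X.Opens) : Function.Injective (emb p I U) :=
  haveI : Mono (kernel.ι (psi p I)) := equalizer.ι_mono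
  H10Coh.injective_app_of_mono' (kernel.ι (psi p I)) U

theorem emb_res {U V : X.Opens} (h : V ≤ U) (m : Γ(obsMod p I, U)) :
    emb p I V ((obsMod p I).presheaf.map (homOfLE h).op m) =
      ((Scheme.Modules.pushforward (jV p I)).obj (Coh.structureModule (mpre p I).subscheme)).presheaf.map
        (homOfLE h).op (emb p I U m) :=
  H11Tilde.app_map_apply (kernel.ι (psi p I)) h m

theorem res_fst (U : X.Opens) (r : Γ(X, U)) :
    res x B U ((pullback.fst x (specOver B)).app U r) = r := by
  have key : ∀ (g : X ⟶ X) (_ : g = 𝟙 X) (hle : U ≤ g ⁻¹ᵁ U), g.appLE U U hle r = r := by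
    rintro g rfl hle
    show (X.presheaf.map (homOfLE (le_refl U)).op) r = r
    rw [show (homOfLE (le_refl U)).op = 𝟙 _ from Subsingleton.elim _ _, CategoryTheory.Functor.map_id]
    rfl
  have h2 := key (XAincl x B ≫ pullback.fst x (specOver B)) (XAincl_fst x B) (by rw [XAincl_fst]; exact le_rfl)
  refine Eq.trans ?_ h2
  show (((pullback.fst x (specOver B)).app U) ≫ (XAincl x B).appLE _ U _) r = _
  rw [Scheme.Hom.comp_appLE]

variable (x) in
/-- Functions on the base scheme as functions on the deformation. -/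
noncomputable def fstc (B : Art k k) (U : X.Opens) : Γ(X, U) →+* Γ(XA x B, up x B U) :=
  ((pullback.fst x (specOver B)).app U).hom

variable {p} (hp : Function.Surjective p)

include hp in
theorem isClosedImmersion_XAmap : IsClosedImmersion (XAmap x p) :=
  haveI : IsClosedImmersion (Spec.map (CommRingCat.ofHom p.toAlgHom.toRingHom)) :=
    IsClosedImmersion.spec_of_surjective _ hp
  MorphismProperty.of_isPullback (P := @IsClosedImmersion) (isPullback_XAmap x p).flip
    (show IsClosedImmersion (specMap p) from this)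

include hp

theorem preSheaf_ideal {U : X.Opens} (hU : IsAffineOpen U) :
    (preSheaf p I).ideal ⟨up x B U, isAffineOpen_up x B hU⟩ = pre p I hU := by
  haveI := isClosedImmersion_XAmap (x := x) hp
  rw [preSheaf, Scheme.IdealSheafData.ideal_map_of_isAffineHom]
  have key : ∀ (W : (XA x A).Opens) (hW : IsAffineOpen W) (e : W = XAmap x p ⁻¹ᵁ up x B U),
      (I.1.ideal ⟨XAmap x p ⁻¹ᵁ up x B U, (isAffineOpen_up x B hU).preimage _⟩).comap
          ((XAmap x p).app (up x B U)).hom =
        (I.1.ideal ⟨W, hW⟩).comap ((XAmap x p).appLE (up x B U) W e.le).hom := by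
    rintro W hW rfl
    rw [← Scheme.Hom.app_eq_appLE]
  exact key (up x A U) (isAffineOpen_up x A hU) (map_up x p U).symm

theorem mpre_ideal {U : X.Opens} (hU : IsAffineOpen U) :
    (mpre p I).ideal ⟨up x B U, isAffineOpen_up x B hU⟩ = (maximalIdeal B).map (sc x B U) * pre p I hU := by
  haveI := isClosedImmersion_XAincl x B
  rw [mpre, Scheme.IdealSheafData.ideal_mul, Pi.mul_apply, preSheaf_ideal I hp hU, ← (res_props x B hU).2,
    Scheme.Hom.ker_apply]
  congr 1
  have key : ∀ (W : X.Opens) (e : W = XAincl x B ⁻¹ᵁ up x B U),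
      RingHom.ker ((XAincl x B).app (up x B U)).hom = RingHom.ker ((XAincl x B).appLE (up x B U) W e.le).hom := by
    rintro W rfl
    rw [← Scheme.Hom.app_eq_appLE]
  exact key U (incl_up x B U).symm

theorem cls_eq_zero_iff {U : X.Opens} (hU : IsAffineOpen U) (q : Γ(XA x B, up x B U)) :
    cls p I U q = 0 ↔ q ∈ (maximalIdeal B).map (sc x B U) * pre p I hU := by
  rw [← mpre_ideal I hp hU, ← (mpre p I).ker_subschemeι_app ⟨up x B U, isAffineOpen_up x B hU⟩]
  rfl

theorem cls_surjective {U : X.Opens} (hU : IsAffineOpen U) : Function.Surjective (cls p I U) :=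
  fun z => (mpre p I).subschemeι.app_surjective (up x B U) (isAffineOpen_up x B hU) z

theorem psi_cls_eq_zero_iff {U : X.Opens} (hU : IsAffineOpen U) (q : Γ(XA x B, up x B U)) :
    (psi p I).app U (cls p I U q) = 0 ↔ q ∈ pre p I hU := by
  haveI := isClosedImmersion_XAmap (x := x) hp
  rw [← preSheaf_ideal I hp hU]
  have e : (jmap p I ≫ (mpre p I).subschemeι).ker = preSheaf p I := by
    rw [jmap, Scheme.IdealSheafData.subschemeMap_subschemeι]
    rfl
  haveI : QuasiCompact (jmap p I ≫ (mpre p I).subschemeι) := by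
    rw [jmap, Scheme.IdealSheafData.subschemeMap_subschemeι]
    infer_instance
  rw [← e, Scheme.Hom.ker_apply, RingHom.mem_ker, Scheme.Hom.comp_app]
  rfl

theorem cls_emb {U : X.Opens} (hU : IsAffineOpen U) (m : Γ(obsMod p I, U)) :
    ∃ q ∈ pre p I hU, emb p I U m = cls p I U q := by
  obtain ⟨q, hq⟩ := cls_surjective I hp hU (emb p I U m)
  refine ⟨q, (psi_cls_eq_zero_iff I hp hU q).1 ?_, hq.symm⟩
  rw [hq]
  show (kernel.ι (psi p I) ≫ psi p I).app U m = 0
  rw [kernel.condition]
  rfl

theorem exists_emb {U : X.Opens} (hU : IsAffineOpen U) {q : Γ(XA x B, up x B U)} (hq : q ∈ pre p I hU) :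
    ∃ m, emb p I U m = cls p I U q :=
  H29Blow.exists_kernelι_app_eq (psi p I) U _ ((psi_cls_eq_zero_iff I hp hU q).2 hq)

theorem pre_restrict {U V : X.Opens} (hU : IsAffineOpen U) (hV : IsAffineOpen V) (h : V ≤ U)
    {q : Γ(XA x B, up x B U)} (hq : q ∈ pre p I hU) : rho x B h q ∈ pre p I hV := by
  show pm x p V (rho x B h q) ∈ idl I hV
  rw [rho, pm_map x p h]
  exact idl_restrict I hU hV h hq

theorem emb_smul {U : X.Opens} (hU : IsAffineOpen U) (c : Γ(XA x B, up x B U)) {m : Γ(obsMod p I, U)}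
    {q : Γ(XA x B, up x B U)} (hq : q ∈ pre p I hU) (hm : emb p I U m = cls p I U q) :
    emb p I U (res x B U c • m) = cls p I U (c * q) := by
  have h1 : emb p I U (res x B U c • m) =
      cls p I U (fstc x B U (res x B U c) * q) := by
    refine ((kernel.ι (psi p I)).app_smul (res x B U c) m).trans ?_
    show (res x B U c) • emb p I U m = _
    rw [hm]
    exact (map_mul ((mpre p I).subschemeι.app (up x B U)).hom _ q).symm
  rw [h1, ← sub_eq_zero, ← map_sub, ← sub_mul, cls_eq_zero_iff I hp hU]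
  refine Ideal.mul_mem_mul ?_ hq
  rw [← (res_props x B hU).2, RingHom.mem_ker, map_sub, sub_eq_zero]
  exact res_fst U (res x B U c)

theorem exists_q_pre {U : X.Opens} (hU : IsAffineOpen U) {a : Γ(X, U)} (ha : a ∈ I₀.ideal ⟨U, hU⟩) :
    ∃ q ∈ pre p I hU, res x B U q = a := by
  rw [← idl_res I hU] at ha
  obtain ⟨y, hy, hye⟩ := (Ideal.mem_map_iff_of_surjective _ (res_props x A hU).1).1 ha
  obtain ⟨q, rfl⟩ := (pm_props x p hp hU).1 y
  exact ⟨q, hy, by rw [← res_pm x p, hye]⟩

variable {t : Fin 1 → B} (ht : IsKerBasis p t)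

omit hp in
theorem qt_smul' {U : X.Opens} (r b : Γ(X, U)) (f : Fin 1 → Γ(X, U)) (hf : f = fun _ => r * b) :
    qt I₀ U (f 0) = r • qt I₀ U b := by
  subst hf
  exact qt_smul r b

include ht

theorem exists_obsι : ∃ ι : ClSub.quotMod I₀ ⟶ obsMod p I, ∀ (U : X.Opens) (hU : IsAffineOpen U) (a : Γ(X, U)),
    emb p I U (ι.app U (qt I₀ U a)) = cls p I U (tmul x t hU fun _ => a) := by
  have hmem : ∀ U (hU : IsAffineOpen U) (a : Fin 1 → Γ(X, U)), tmul x t hU a ∈ pre p I hU := fun U hU a => by
    show pm x p U _ ∈ idl I hU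
    rw [pm_tmul ht]
    exact zero_mem _
  have hwd : ∀ U hU (a b : Γ(X, U)), qt I₀ U a = qt I₀ U b →
      cls p I U (tmul x t hU fun _ => a) = cls p I U (tmul x t hU fun _ => b) := by
    intro U hU a b e
    rw [← sub_eq_zero, ← map_sub, cls_eq_zero_iff I hp hU, ← tmul_sub ht]
    have hab : a - b ∈ I₀.ideal ⟨U, hU⟩ := (qt_eq_zero_iff hU _).1 (by rw [map_sub, e, sub_self])
    obtain ⟨q, hz, hzd⟩ := exists_q_pre I hp hU hab
    rw [tmul_eq ht hU (a := (fun _ => a) - fun _ => b) (fun _ => q) (fun i => by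
      rw [hzd]; rfl)]
    exact Ideal.sum_mem _ fun i _ => Ideal.mul_mem_mul
      (Ideal.mem_map_of_mem _ (H24Art.ker_le_maximalIdeal p (ht.mem i))) hz
  have hval : ∀ U (hU : IsAffineOpen U) (z : Γ(ClSub.quotMod I₀, U)), ∃ m, ∀ a, qt I₀ U a = z →
      emb p I U m = cls p I U (tmul x t hU fun _ => a) := by
    intro U hU z
    obtain ⟨a, rfl⟩ := qt_surjective hU z
    obtain ⟨m, hm⟩ := exists_emb I hp hU (hmem U hU fun _ => a)
    exact ⟨m, fun b hb => hm.trans (hwd U hU a b hb.symm)⟩
  choose f hf using hval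
  let f' : ∀ (U : X.Opens), IsAffineOpen U → (Γ(ClSub.quotMod I₀, U) →+ Γ(obsMod p I, U)) := fun U hU =>
    { toFun := f U hU
      map_zero' := emb_injective p I U (by
        rw [hf U hU 0 0 (map_zero _), map_zero,
          show (fun _ : Fin 1 => (0 : Γ(X, U))) = 0 from rfl, tmul_zero ht, map_zero])
      map_add' := fun z z' => emb_injective p I U (by
        obtain ⟨a, rfl⟩ := qt_surjective hU z
        obtain ⟨b, rfl⟩ := qt_surjective hU z'
        rw [map_add, hf U hU _ a rfl, hf U hU _ b rfl, hf U hU _ (a + b) (map_add _ _ _), ← map_add, ← tmul_add ht]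
        rfl) }
  obtain ⟨ι, hι⟩ := H11Sym.exists_hom_of_affine (ClSub.quotMod I₀) (obsMod p I) f' (fun U hU r z => by
      obtain ⟨a, rfl⟩ := qt_surjective hU z
      obtain ⟨c, rfl⟩ := (res_props x B hU).1 r
      refine emb_injective p I U ?_
      show emb p I U (f U hU _) = emb p I U (res x B U c • f U hU _)
      rw [hf U hU _ (res x B U c * a) (qt_smul _ _), emb_smul I hp hU c (hmem U hU _) (hf U hU _ a rfl),
        mul_tmul ht])
    (fun U hU r z => by
      obtain ⟨a, rfl⟩ := qt_surjective hU z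
      have hle : X.basicOpen r ≤ U := X.basicOpen_le r
      refine emb_injective p I _ ?_
      show emb p I _ (f _ _ _) = emb p I _ ((obsMod p I).presheaf.map (homOfLE hle).op (f U hU _))
      rw [emb_res p I hle, hf U hU _ a rfl, ← cls_res p I hle, rho_tmul ht hU (hU.basicOpen r) hle,
        hf _ (hU.basicOpen r) _ (X.presheaf.map (homOfLE hle).op a) (qt_res hle a)])
  exact ⟨ι, fun U hU a => by rw [hι U hU]; exact hf U hU _ a rfl⟩

omit ht in
theorem exists_obsπ' : ∃ π : obsMod p I ⟶ ClSub.idealMod I₀, ∀ (U : X.Opens) (hU : IsAffineOpen U) m,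
    ∀ q ∈ pre p I hU, emb p I U m = cls p I U q → OmegaSh.idealSect I₀ U (π.app U m) = res x B U q := by
  have hval : ∀ U (hU : IsAffineOpen U) (m : Γ(obsMod p I, U)), ∃ m₀, ∀ q ∈ pre p I hU,
      emb p I U m = cls p I U q → OmegaSh.idealSect I₀ U m₀ = res x B U q := by
    intro U hU m
    obtain ⟨q, hq, hm⟩ := cls_emb I hp hU m
    obtain ⟨m₀, hm₀⟩ := (H29Blow.mem_ideal_iff_exists_idealSect I₀ hU _).1 (res_mem_of_mem_pre I hU hq)
    refine ⟨m₀, fun q' hq' hm' => hm₀.trans ?_⟩
    have h := (cls_eq_zero_iff I hp hU (q - q')).1 (by rw [map_sub, ← hm, ← hm', sub_self])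
    have h2 : q - q' ∈ RingHom.ker (res x B U) := by
      rw [(res_props x B hU).2]
      exact (Ideal.mul_le.2 fun a ha b _ => Ideal.mul_mem_right b _ ha) h
    rwa [RingHom.mem_ker, map_sub, sub_eq_zero] at h2
  choose f hf using hval
  let f' : ∀ (U : X.Opens), IsAffineOpen U → (Γ(obsMod p I, U) →+ Γ(ClSub.idealMod I₀, U)) := fun U hU =>
    { toFun := f U hU
      map_zero' := H29Blow.idealSect_injective I₀ U (by
        rw [hf U hU 0 0 (zero_mem _) (by rw [map_zero, map_zero]), map_zero, map_zero])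
      map_add' := fun m m' => H29Blow.idealSect_injective I₀ U (by
        obtain ⟨q, hq, hm⟩ := cls_emb I hp hU m
        obtain ⟨q', hq', hm'⟩ := cls_emb I hp hU m'
        rw [map_add, hf U hU _ q hq hm, hf U hU _ q' hq' hm',
          hf U hU _ (q + q') (add_mem hq hq') (by rw [map_add, hm, hm', map_add]), map_add]) }
  obtain ⟨π, hπ⟩ := H11Sym.exists_hom_of_affine (obsMod p I) (ClSub.idealMod I₀) f' (fun U hU r m => by
      obtain ⟨q, hq, hm⟩ := cls_emb I hp hU m
      obtain ⟨c, rfl⟩ := (res_props x B hU).1 r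
      refine H29Blow.idealSect_injective I₀ U ?_
      show OmegaSh.idealSect I₀ U (f U hU _) = OmegaSh.idealSect I₀ U (res x B U c • f U hU _)
      rw [H29Blow.idealSect_smul, hf U hU _ q hq hm,
        hf U hU _ (c * q) (Ideal.mul_mem_left _ _ hq) (emb_smul I hp hU c hq hm), map_mul])
    (fun U hU r m => by
      obtain ⟨q, hq, hm⟩ := cls_emb I hp hU m
      have hle : X.basicOpen r ≤ U := X.basicOpen_le r
      refine H29Blow.idealSect_injective I₀ _ ?_
      show OmegaSh.idealSect I₀ _ (f _ _ _) =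
        OmegaSh.idealSect I₀ _ ((ClSub.idealMod I₀).presheaf.map (homOfLE hle).op (f U hU _))
      rw [H29Blow.idealSect_res, hf U hU _ q hq hm, ← res_map x B hle,
        hf _ (hU.basicOpen r) _ (rho x B hle q) (pre_restrict I hp hU (hU.basicOpen r) hle hq)
          (by rw [emb_res p I hle, hm, cls_res p I hle])])
  exact ⟨π, fun U hU m q hq hm => by rw [hπ U hU]; exact hf U hU m q hq hm⟩

theorem exists_obsπ : ∃ π : obsMod p I ⟶ ClSub.idealMod I₀, ∀ (U : X.Opens) (hU : IsAffineOpen U) m,
    ∀ q ∈ pre p I hU, emb p I U m = cls p I U q → OmegaSh.idealSect I₀ U (π.app U m) = res x B U q :=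
  have := ht
  exists_obsπ' I hp

omit ht in
theorem map_maximal_mul_pre {U : X.Opens} (hU : IsAffineOpen U) :
    ((maximalIdeal B).map (sc x B U) * pre p I hU).map (pm x p U) = (maximalIdeal A).map (sc x A U) * idl I hU := by
  rw [Ideal.map_mul, pre, Ideal.map_comap_of_surjective _ (pm_props x p hp hU).1, Ideal.map_map]
  congr 1
  rw [show (pm x p U).comp (sc x B U) = (sc x A U).comp p.toAlgHom.toRingHom from RingHom.ext (pm_sc x p U),
    ← Ideal.map_map]
  congr 1
  refine le_antisymm (Ideal.map_le_iff_le_comap.2 fun b hb => H24Art.map_mem_maximalIdeal p hb) fun a ha => ?_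
  obtain ⟨b, rfl⟩ := hp a
  exact Ideal.mem_map_of_mem _ ((H24Art.comap_maximalIdeal p).1 ha)

theorem shortExact_obs (ι : ClSub.quotMod I₀ ⟶ obsMod p I) (π : obsMod p I ⟶ ClSub.idealMod I₀)
    (hι : ∀ (U : X.Opens) (hU : IsAffineOpen U) (a : Γ(X, U)),
      emb p I U (ι.app U (qt I₀ U a)) = cls p I U (tmul x t hU fun _ => a))
    (hπ : ∀ (U : X.Opens) (hU : IsAffineOpen U) m,
      ∀ q ∈ pre p I hU, emb p I U m = cls p I U q → OmegaSh.idealSect I₀ U (π.app U m) = res x B U q) :
    ∃ hz : ι ≫ π = 0, (ShortComplex.mk ι π hz).ShortExact := by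
  have hmem : ∀ U (hU : IsAffineOpen U) (a : Fin 1 → Γ(X, U)), tmul x t hU a ∈ pre p I hU := fun U hU a => by
    show pm x p U _ ∈ idl I hU
    rw [pm_tmul ht]
    exact zero_mem _
  have hz : ι ≫ π = 0 := by
    refine Scheme.Modules.hom_ext _ _ fun W => ConcreteCategory.hom_ext _ _ fun z₀ => ?_
    refine H11Tilde.eq_of_locally _ _ fun v hv => ?_
    obtain ⟨U, hU, hvU, hle₀⟩ := exists_isAffineOpen_mem_and_subset (U := W) hv
    have hle : U ≤ W := hle₀
    refine ⟨U, hle, hvU, ?_⟩
    rw [← H11Tilde.app_map_apply]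
    refine Eq.trans ?_ (map_zero _).symm
    obtain ⟨a, ha⟩ := qt_surjective (I₀ := I₀) hU ((ClSub.quotMod I₀).presheaf.map (homOfLE hle).op z₀)
    rw [← ha]
    refine H29Blow.idealSect_injective I₀ U ?_
    show OmegaSh.idealSect I₀ U (π.app U (ι.app U _)) = _
    rw [hπ U hU _ _ (hmem U hU _) (hι U hU a), res_tmul ht, map_zero]
  haveI : Mono ι := H11Tilde.mono_of_injective ι fun W z hz0 v hv => by
    obtain ⟨U, hU, hvU, hle₀⟩ := exists_isAffineOpen_mem_and_subset (U := W) hv
    have hle : U ≤ W := hle₀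
    refine ⟨U, hle, hvU, ?_⟩
    obtain ⟨a, ha⟩ := qt_surjective (I₀ := I₀) hU ((ClSub.quotMod I₀).presheaf.map (homOfLE hle).op z)
    rw [← ha]
    have h0 : emb p I U (ι.app U (qt I₀ U a)) = 0 := by
      rw [ha, H11Tilde.app_map_apply, hz0, map_zero, map_zero]
    rw [hι U hU, cls_eq_zero_iff I hp hU] at h0
    exact (qt_eq_zero_iff hU _).2 (mem_of_tmul_mem_maximal_mul_pre ht hp I hU h0 0)
  haveI : Epi π := H11Tilde.epi_of_locally_surjective π fun W z v hv => by
    obtain ⟨U, hU, hvU, hle₀⟩ := exists_isAffineOpen_mem_and_subset (U := W) hv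
    have hle : U ≤ W := hle₀
    obtain ⟨q, hq, hqe⟩ := exists_q_pre I hp hU ((H29Blow.mem_ideal_iff_exists_idealSect I₀ hU _).2
      ⟨(ClSub.idealMod I₀).presheaf.map (homOfLE hle).op z, rfl⟩)
    obtain ⟨m, hm⟩ := exists_emb I hp hU hq
    exact ⟨U, hle, hvU, m, H29Blow.idealSect_injective I₀ U ((hπ U hU m q hq hm).trans hqe)⟩
  refine ⟨hz, { exact := H11Tilde.exact_of_locally _ fun W m₁ hm0 v hv => ?_ }⟩
  obtain ⟨U, hU, hvU, hle₀⟩ := exists_isAffineOpen_mem_and_subset (U := W) hv
  have hle : U ≤ W := hle₀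
  let m : Γ(obsMod p I, U) := (obsMod p I).presheaf.map (homOfLE hle).op m₁
  obtain ⟨q, hq, hm⟩ := cls_emb I hp hU m
  have hq0 : res x B U q = 0 := by
    rw [← hπ U hU m q hq hm]
    show OmegaSh.idealSect I₀ U (π.app U m) = 0
    rw [H11Tilde.app_map_apply]
    refine (congrArg _ ((congrArg _ hm0).trans (map_zero _))).trans (map_zero _)
  have h1 : pm x p U q ∈ ((maximalIdeal B).map (sc x B U) * pre p I hU).map (pm x p U) := by
    rw [map_maximal_mul_pre I hp hU]
    exact mem_maximal_mul I hU hq (by rw [res_pm, hq0])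
  obtain ⟨w, hw, hwq⟩ := (Ideal.mem_map_iff_of_surjective _ (pm_props x p hp hU).1).1 h1
  obtain ⟨a, ha⟩ := exists_tmul ht hU hp (s := q - w) (by rw [map_sub, hwq, sub_self])
  refine ⟨U, hle, hvU, qt I₀ U (a 0), emb_injective p I U ?_⟩
  show emb p I U (ι.app U _) = emb p I U m
  rw [hι U hU, hm, show (fun _ => a 0) = a from funext fun i => by rw [Fin.fin_one_eq_zero i], ← ha, map_sub,
    (cls_eq_zero_iff I hp hU w).2 hw, sub_zero]

/-- A retraction of the extension gives a lifting. -/
theorem exists_lift_of_retraction (ι : ClSub.quotMod I₀ ⟶ obsMod p I)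
    (hι : ∀ (U : X.Opens) (hU : IsAffineOpen U) (a : Γ(X, U)),
      emb p I U (ι.app U (qt I₀ U a)) = cls p I U (tmul x t hU fun _ => a))
    (r : obsMod p I ⟶ ClSub.quotMod I₀) (hr : ι ≫ r = 𝟙 _) :
    ∃ I' : (localHilb X x I₀).obj B, (localHilb X x I₀).map p I' = I := by
  have hrι : ∀ U z, r.app U (ι.app U z) = z := fun U z => by
    show (ι ≫ r).app U z = z
    rw [hr]
    rfl
  let J : ∀ U : X.Opens, IsAffineOpen U → Ideal Γ(XA x B, up x B U) := fun U hU =>
    { carrier := {q | q ∈ pre p I hU ∧ ∀ m, emb p I U m = cls p I U q → r.app U m = 0}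
      zero_mem' := ⟨zero_mem _, fun m hm => by
        rw [map_zero] at hm
        rw [emb_injective p I U (hm.trans (map_zero _).symm), map_zero]⟩
      add_mem' := fun {a b} ha hb => ⟨add_mem ha.1 hb.1, fun m hm => by
        obtain ⟨ma, hma⟩ := exists_emb I hp hU ha.1
        obtain ⟨mb, hmb⟩ := exists_emb I hp hU hb.1
        rw [emb_injective p I U (hm.trans (by rw [map_add, map_add, hma, hmb]) : emb p I U m = emb p I U (ma + mb)),
          map_add, ha.2 ma hma, hb.2 mb hmb, add_zero]⟩
      smul_mem' := fun c a ha => ⟨Ideal.mul_mem_left _ _ ha.1, fun m hm => by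
        obtain ⟨ma, hma⟩ := exists_emb I hp hU ha.1
        rw [emb_injective p I U (hm.trans (emb_smul I hp hU c ha.1 hma).symm), r.app_smul, ha.2 ma hma, smul_zero]⟩ }
  refine (exists_lift_of_ideals ht hp I J (fun U V hU hV h q hq => ?_) (fun U hU => ?_)
    fun U hU q hq h0 => ?_).imp fun I' hI' => hI'.1
  · refine ⟨pre_restrict I hp hU hV h hq.1, fun m hm => ?_⟩
    obtain ⟨m', hm'⟩ := exists_emb I hp hU hq.1
    rw [emb_injective p I V (hm.trans (show cls p I V (rho x B h q) = emb p I V ((obsMod p I).presheaf.map (homOfLE h).op m')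
      by rw [emb_res p I h, hm', cls_res p I h])), H11Tilde.app_map_apply, hq.2 m' hm', map_zero]
  · refine le_antisymm (Ideal.map_le_iff_le_comap.2 fun q hq => hq.1) fun y hy => ?_
    obtain ⟨q, rfl⟩ := (pm_props x p hp hU).1 y
    obtain ⟨m, hm⟩ := exists_emb I hp hU (q := q) hy
    obtain ⟨a, ha⟩ := qt_surjective hU (r.app U m)
    have hta : tmul x t hU (fun _ => a) ∈ pre p I hU := by
      show pm x p U _ ∈ idl I hU
      rw [pm_tmul ht]
      exact zero_mem _
    have hmem : q - tmul x t hU (fun _ => a) ∈ J U hU := ⟨sub_mem hy hta, fun m' hm' => by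
      rw [emb_injective p I U (hm'.trans (by rw [map_sub, map_sub, hm, hι U hU]) :
        emb p I U m' = emb p I U (m - ι.app U (qt I₀ U a))), map_sub, hrι, ha, sub_self]⟩
    have := Ideal.mem_map_of_mem (pm x p U) hmem
    rwa [map_sub, pm_tmul ht, sub_zero] at this
  · obtain ⟨a, rfl⟩ := exists_tmul ht hU hp h0
    refine ⟨a, fun i => ?_, rfl⟩
    obtain rfl : i = 0 := Fin.fin_one_eq_zero i
    have := hq.2 (ι.app U (qt I₀ U (a 0))) (by
      rw [hι U hU, show (fun _ => a 0) = a from funext fun i => by rw [Fin.fin_one_eq_zero i]])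
    rw [hrι] at this
    exact (qt_eq_zero_iff hU _).1 this

omit ht

/-- A generator of the kernel of a small extension. -/
theorem exists_kerBasis_one (h : IsSmallExt p) : ∃ t : Fin 1 → B, IsKerBasis p t := by
  obtain ⟨⟨g, hg⟩⟩ := h.2.2.1
  have hg0 : g ≠ 0 := fun e => h.2.1 (by rw [hg, e]; exact Ideal.span_singleton_eq_bot.2 rfl)
  have hgm : g ∈ RingHom.ker p.toAlgHom := hg ▸ Ideal.mem_span_singleton_self g
  have hmul : ∀ a ∈ maximalIdeal B, a * g = 0 := fun a ha => by
    rw [← Ideal.mem_bot, ← h.2.2.2]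
    exact Ideal.mul_mem_mul ha hgm
  refine ⟨fun _ => g, ⟨fun j hj => ?_, fun _ => hgm, fun a ha _ => hmul a ha, fun c hc i => ?_⟩⟩
  · rw [hg] at hj
    obtain ⟨c, hc⟩ := Ideal.mem_span_singleton'.1 hj
    exact ⟨fun _ => c, by rw [Fin.sum_univ_one, hc]⟩
  · rw [Fin.sum_univ_one] at hc
    obtain rfl : i = 0 := Fin.fin_one_eq_zero i
    rw [mem_maximalIdeal, mem_nonunits_iff]
    exact fun hu => hg0 (hu.mul_right_eq_zero.1 hc)

end Groth.Agent.H24Hilb
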