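import Groth.Agent.H24Hilb.RegularObs
import Groth.Agent.H24Hilb.HomSplit
import Groth.Agent.H29Ref.ConormalQReg
import Groth.Agent.H17.RegQuasi

/-!
# Unobstructedness of regularly immersed subschemes with `H¹(N) = 0`
-/

set_option autoImplicit false
set_option linter.style.haveILetI false
universe u
open CategoryTheory CategoryTheory.Limits AlgebraicGeometry ArtFun ArtFun.Art

namespace Groth.Agent.H24Hilb

variable {k : Type u} [Field k] {X : Scheme.{u}} {x : X ⟶ specPt k} {I₀ : X.IdealSheafData}

theorem isFinLocFree_conormal_of_regular (hreg : Mor2.IsRegularClosedImmersion I₀.subschemeι) :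
    FlatMod.IsFinLocFree (Omega.conormal I₀.subschemeι) :=
  H29Ref.ConormalQReg.isFinLocFree_conormal_of_quasi I₀.subschemeι fun z => by
    obtain ⟨U, hU, hzU, rs, hrs, hker⟩ := hreg.2 z
    haveI := hreg.1
    exact ⟨⟨U, hU⟩, hzU, IsZariskiLocalAtTarget.restrict (P := @IsClosedImmersion) inferInstance U, rs,
      H17.RegQuasi.quasi_of_regular hrs, (Scheme.Hom.ker_apply I₀.subschemeι ⟨U, hU⟩).symm.trans hker⟩

theorem surjective_map_of_HH_one {B A : Art k k} (p : B ⟶ A) (hp : Function.Surjective p)
    (hreg : Mor2.IsRegularClosedImmersion I₀.subschemeι) [DCoh.HasSheafHom (Omega.conormal I₀.subschemeι)]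
    (h1 : Subsingleton (Coh.HH I₀.subscheme ((DCoh.sheafHom (Omega.conormal I₀.subschemeι)).obj
      (Coh.structureModule I₀.subscheme)) 1)) :
    Function.Surjective ((localHilb X x I₀).map p) := by
  have e : Omega.conormal I₀.subschemeι = (Scheme.Modules.pullback I₀.subschemeι).obj (ClSub.idealMod I₀) := by
    rw [Omega.conormal, Scheme.IdealSheafData.ker_subschemeι]
  have hfree := isFinLocFree_conormal_of_regular hreg
  have key : ∀ (E : I₀.subscheme.Modules) (_ : FlatMod.IsFinLocFree E) [DCoh.HasSheafHom E]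
      (_ : Subsingleton (Coh.HH I₀.subscheme ((DCoh.sheafHom E).obj (Coh.structureModule I₀.subscheme)) 1))
      (M : I₀.subscheme.Modules) (f : Coh.structureModule I₀.subscheme ⟶ M) (g : M ⟶ E) (w : f ≫ g = 0),
        (ShortComplex.mk f g w).ShortExact → ∃ r, f ≫ r = 𝟙 _ := by
    intro E hE _ hH M f g w hS
    obtain ⟨s, hs⟩ := exists_section_of_subsingleton_HH_one hS hE hH
    let σ := ShortComplex.Splitting.ofExactOfSection _ hS.exact s hs hS.mono_f
    exact ⟨σ.r, σ.f_r⟩
  refine surjective_map_of_split p hp hreg ?_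
  have := key _ hfree h1
  rw [e] at this
  exact this

end Groth.Agent.H24Hilb
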