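import Groth.Agent.H24Hilb.Obstruction
import Groth.Agent.H24Hilb.Conditions
import Groth.Agent.H24Art.Functor
import Mathlib.RingTheory.Regular.RegularSequence

/-!
# Lifts of regular sequences
-/

set_option autoImplicit false
set_option linter.style.haveILetI false
universe u
open CategoryTheory CategoryTheory.Limits AlgebraicGeometry IsLocalRing ArtFun ArtFun.Art

namespace Groth.Agent.H24Hilb

/-- Every relation between the `f j` is a Koszul relation. -/
def KRel {R : Type*} [CommRing R] {r : ℕ} (f : Fin r → R) : Prop :=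
  ∀ c : Fin r → R, ∑ j, c j * f j = 0 → ∃ e : Fin r → Fin r → R, ∀ j, c j = ∑ l, (e j l - e l j) * f l

theorem koszul_sum_eq_zero {R : Type*} [CommRing R] {r : ℕ} (f : Fin r → R) (e : Fin r → Fin r → R) :
    ∑ j, (∑ l, (e j l - e l j) * f l) * f j = 0 := by
  simp only [Finset.sum_mul, sub_mul, Finset.sum_sub_distrib]
  rw [sub_eq_zero, Finset.sum_comm]
  exact Finset.sum_congr rfl fun j _ => Finset.sum_congr rfl fun l _ => by ring

/-- Relations of a weakly regular sequence are Koszul relations. -/
theorem kRel_of_isWeaklyRegular {R : Type*} [CommRing R] : ∀ {r : ℕ} (v : Fin r → R),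
    RingTheory.Sequence.IsWeaklyRegular R (List.ofFn v) → KRel v := by
  intro r
  induction r with
  | zero => exact fun v _ c _ => ⟨0, fun j => j.elim0⟩
  | succ r ih =>
    intro v hv c hc
    rw [List.ofFn_succ', List.concat_eq_append, RingTheory.Sequence.isWeaklyRegular_append_iff,
      RingTheory.Sequence.isWeaklyRegular_singleton_iff] at hv
    rw [Fin.sum_univ_castSucc] at hc
    have h1 : c (Fin.last r) ∈ (Ideal.ofList (List.ofFn fun l : Fin r => v l.castSucc) • ⊤ : Submodule R R) := by
      refine (Submodule.Quotient.mk_eq_zero _).1 (hv.2 (Eq.trans ?_ (smul_zero (v (Fin.last r))).symm))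
      refine ((Submodule.Quotient.mk_smul _ _ _).symm).trans ((Submodule.Quotient.mk_eq_zero _).2 ?_)
      simp only [smul_eq_mul, Ideal.mul_top]
      rw [mul_comm, eq_neg_of_add_eq_zero_right hc]
      exact neg_mem (Ideal.sum_mem _ fun j _ => Ideal.mul_mem_left _ _
        (Ideal.subset_span (List.mem_ofFn.2 ⟨j, rfl⟩)))
    rw [smul_eq_mul, Ideal.mul_top, Ideal.ofList,
      show {x | x ∈ List.ofFn fun l : Fin r => v l.castSucc} = Set.range fun l : Fin r => v l.castSucc from
        Set.ext fun y => List.mem_ofFn] at h1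
    obtain ⟨a, ha⟩ := Ideal.mem_span_range_iff_exists_fun.1 h1
    obtain ⟨e, he⟩ := ih (fun l => v l.castSucc) hv.1 (fun j => c j.castSucc + a j * v (Fin.last r)) (by
      rw [← hc, ← ha, Finset.sum_mul, ← Finset.sum_add_distrib]
      exact Finset.sum_congr rfl fun j _ => by ring)
    refine ⟨Fin.snoc (fun j => Fin.snoc (e j) 0) (Fin.snoc a 0), fun j => ?_⟩
    induction j using Fin.lastCases with
    | last =>
      rw [Fin.sum_univ_castSucc]
      simp [ha]
    | cast j =>
      rw [Fin.sum_univ_castSucc]
      simp only [Fin.snoc_castSucc, Fin.snoc_last, zero_sub]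
      rw [← he j]
      ring

variable {k : Type u} [Field k] {X : Scheme.{u}} {x : X ⟶ specPt k} {I₀ : X.IdealSheafData}

/-- Relations of lifts of a weakly regular sequence are Koszul relations. -/
theorem kRel_lift (B : Art k k) {U : X.Opens} (hU : IsAffineOpen U) {r : ℕ} (v : Fin r → Γ(X, U))
    (hv : RingTheory.Sequence.IsWeaklyRegular Γ(X, U) (List.ofFn v)) (f : Fin r → Γ(XA x B, up x B U))
    (hf : ∀ j, res x B U (f j) = v j) : KRel f := by
  have key := H24Art.surjective_induction (Λ := k) (k := k) (fun A B (g : B ⟶ A) =>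
    (∀ f : Fin r → Γ(XA x A, up x A U), (∀ j, res x A U (f j) = v j) → KRel f) →
      ∀ f : Fin r → Γ(XA x B, up x B U), (∀ j, res x B U (f j) = v j) → KRel f) ?_ ?_ ?_
    (toBase B) B.res_surjective
  · refine key (fun f hf c hc => ?_) f hf
    have hb : Function.Bijective (res x (base k k) U) :=
      ⟨(RingHom.injective_iff_ker_eq_bot _).2 (ker_res_base hU), (res_props x (base k k) hU).1⟩
    obtain ⟨e, he⟩ := kRel_of_isWeaklyRegular v hv (fun j => res x (base k k) U (c j)) (by
      rw [← map_zero (res x (base k k) U), ← hc, map_sum]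
      exact Finset.sum_congr rfl fun j _ => by rw [map_mul, hf])
    choose e' he' using fun j l => hb.2 (e j l)
    refine ⟨e', fun j => hb.1 ?_⟩
    rw [he, map_sum]
    exact Finset.sum_congr rfl fun l _ => by rw [map_mul, map_sub, he', he', hf]
  · intro A B g hg hA f hf c hc
    have hgb := H24Art.bijective_of_isIso g
    obtain ⟨e, he⟩ := hA (fun j => pm x g U (f j)) (fun j => by rw [res_pm, hf]) (fun j => pm x g U (c j)) (by
      rw [← map_zero (pm x g U), ← hc, map_sum]
      exact Finset.sum_congr rfl fun j _ => by rw [map_mul])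
    choose e' he' using fun j l => (pm_props x g hgb.2 hU).1 (e j l)
    refine ⟨e', fun j => ?_⟩
    have hk : RingHom.ker (pm x g U) = ⊥ := by
      rw [(pm_props x g hgb.2 hU).2, (RingHom.injective_iff_ker_eq_bot g.toAlgHom.toRingHom).1 hgb.1, Ideal.map_bot]
    refine (RingHom.injective_iff_ker_eq_bot _).2 hk ?_
    rw [he, map_sum]
    exact Finset.sum_congr rfl fun l _ => by rw [map_mul, map_sub, he', he']
  · intro A B g hg hA f hf c hc
    obtain ⟨t, ht⟩ := exists_kerBasis_one hg.1 hg
    obtain ⟨e, he⟩ := hA (fun j => pm x g U (f j)) (fun j => by rw [res_pm, hf]) (fun j => pm x g U (c j)) (by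
      rw [← map_zero (pm x g U), ← hc, map_sum]
      exact Finset.sum_congr rfl fun j _ => by rw [map_mul])
    choose e₁ he₁ using fun j l => (pm_props x g hg.1 hU).1 (e j l)
    choose b hb using fun j => exists_tmul ht hU hg.1 (s := c j - ∑ l, (e₁ j l - e₁ l j) * f l) (by
      rw [map_sub, map_sum, sub_eq_zero, he]
      exact Finset.sum_congr rfl fun l _ => by rw [map_mul, map_sub, he₁, he₁])
    obtain ⟨E₂, hE₂⟩ := kRel_of_isWeaklyRegular v hv (fun j => b j 0) (by
      have h0 : tmul x t hU (fun i => ∑ j, b j i * v j) = 0 := by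
        calc tmul x t hU (fun i => ∑ j, b j i * v j) = ∑ j, f j * tmul x t hU (b j) := by
              have e : (fun i => ∑ j, b j i * v j) = ∑ j, fun i => res x B U (f j) * b j i := by
                funext i
                rw [Finset.sum_apply]
                exact Finset.sum_congr rfl fun j _ => by rw [hf, mul_comm]
              rw [e]
              have hs : ∀ (s : Finset (Fin r)) (φ : Fin r → Fin 1 → Γ(X, U)),
                  tmul x t hU (∑ j ∈ s, φ j) = ∑ j ∈ s, tmul x t hU (φ j) := by
                intro s φ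
                induction s using Finset.cons_induction with
                | empty => rw [Finset.sum_empty, Finset.sum_empty, tmul_zero ht]
                | cons a s ha ih => rw [Finset.sum_cons, Finset.sum_cons, tmul_add ht, ih]
              rw [hs]
              exact Finset.sum_congr rfl fun j _ => (mul_tmul ht hU _ _).symm
          _ = 0 := by
              simp only [← hb, mul_sub, Finset.sum_sub_distrib]
              have h1 : ∑ j, f j * c j = 0 := by
                rw [← hc]
                exact Finset.sum_congr rfl fun j _ => mul_comm _ _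
              have h2 : ∑ j, f j * ∑ l, (e₁ j l - e₁ l j) * f l = 0 := by
                rw [← koszul_sum_eq_zero f e₁]
                exact Finset.sum_congr rfl fun j _ => mul_comm _ _
              rw [h1, h2, sub_zero]
      exact congrFun (tmul_inj ht hU h0) 0)
    choose e₂ he₂ using fun j l => (res_props x B hU).1 (E₂ j l)
    refine ⟨fun j l => e₁ j l + sc x B U (t 0) * e₂ j l, fun j => ?_⟩
    have hbt : tmul x t hU (b j) = sc x B U (t 0) * ∑ l, (e₂ j l - e₂ l j) * f l := by
      rw [tmul_eq ht hU (a := b j) (fun _ => ∑ l, (e₂ j l - e₂ l j) * f l) (fun i => by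
        obtain rfl : i = 0 := Fin.fin_one_eq_zero i
        rw [hE₂, map_sum]
        exact Finset.sum_congr rfl fun l _ => by rw [map_mul, map_sub, he₂, he₂, hf]), Fin.sum_univ_one]
    rw [← sub_add_cancel (c j) (∑ l, (e₁ j l - e₁ l j) * f l), hb, hbt, Finset.mul_sum, ← Finset.sum_add_distrib]
    exact Finset.sum_congr rfl fun l _ => by ring
  · exact fun A B C g g' hg hg' hA => hg (hg' hA)

variable {B A : Art k k} {p : B ⟶ A} {t : Fin 1 → B} (hp : Function.Surjective p) (ht : IsKerBasis p t)
  (I : (localHilb X x I₀).obj A) {U : X.Opens} (hU : IsAffineOpen U) {r : ℕ} (v : Fin r → Γ(X, U))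

include hp ht

/-- The local criterion for the obstruction extension to stay exact on the closed subscheme. -/
theorem mem_of_tmul_mem_sq (hv : RingTheory.Sequence.IsWeaklyRegular Γ(X, U) (List.ofFn v))
    (hI : I₀.ideal ⟨U, hU⟩ = Ideal.span (Set.range v)) {a : Fin 1 → Γ(X, U)}
    (h : tmul x t hU a ∈ (pre p I hU) * (pre p I hU) ⊔ (maximalIdeal B).map (sc x B U) * pre p I hU) :
    a 0 ∈ I₀.ideal ⟨U, hU⟩ := by
  choose f hfm hfr using fun j => exists_q_pre I hp hU (hI ▸ Ideal.subset_span (Set.mem_range_self j) : v j ∈ I₀.ideal ⟨U, hU⟩)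
  set J := Ideal.span (Set.range f)
  set T := Ideal.span {sc x B U (t 0)}
  have hfbar : idl I hU ≤ Ideal.span (Set.range fun j => pm x p U (f j)) := by
    obtain ⟨N, hN⟩ := H24Art.isNilpotent_maximalIdeal A
    have step : ∀ n : ℕ, idl I hU ≤ Ideal.span (Set.range fun j => pm x p U (f j)) ⊔
        ((maximalIdeal A).map (sc x A U)) ^ n * idl I hU := by
      intro n
      induction n with
      | zero => rw [pow_zero, one_mul]; exact le_sup_right
      | succ n ih =>
        refine ih.trans (sup_le le_sup_left ?_)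
        refine Ideal.mul_le.2 fun a ha y hy => ?_
        have hy0 : res x A U y ∈ Ideal.span (Set.range v) := hI ▸ idl_res I hU ▸ Ideal.mem_map_of_mem _ hy
        obtain ⟨c, hc⟩ := Ideal.mem_span_range_iff_exists_fun.1 hy0
        choose c' hc' using fun j => (res_props x A hU).1 (c j)
        have hd : y - ∑ j, c' j * pm x p U (f j) ∈ (maximalIdeal A).map (sc x A U) * idl I hU := by
          refine mem_maximal_mul I hU (sub_mem hy (Ideal.sum_mem _ fun j _ => Ideal.mul_mem_left _ _ (hfm j))) ?_
          rw [map_sub, map_sum, ← hc, sub_eq_zero]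
          exact Finset.sum_congr rfl fun j _ => by rw [map_mul, hc', res_pm, hfr]
        rw [← sub_add_cancel y (∑ j, c' j * pm x p U (f j)), mul_add]
        refine add_mem ?_ (Ideal.mem_sup_left (Ideal.mul_mem_left _ _
          (Ideal.sum_mem _ fun j _ => Ideal.mul_mem_left _ _ (Ideal.subset_span ⟨j, rfl⟩))))
        refine Ideal.mem_sup_right ?_
        rw [pow_succ, mul_assoc]
        exact Ideal.mul_mem_mul ha hd
    have := step N
    rwa [← Ideal.map_pow, hN, Ideal.zero_eq_bot, Ideal.map_bot, Ideal.bot_mul, sup_bot_eq] at this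
  have hpre : pre p I hU ≤ J ⊔ T := by
    intro q hq
    obtain ⟨c, hc⟩ := Ideal.mem_span_range_iff_exists_fun.1 (hfbar hq)
    choose c' hc' using fun j => (pm_props x p hp hU).1 (c j)
    obtain ⟨b, hb⟩ := exists_tmul ht hU hp (s := q - ∑ j, c' j * f j) (by
      rw [map_sub, map_sum, ← hc, sub_eq_zero]
      exact Finset.sum_congr rfl fun j _ => by rw [map_mul, hc'])
    rw [← sub_add_cancel q (∑ j, c' j * f j), hb, tmul, Fin.sum_univ_one]
    exact add_mem (Ideal.mem_sup_right (Ideal.mul_mem_right _ _ (Ideal.mem_span_singleton_self _)))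
      (Ideal.mem_sup_left (Ideal.sum_mem _ fun j _ => Ideal.mul_mem_left _ _ (Ideal.subset_span ⟨j, rfl⟩)))
  have ht0 : sc x B U (t 0) ∈ (maximalIdeal B).map (sc x B U) :=
    Ideal.mem_map_of_mem _ (H24Art.ker_le_maximalIdeal p (ht.mem 0))
  have hmT : (maximalIdeal B).map (sc x B U) * T ≤ J := Ideal.mul_le.2 fun q hq y hy => by
    obtain ⟨z, rfl⟩ := Ideal.mem_span_singleton'.1 hy
    rw [mul_comm, mul_assoc, maximal_mul_t ht hq, mul_zero]
    exact zero_mem _
  have hJ : pre p I hU * pre p I hU ⊔ (maximalIdeal B).map (sc x B U) * pre p I hU ≤ J := by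
    refine sup_le ((Ideal.mul_mono hpre hpre).trans ?_) ((Ideal.mul_mono le_rfl hpre).trans ?_)
    · rw [Ideal.sup_mul, Ideal.mul_sup, Ideal.mul_sup]
      refine sup_le (sup_le Ideal.mul_le_left (Ideal.mul_le.2 fun a ha b _ => Ideal.mul_mem_right b _ ha))
        (sup_le (Ideal.mul_le.2 fun a _ b hb => Ideal.mul_mem_left _ a hb) ?_)
      exact (Ideal.mul_mono ((Ideal.span_singleton_le_iff_mem _).2 ht0) le_rfl).trans hmT
    · rw [Ideal.mul_sup]
      exact sup_le (Ideal.mul_le.2 fun a _ b hb => Ideal.mul_mem_left _ a hb) hmT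
  obtain ⟨c, hc⟩ := Ideal.mem_span_range_iff_exists_fun.1 (hJ h)
  have hA : KRel (fun j => pm x p U (f j)) :=
    kRel_lift A hU v hv _ fun j => by rw [res_pm, hfr]
  obtain ⟨e, he⟩ := hA (fun j => pm x p U (c j)) (by
    rw [← pm_tmul ht hU a, ← hc, map_sum]
    exact Finset.sum_congr rfl fun j _ => by rw [map_mul])
  choose e' he' using fun j l => (pm_props x p hp hU).1 (e j l)
  choose b hb using fun j => exists_tmul ht hU hp (s := c j - ∑ l, (e' j l - e' l j) * f l) (by
    rw [map_sub, map_sum, sub_eq_zero, he]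
    exact Finset.sum_congr rfl fun l _ => by rw [map_mul, map_sub, he', he'])
  have h0 : tmul x t hU a = tmul x t hU (fun i => ∑ j, v j * b j i) := by
    rw [tmul_eq ht hU (a := fun i => ∑ j, v j * b j i)
      (fun i => ∑ j, f j * Function.surjInv (res_props x B hU).1 (b j i)) (fun i => by
        rw [map_sum]
        exact Finset.sum_congr rfl fun j _ => by rw [map_mul, hfr, Function.surjInv_eq (res_props x B hU).1])]
    rw [Fin.sum_univ_one, Finset.mul_sum]
    calc tmul x t hU a = ∑ j, (c j - ∑ l, (e' j l - e' l j) * f l) * f j := by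
          simp only [sub_mul (c _), Finset.sum_sub_distrib, hc, koszul_sum_eq_zero f e', sub_zero]
      _ = _ := Finset.sum_congr rfl fun j _ => by
          rw [hb, tmul, Fin.sum_univ_one]
          ring
  rw [← sub_eq_zero, ← tmul_sub ht] at h0
  have := congrFun (tmul_inj ht hU h0) 0
  rw [Pi.sub_apply, Pi.zero_apply, sub_eq_zero] at this
  rw [this, hI]
  exact Ideal.sum_mem _ fun j _ => Ideal.mul_mem_right _ _ (Ideal.subset_span (Set.mem_range_self j))

end Groth.Agent.H24Hilb
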