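import Groth.Agent.H24Hilb.LocalLift
import Groth.Agent.H24Hilb.RegularSeq
import Groth.Prelude.Def_Mor2

/-!
# Regularly immersed subschemes lift locally
-/

set_option autoImplicit false
set_option linter.style.haveILetI false
universe u
open CategoryTheory CategoryTheory.Limits AlgebraicGeometry IsLocalRing ArtFun ArtFun.Art

namespace Groth.Agent.H24Hilb

variable {k : Type u} [Field k] {X : Scheme.{u}} {x : X ⟶ specPt k}

theorem localLift_of_isWeaklyRegular {I₀ : X.IdealSheafData} {B A : Art k k} (p : B ⟶ A) (hp : Function.Surjective p)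
    (I : (localHilb X x I₀).obj A) {U : X.Opens} (hU : IsAffineOpen U) {r : ℕ} (v : Fin r → Γ(X, U))
    (hv : RingTheory.Sequence.IsWeaklyRegular Γ(X, U) (List.ofFn v))
    (hI : I₀.ideal ⟨U, hU⟩ = Ideal.span (Set.range v)) :
    ∃ f : Fin r → Γ(XA x B, up x B U), LocalLift p I hU f := by
  choose f hfm hfr using fun j => exists_q_pre I hp hU (hI ▸ Ideal.subset_span (Set.mem_range_self j) : v j ∈ I₀.ideal ⟨U, hU⟩)
  refine ⟨f, hfm, by simp only [hfr]; exact hI, fun c hc => ?_⟩
  obtain ⟨e, he⟩ := kRel_lift A hU v hv (fun j => pm x p U (f j)) (fun j => by rw [res_pm, hfr]) c hc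
  choose e' he' using fun j l => (pm_props x p hp hU).1 (e j l)
  refine ⟨fun j => ∑ l, (e' j l - e' l j) * f l, fun j => ?_, koszul_sum_eq_zero f e'⟩
  rw [he, map_sum]
  exact Finset.sum_congr rfl fun l _ => by rw [map_mul, map_sub, he', he']

theorem exists_localLift_of_regular {Z : Scheme.{u}} (i : Z ⟶ X) (hreg : Mor2.IsRegularClosedImmersion i)
    {B A : Art k k} (p : B ⟶ A) (hp : Function.Surjective p) (I : (localHilb X x i.ker).obj A) (y : Z) :
    ∃ (U : X.Opens) (hU : IsAffineOpen U) (_ : i y ∈ U) (r : ℕ)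
      (f : Fin r → Γ(XA x B, up x B U)), LocalLift p I hU f := by
  obtain ⟨U, hU, hyU, rs, hrs, hker⟩ := hreg.2 y
  obtain ⟨f, hf⟩ := localLift_of_isWeaklyRegular p hp I hU rs.get
    (by rw [List.ofFn_get]; exact hrs.toIsWeaklyRegular) (by rw [hker, Ideal.ofList, Set.range_list_get])
  exact ⟨U, hU, hyU, rs.length, f, hf⟩

end Groth.Agent.H24Hilb
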