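import Groth.Agent.H24Hilb.Obstruction
import Groth.Agent.H24Art.Functor
import Mathlib.Algebra.Homology.DerivedCategory.Ext.ExactSequences

/-!
# Unobstructed embedded deformations
-/

set_option autoImplicit false
set_option linter.style.haveILetI false
universe u
open CategoryTheory CategoryTheory.Limits AlgebraicGeometry IsLocalRing ArtFun ArtFun.Art

namespace Groth.Agent.H24Hilb

variable {k : Type u} [Field k] {X : Scheme.{u}} {x : X ⟶ specPt k} {I₀ : X.IdealSheafData}

/-- A short exact sequence splits when the extension group vanishes. -/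
theorem exists_retraction_of_subsingleton {C : Type*} [Category C] [Abelian C] [HasExt.{u} C]
    {S : ShortComplex C} (hS : S.ShortExact) (h : Subsingleton (Abelian.Ext.{u} S.X₃ S.X₁ 1)) :
    ∃ r : S.X₂ ⟶ S.X₁, S.f ≫ r = 𝟙 _ := by
  obtain ⟨x₂, hx₂⟩ := Abelian.Ext.contravariant_sequence_exact₁ hS S.X₁ (Abelian.Ext.mk₀ (𝟙 S.X₁))
    (n₁ := 1) rfl (h.elim _ _)
  obtain ⟨r, rfl⟩ := (Abelian.Ext.mk₀_bijective _ _).2 x₂
  rw [Abelian.Ext.mk₀_comp_mk₀] at hx₂
  exact ⟨r, (Abelian.Ext.mk₀_bijective _ _).1 hx₂⟩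

/-- Lifting along small extensions gives smoothness. -/
theorem surjective_map_of_smallExt
    (h : ∀ ⦃B A : Art k k⦄ (p : B ⟶ A), IsSmallExt p → Function.Surjective ((localHilb X x I₀).map p))
    ⦃B A : Art k k⦄ (p : B ⟶ A) (hp : Function.Surjective p) : Function.Surjective ((localHilb X x I₀).map p) := by
  refine H24Art.surjective_induction (fun A B (g : B ⟶ A) => Function.Surjective ((localHilb X x I₀).map g))
    (fun A B e _ => ?_) (fun A B g hg => h g hg) (fun A B C g g' hg hg' => ?_) p hp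
  · exact (H24Art.map_bijective_of_isIso _ e).2
  · intro z
    obtain ⟨y, rfl⟩ := hg' z
    obtain ⟨w, rfl⟩ := hg y
    exact ⟨w, by rw [Functor.map_comp]; rfl⟩

/-- Vanishing of the obstruction group gives unobstructedness. -/
theorem isSmoothFunctor_of_subsingleton_ext [HasExt.{u} X.Modules]
    (h : Subsingleton (Abelian.Ext.{u} (ClSub.idealMod I₀) (ClSub.quotMod I₀) 1)) :
    IsSmoothFunctor (localHilb X x I₀) := by
  refine surjective_map_of_smallExt fun B A p hp I => ?_
  obtain ⟨t, ht⟩ := exists_kerBasis_one hp.1 hp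
  obtain ⟨ι, hι⟩ := exists_obsι I hp.1 ht
  obtain ⟨π, hπ⟩ := exists_obsπ I hp.1 ht
  obtain ⟨hz, hS⟩ := shortExact_obs I hp.1 ht ι π hι hπ
  obtain ⟨r, hr⟩ := exists_retraction_of_subsingleton hS h
  exact exists_lift_of_retraction I hp.1 ht ι hι r hr

end Groth.Agent.H24Hilb
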