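import Groth.Agent.H24Hilb.RegularSeq
import Groth.Agent.H24Hilb.Smooth
import Groth.Agent.H8Props.FunDescent.Stalk
import Groth.Agent.H24Hilb.ClosedCounit
import Groth.Agent.H29Omega.ConormalStalk
import Groth.Prelude.Def_Mor2
import Mathlib.RingTheory.Regular.Flat

/-!
# Obstructions of embedded deformations of regularly immersed subschemes
-/

set_option autoImplicit false
set_option linter.style.haveILetI false
universe u
open CategoryTheory CategoryTheory.Limits AlgebraicGeometry IsLocalRing ArtFun ArtFun.Art TensorProduct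
open Groth.Agent.H06Mod

namespace Groth.Agent.H24Hilb

variable {k : Type u} [Field k] {X : Scheme.{u}} {x : X ⟶ specPt k} {I₀ : X.IdealSheafData}

/-- An element killed by base change along a surjection is in the kernel ideal times the module. -/
theorem mem_ker_smul_of_one_tmul_eq_zero {A₀ B₀ M₀ : Type u} [CommRing A₀] [CommRing B₀] [Algebra A₀ B₀]
    [AddCommGroup M₀] [Module A₀ M₀] (hs : Function.Surjective (algebraMap A₀ B₀)) {m : M₀}
    (h : (1 : B₀) ⊗ₜ[A₀] m = 0) : m ∈ RingHom.ker (algebraMap A₀ B₀) • (⊤ : Submodule A₀ M₀) := by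
  let e : (A₀ ⧸ RingHom.ker (Algebra.ofId A₀ B₀)) ≃ₐ[A₀] B₀ := Ideal.quotientKerAlgEquivOfSurjective hs
  have h1 := congrArg (fun z => TensorProduct.quotTensorEquivQuotSMul M₀ (RingHom.ker (Algebra.ofId A₀ B₀))
    (e.symm.toLinearEquiv.rTensor M₀ z)) h
  simp only [LinearEquiv.rTensor_tmul, map_zero, AlgEquiv.toLinearEquiv_apply, map_one] at h1
  rw [show (1 : A₀ ⧸ RingHom.ker (Algebra.ofId A₀ B₀)) = Ideal.Quotient.mk _ 1 from rfl,
    TensorProduct.quotTensorEquivQuotSMul_mk_tmul, one_smul, Submodule.Quotient.mk_eq_zero] at h1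
  exact h1

/-- Basic opens of a chart, as flat algebras. -/
theorem flat_res_basicOpen {U : X.Opens} (hU : IsAffineOpen U) (g : Γ(X, U)) :
    letI := (X.presheaf.map (homOfLE (X.basicOpen_le g)).op).hom.toAlgebra
    Module.Flat Γ(X, U) Γ(X, X.basicOpen g) := by
  letI := (X.presheaf.map (homOfLE (X.basicOpen_le g)).op).hom.toAlgebra
  haveI := hU.isLocalization_basicOpen g
  exact IsLocalization.flat Γ(X, X.basicOpen g) (Submonoid.powers g)

theorem res_smul (M : X.Modules) {W W' : X.Opens} (h : W' ≤ W) (r : Γ(X, W)) (m : Γ(M, W)) :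
    M.presheaf.map (homOfLE h).op (r • m) = X.presheaf.map (homOfLE h).op r • M.presheaf.map (homOfLE h).op m :=
  M.map_smul _ r m

/-- Elements of `I_v M_v` are germs of elements of `I(W) M(W)` on basic opens of a chart. -/
theorem exists_germ_of_mem_ker_smul (M : X.Modules) {U : X.Opens} (hU : IsAffineOpen U) (v : X) (hv : v ∈ U)
    {w : M.presheaf.stalk v}
    (hw : w ∈ ((I₀.ideal ⟨U, hU⟩).map (X.presheaf.germ U v hv).hom) • (⊤ : Submodule (X.presheaf.stalk v) (M.presheaf.stalk v))) :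
    ∃ (g : Γ(X, U)) (hg : v ∈ X.basicOpen g) (m : Γ(M, X.basicOpen g)),
      m ∈ I₀.ideal ⟨X.basicOpen g, hU.basicOpen g⟩ • (⊤ : Submodule Γ(X, X.basicOpen g) Γ(M, X.basicOpen g)) ∧
        M.presheaf.germ (X.basicOpen g) v hg m = w := by
  let P : M.presheaf.stalk v → Prop := fun w =>
    ∃ (g : Γ(X, U)) (hg : v ∈ X.basicOpen g) (m : Γ(M, X.basicOpen g)),
      m ∈ I₀.ideal ⟨X.basicOpen g, hU.basicOpen g⟩ • (⊤ : Submodule Γ(X, X.basicOpen g) Γ(M, X.basicOpen g)) ∧
        M.presheaf.germ (X.basicOpen g) v hg m = w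
  have hmono : ∀ {g g' : Γ(X, U)} (h : X.basicOpen g' ≤ X.basicOpen g) (m : Γ(M, X.basicOpen g)),
      m ∈ I₀.ideal ⟨X.basicOpen g, hU.basicOpen g⟩ • (⊤ : Submodule Γ(X, X.basicOpen g) Γ(M, X.basicOpen g)) →
      M.presheaf.map (homOfLE h).op m ∈
        I₀.ideal ⟨X.basicOpen g', hU.basicOpen g'⟩ • (⊤ : Submodule Γ(X, X.basicOpen g') Γ(M, X.basicOpen g')) := by
    intro g g' h m hm
    refine Submodule.smul_induction_on (p := fun m => M.presheaf.map (homOfLE h).op m ∈
      I₀.ideal ⟨X.basicOpen g', hU.basicOpen g'⟩ • (⊤ : Submodule Γ(X, X.basicOpen g') Γ(M, X.basicOpen g')))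
      hm (fun r hr n _ => ?_) fun a b ha hb => by rw [map_add]; exact add_mem ha hb
    rw [res_smul]
    exact Submodule.smul_mem_smul (I₀.ideal_le_comap_ideal (U := ⟨X.basicOpen g', hU.basicOpen g'⟩)
      (V := ⟨X.basicOpen g, hU.basicOpen g⟩) h hr) trivial
  have hsmul : ∀ (r : X.presheaf.stalk v) w, P w → P (r • w) := by
    rintro r w ⟨g, hg, m, hm, rfl⟩
    obtain ⟨W, hW, r, rfl⟩ := X.presheaf.exists_germ_eq r
    obtain ⟨g', hle, hg'⟩ := hU.exists_basicOpen_le (V := W ⊓ X.basicOpen g) ⟨v, hW, hg⟩ hv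
    refine ⟨g', hg', X.presheaf.map (homOfLE (hle.trans inf_le_left)).op r •
      M.presheaf.map (homOfLE (hle.trans inf_le_right)).op m,
      Submodule.smul_mem _ _ (hmono _ m hm), ?_⟩
    rw [germ_smul, X.presheaf.germ_res_apply, M.presheaf.germ_res_apply]
  have hadd : ∀ w w', P w → P w' → P (w + w') := by
    rintro w w' ⟨g, hg, m, hm, rfl⟩ ⟨g', hg', m', hm', rfl⟩
    obtain ⟨g₂, hle, hg₂⟩ := hU.exists_basicOpen_le (V := X.basicOpen g ⊓ X.basicOpen g') ⟨v, hg, hg'⟩ hv
    refine ⟨g₂, hg₂, _, add_mem (hmono (hle.trans inf_le_left) m hm) (hmono (hle.trans inf_le_right) m' hm'), ?_⟩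
    rw [map_add, M.presheaf.germ_res_apply, M.presheaf.germ_res_apply]
  refine Submodule.smul_induction_on (p := P) hw (fun r hr n _ => ?_) hadd
  induction hr using Submodule.span_induction generalizing n with
  | mem r hr =>
    obtain ⟨a, ha, rfl⟩ := hr
    obtain ⟨W, hW, n, rfl⟩ := M.presheaf.exists_germ_eq n
    obtain ⟨g, hle, hg⟩ := hU.exists_basicOpen_le (V := W) ⟨v, hW⟩ hv
    refine ⟨g, hg, X.presheaf.map (homOfLE (X.basicOpen_le g)).op a • M.presheaf.map (homOfLE hle).op n,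
      Submodule.smul_mem_smul (I₀.ideal_le_comap_ideal (U := ⟨X.basicOpen g, hU.basicOpen g⟩) (V := ⟨U, hU⟩)
        (X.basicOpen_le g) ha) trivial, ?_⟩
    rw [germ_smul, X.presheaf.germ_res_apply, M.presheaf.germ_res_apply]
  | zero =>
    rw [zero_smul]
    obtain ⟨g, -, hg⟩ := hU.exists_basicOpen_le (V := U) ⟨v, hv⟩ hv
    exact ⟨g, hg, 0, zero_mem _, map_zero _⟩
  | add a b _ _ ha hb => rw [add_smul]; exact hadd _ _ (ha n trivial) (hb n trivial)
  | smul c a _ ha => rw [smul_eq_mul, mul_smul]; exact hsmul c _ (ha n trivial)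

variable {B A : Art k k} {p : B ⟶ A} {t : Fin 1 → B} (hp : Function.Surjective p) (ht : IsKerBasis p t)
  (I : (localHilb X x I₀).obj A) (ι : ClSub.quotMod I₀ ⟶ obsMod p I)
  (hι : ∀ (U : X.Opens) (hU : IsAffineOpen U) (a : Γ(X, U)),
    emb p I U (ι.app U (qt I₀ U a)) = cls p I U (tmul x t hU fun _ => a))

include hp ht hι

theorem eq_zero_of_ι_mem {W : X.Opens} (hW : IsAffineOpen W) {r : ℕ} (v : Fin r → Γ(X, W))
    (hv : RingTheory.Sequence.IsWeaklyRegular Γ(X, W) (List.ofFn v))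
    (hI : I₀.ideal ⟨W, hW⟩ = Ideal.span (Set.range v)) (z : Γ(ClSub.quotMod I₀, W))
    (h : ι.app W z ∈ I₀.ideal ⟨W, hW⟩ • (⊤ : Submodule Γ(X, W) Γ(obsMod p I, W))) : z = 0 := by
  obtain ⟨a, rfl⟩ := qt_surjective hW z
  have key : ∀ m, m ∈ I₀.ideal ⟨W, hW⟩ • (⊤ : Submodule Γ(X, W) Γ(obsMod p I, W)) →
      ∃ q ∈ pre p I hW * pre p I hW, emb p I W m = cls p I W q := fun m hm => by
    refine Submodule.smul_induction_on (p := fun m => ∃ q ∈ pre p I hW * pre p I hW, emb p I W m = cls p I W q)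
      hm (fun r hr n _ => ?_) ?_
    · obtain ⟨q, hq, hn⟩ := cls_emb I hp hW n
      obtain ⟨c, hc, rfl⟩ := exists_q_pre I hp hW hr
      exact ⟨c * q, Ideal.mul_mem_mul hc hq, emb_smul I hp hW c hq hn⟩
    · rintro m m' ⟨q, hq, e⟩ ⟨q', hq', e'⟩
      exact ⟨q + q', add_mem hq hq', by rw [map_add, e, e', map_add]⟩
  obtain ⟨q, hq, hqe⟩ := key _ h
  rw [hι W hW, ← sub_eq_zero, ← map_sub, cls_eq_zero_iff I hp hW] at hqe
  refine (qt_eq_zero_iff hW a).2 (mem_of_tmul_mem_sq hp ht I hW v hv hI (a := fun _ => a) ?_)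
  rw [← sub_add_cancel (tmul x t hW fun _ => a) q]
  exact add_mem (Ideal.mem_sup_right hqe) (Ideal.mem_sup_left hq)

variable (hreg : Mor2.IsRegularClosedImmersion I₀.subschemeι)

include hreg

theorem injective_stalkLin_pullback (y : I₀.subscheme) :
    Function.Injective (stalkLin ((Scheme.Modules.pullback I₀.subschemeι).map ι) y) := by
  obtain ⟨U, hU, hyU, rs, hrs, hker⟩ := hreg.2 y
  rw [Scheme.IdealSheafData.ker_subschemeι] at hker
  letI := H06Mod.stalkAlgebra I₀.subschemeι y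
  rw [injective_iff_map_eq_zero]
  intro w hw
  obtain ⟨u, rfl⟩ := (pullStalkEquiv I₀.subschemeι (ClSub.quotMod I₀) y).surjective w
  rw [H8Props.FunDescent.pullStalkEquiv_naturality, LinearEquiv.map_eq_zero_iff] at hw
  have hs : Function.Surjective (algebraMap (X.presheaf.stalk (I₀.subschemeι y)) (I₀.subscheme.presheaf.stalk y)) :=
    I₀.subschemeι.stalkMap_surjective y
  obtain ⟨z, rfl⟩ := TensorProduct.mk_surjective (X.presheaf.stalk (I₀.subschemeι y))
    ((ClSub.quotMod I₀).presheaf.stalk (I₀.subschemeι y)) (I₀.subscheme.presheaf.stalk y) hs u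
  rw [TensorProduct.mk_apply, LinearMap.lTensor_tmul] at hw
  suffices hz : z = 0 by rw [hz, TensorProduct.mk_apply, TensorProduct.tmul_zero, map_zero]
  have h1 := mem_ker_smul_of_one_tmul_eq_zero hs hw
  have hk : RingHom.ker (algebraMap (X.presheaf.stalk (I₀.subschemeι y)) (I₀.subscheme.presheaf.stalk y)) =
      (I₀.ideal ⟨U, hU⟩).map (X.presheaf.germ U (I₀.subschemeι y) hyU).hom := by
    refine (H29Omega.range_idealStalk_ker I₀.subschemeι y).symm.trans ?_
    rw [H29Omega.range_idealStalk _ _ ⟨U, hU⟩ hyU, Scheme.IdealSheafData.ker_subschemeι]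
  rw [hk] at h1
  obtain ⟨g, hg, m, hm, hmw⟩ := exists_germ_of_mem_ker_smul (obsMod p I) hU _ hyU h1
  obtain ⟨W', hW', z, rfl⟩ := (ClSub.quotMod I₀).presheaf.exists_germ_eq z
  rw [stalkLin_germ] at hmw
  obtain ⟨W, hyW, i, j, hij⟩ := (obsMod p I).presheaf.germ_eq _ hg hW' _ _ hmw
  obtain ⟨g', hle, hg'⟩ := hU.exists_basicOpen_le (V := W) ⟨_, hyW⟩ hyU
  have hle₁ : X.basicOpen g' ≤ X.basicOpen g := hle.trans i.le
  have hle₂ : X.basicOpen g' ≤ W' := hle.trans j.le
  let v : Fin rs.length → Γ(X, X.basicOpen g') := fun j => X.presheaf.map (homOfLE (X.basicOpen_le g')).op (rs.get j)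
  have hv : RingTheory.Sequence.IsWeaklyRegular Γ(X, X.basicOpen g') (List.ofFn v) := by
    letI := (X.presheaf.map (homOfLE (X.basicOpen_le g')).op).hom.toAlgebra
    haveI := flat_res_basicOpen hU g'
    have e : List.ofFn v = rs.map (algebraMap Γ(X, U) Γ(X, X.basicOpen g')) := by
      conv_rhs => rw [← List.ofFn_get rs, List.map_ofFn]
      rfl
    rw [e]
    exact hrs.toIsWeaklyRegular.of_flat
  have hI : I₀.ideal ⟨X.basicOpen g', hU.basicOpen g'⟩ = Ideal.span (Set.range v) := by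
    rw [← I₀.map_ideal (U := ⟨X.basicOpen g', hU.basicOpen g'⟩) (V := ⟨U, hU⟩) (X.basicOpen_le g'), hker,
      Ideal.ofList, Ideal.map_span,
      show {q | q ∈ rs} = Set.range rs.get from (Set.range_list_get rs).symm, ← Set.range_comp]
    rfl
  have hz0 : (ClSub.quotMod I₀).presheaf.map (homOfLE hle₂).op z = 0 := by
    refine eq_zero_of_ι_mem hp ht I ι hι (hU.basicOpen g') v hv hI _ ?_
    have e1 : (obsMod p I).presheaf.map (homOfLE hle₁).op m = ι.app _ ((ClSub.quotMod I₀).presheaf.map (homOfLE hle₂).op z) := by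
      rw [H11Tilde.app_map_apply]
      have := congrArg ((obsMod p I).presheaf.map (homOfLE hle).op) hij
      rw [← ConcreteCategory.comp_apply, ← Functor.map_comp, ← ConcreteCategory.comp_apply, ← Functor.map_comp] at this
      exact this
    rw [← e1]
    refine Submodule.smul_induction_on (p := fun m => (obsMod p I).presheaf.map (homOfLE hle₁).op m ∈
      I₀.ideal ⟨X.basicOpen g', hU.basicOpen g'⟩ • (⊤ : Submodule Γ(X, X.basicOpen g') Γ(obsMod p I, X.basicOpen g')))
      hm (fun r hr n _ => ?_) fun a b ha hb => by rw [map_add]; exact add_mem ha hb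
    rw [res_smul]
    exact Submodule.smul_mem_smul (I₀.ideal_le_comap_ideal (U := ⟨X.basicOpen g', hU.basicOpen g'⟩)
      (V := ⟨X.basicOpen g, hU.basicOpen g⟩) hle₁ hr) trivial
  rw [← (ClSub.quotMod I₀).presheaf.germ_res_apply (homOfLE hle₂) _ hg' z, hz0, map_zero]

omit hι ht hp hreg

theorem exists_lift_of_regular_aux (π : obsMod p I ⟶ ClSub.idealMod I₀) (hz : ι ≫ π = 0)
    (hS : (ShortComplex.mk ι π hz).ShortExact)
    (hmono : ∀ y : I₀.subscheme, Function.Injective (stalkLin ((Scheme.Modules.pullback I₀.subschemeι).map ι) y))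
    (h : ∀ (M : I₀.subscheme.Modules) (f : Coh.structureModule I₀.subscheme ⟶ M)
      (g : M ⟶ (Scheme.Modules.pullback I₀.subschemeι).obj (ClSub.idealMod I₀)) (w : f ≫ g = 0),
        (ShortComplex.mk f g w).ShortExact → ∃ r, f ≫ r = 𝟙 _) :
    ∃ r : obsMod p I ⟶ ClSub.quotMod I₀, ι ≫ r = 𝟙 _ := by
  let L := Scheme.Modules.pullback I₀.subschemeι
  let adj := Scheme.Modules.pullbackPushforwardAdjunction I₀.subschemeι
  let O := Coh.structureModule I₀.subscheme
  haveI : IsIso (adj.counit.app O) := Closed.isIso_counit_of_isClosedImmersion I₀.subschemeι O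
  haveI : PreservesColimitsOfSize.{0, 0} L := adj.leftAdjoint_preservesColimits
  haveI : L.PreservesZeroMorphisms := Functor.preservesZeroMorphisms_of_isLeftAdjoint L
  haveI := hS.epi_g
  haveI : Epi π := hS.epi_g
  haveI : Mono (L.map ι) := (H8Props.FunDescent.mono_iff _).2 hmono
  haveI : Epi (L.map π) := inferInstance
  have hS' : ((ShortComplex.mk ι π hz).map L).ShortExact :=
    { exact := hS.exact.map_of_epi_of_preservesCokernel L hS.epi_g inferInstance
      mono_f := ‹_›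
      epi_g := ‹_› }
  let e : L.obj ((Scheme.Modules.pushforward I₀.subschemeι).obj O) ≅ O := asIso (adj.counit.app O)
  have hz' : (e.inv ≫ L.map ι) ≫ L.map π = 0 := by
    rw [Category.assoc, ← L.map_comp, hz, L.map_zero, comp_zero]
  have hS'' : (ShortComplex.mk (e.inv ≫ L.map ι) (L.map π) hz').ShortExact :=
    ShortComplex.shortExact_of_iso (ShortComplex.isoMk (S₁ := (ShortComplex.mk ι π hz).map L)
      (S₂ := ShortComplex.mk (e.inv ≫ L.map ι) (L.map π) hz') e (Iso.refl _) (Iso.refl _)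
      ((Iso.hom_inv_id_assoc e _).trans (Category.comp_id _).symm)
      ((Category.id_comp _).trans (Category.comp_id _).symm)) hS'
  obtain ⟨s, hs⟩ := h _ _ _ hz' hS''
  refine ⟨adj.unit.app (obsMod p I) ≫ (Scheme.Modules.pushforward I₀.subschemeι).map s, ?_⟩
  have h1 : L.map ι ≫ s = adj.counit.app O := by
    have := congrArg (fun φ => e.hom ≫ φ) hs
    simp only [Category.assoc, Iso.hom_inv_id_assoc, Category.comp_id] at this
    exact this
  rw [← adj.unit_naturality_assoc, ← Functor.map_comp, h1]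
  exact adj.right_triangle_components O

theorem surjective_map_of_split {B A : Art k k} (p : B ⟶ A) (hp : Function.Surjective p)
    (hreg : Mor2.IsRegularClosedImmersion I₀.subschemeι)
    (h : ∀ (M : I₀.subscheme.Modules) (f : Coh.structureModule I₀.subscheme ⟶ M)
      (g : M ⟶ (Scheme.Modules.pullback I₀.subschemeι).obj (ClSub.idealMod I₀)) (w : f ≫ g = 0),
        (ShortComplex.mk f g w).ShortExact → ∃ r, f ≫ r = 𝟙 _) :
    Function.Surjective ((localHilb X x I₀).map p) := by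
  refine surjective_map_of_smallExt (fun B A p hp I => ?_) p hp
  obtain ⟨t, ht⟩ := exists_kerBasis_one hp.1 hp
  obtain ⟨ι, hι⟩ := exists_obsι I hp.1 ht
  obtain ⟨π, hπ⟩ := exists_obsπ I hp.1 ht
  obtain ⟨hz, hS⟩ := shortExact_obs I hp.1 ht ι π hι hπ
  obtain ⟨r, hr⟩ := exists_lift_of_regular_aux I ι π hz hS
    (injective_stalkLin_pullback hp.1 ht I ι hι hreg) h
  exact exists_lift_of_retraction I hp.1 ht ι hι r hr

theorem surjective_map_of_regular {B A : Art k k} (p : B ⟶ A) (hp : Function.Surjective p)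
    (hreg : Mor2.IsRegularClosedImmersion I₀.subschemeι) [HasExt.{u} I₀.subscheme.Modules]
    (h : Subsingleton (Abelian.Ext.{u} (Omega.conormal I₀.subschemeι) (Coh.structureModule I₀.subscheme) 1)) :
    Function.Surjective ((localHilb X x I₀).map p) := by
  rw [Omega.conormal, Scheme.IdealSheafData.ker_subschemeι] at h
  exact surjective_map_of_split p hp hreg fun M f g w hS => exists_retraction_of_subsingleton hS h

end Groth.Agent.H24Hilb
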