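import Groth.Agent.H24Hilb.ObsTheory
import Groth.Agent.H24Hilb.RegularLocal
import Groth.Agent.H29Ref.ConormalQReg
import Groth.Agent.H29Slice.KoszulReg
import Groth.Agent.H29Slice.H1Quasi
import Groth.Agent.H17.RegQuasi

/-!
# The obstruction theory of a regularly immersed closed subscheme
-/

set_option autoImplicit false
set_option linter.style.haveILetI false
universe u
open CategoryTheory CategoryTheory.Limits AlgebraicGeometry ArtFun ArtFun.Art

namespace Groth.Agent.H24Hilb

/-- The conormal sheaf of a regular closed immersion is locally free. -/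
theorem isFinLocFree_conormal_of_regular' {Z X : Scheme.{u}} (i : Z ⟶ X) (hreg : Mor2.IsRegularClosedImmersion i) :
    FlatMod.IsFinLocFree (Omega.conormal i) :=
  haveI := hreg.1
  H29Ref.ConormalQReg.isFinLocFree_conormal_of_quasi i fun z => by
    obtain ⟨U, hU, hzU, rs, hrs, hker⟩ := hreg.2 z
    exact ⟨⟨U, hU⟩, hzU, IsZariskiLocalAtTarget.restrict (P := @IsClosedImmersion) inferInstance U, rs,
      H17.RegQuasi.quasi_of_regular hrs, (Scheme.Hom.ker_apply i ⟨U, hU⟩).symm.trans hker⟩

/-- A Koszul-regular ideal on a locally Noetherian scheme gives a regular closed immersion. -/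
theorem isRegularClosedImmersion_of_koszul {X : Scheme.{u}} [IsLocallyNoetherian X] (I₀ : X.IdealSheafData)
    (h : RegImm.IsRegularIdeal RegImm.Kind.koszul I₀) : Mor2.IsRegularClosedImmersion I₀.subschemeι := by
  have hq : RegImm.IsRegularIdeal RegImm.Kind.quasi I₀ := fun x hx => by
    obtain ⟨U, hxU, rs, hrs, hI⟩ := h x hx
    exact ⟨U, hxU, rs, H29Slice.isQuasiRegular_of_isH1Regular (H29Slice.isH1Regular_of_isKoszulRegular hrs), hI⟩
  refine ⟨inferInstance, fun z => ?_⟩
  obtain ⟨U, hzU, rs, hrs, hI⟩ := H17.RegQuasi.regularIdeal_of_quasi I₀ hq (I₀.subschemeι z)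
    (by rw [← SetLike.mem_coe, ← I₀.range_subschemeι]; exact Set.mem_range_self z)
  exact ⟨U.1, U.2, hzU, rs, hrs, by rw [I₀.ker_subschemeι]; exact hI⟩

variable {k : Type u} [Field k] {X : Scheme.{u}} [X.Over (Spec (CommRingCat.of k))] {Z : Scheme.{u}}
  [Z.Over (Spec (CommRingCat.of k))] (i : Z ⟶ X) [IsClosedImmersion i]

/-- The obstruction theory of a regularly immersed closed subscheme. -/
theorem hasObsTheory_of_regular (hreg : Mor2.IsRegularClosedImmersion i)
    [DCoh.HasSheafHom (Omega.conormal i)]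
    (hi : i ≫ (X ↘ Spec (CommRingCat.of k)) = Z ↘ Spec (CommRingCat.of k)) :
    HasObsTheory (localHilb X (X ↘ Spec (CommRingCat.of k)) i.ker)
      (Coh.HH Z ((DCoh.sheafHom (Omega.conormal i)).obj (Coh.structureModule Z)) 1) :=
  hasObsTheory_of_localLift i (isFinLocFree_conormal_of_regular' i hreg)
    (fun _ _ p hp I y => exists_localLift_of_regular i hreg p hp.1 I y) hi

end Groth.Agent.H24Hilb
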