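import Groth.Agent.H24Hilb.Basic

/-!
# Embedded deformations from ideals on affine opens
-/

set_option autoImplicit false
set_option linter.style.haveILetI false
universe u
open CategoryTheory CategoryTheory.Limits AlgebraicGeometry IsLocalRing ArtFun ArtFun.Art

namespace Groth.Agent.H24Hilb

variable {k : Type u} [Field k] {X : Scheme.{u}} {x : X ⟶ specPt k}

section Up

variable (x)

/-- Restriction of sections over affine opens. -/
noncomputable abbrev rho (A : Art k k) {U V : X.Opens} (h : V ≤ U) :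
    Γ(XA x A, up x A U) →+* Γ(XA x A, up x A V) :=
  ((XA x A).presheaf.map (homOfLE (up_mono x A h)).op).hom

theorem rho_sc (A : Art k k) {U V : X.Opens} (h : V ≤ U) (a : A) : rho x A h (sc x A U a) = sc x A V a :=
  H24Def.map_scalar (XApr x A) (up_mono x A h) a

theorem rho_comp (A : Art k k) {U V W : X.Opens} (h : V ≤ U) (h' : W ≤ V) :
    (rho x A h').comp (rho x A h) = rho x A (h'.trans h) := by
  rw [rho, rho, rho, ← CommRingCat.hom_comp, ← Functor.map_comp]
  rfl

/-- Every open is pulled back from the closed fibre. -/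
theorem eq_up (A : Art k k) (W : (XA x A).Opens) : up x A (XAincl x A ⁻¹ᵁ W) = W := by
  ext y
  obtain ⟨v, rfl⟩ := surjective_XAincl x A y
  show (pullback.fst x (specOver A)) (XAincl x A v) ∈ XAincl x A ⁻¹ᵁ W ↔ XAincl x A v ∈ W
  rw [show (pullback.fst x (specOver A)) (XAincl x A v) = v by
    rw [← Scheme.Hom.comp_apply, XAincl_fst]; rfl]
  rfl

theorem up_basicOpen (A : Art k k) (U : X.Opens) (g : Γ(XA x A, up x A U)) :
    up x A (X.basicOpen (res x A U g)) = (XA x A).basicOpen g := by
  have h : XAincl x A ⁻¹ᵁ (XA x A).basicOpen g = X.basicOpen (res x A U g) := by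
    rw [Scheme.preimage_basicOpen]
    show X.basicOpen _ = X.basicOpen (((XAincl x A).app (up x A U) ≫ X.presheaf.map _) g)
    rw [CommRingCat.comp_apply, Scheme.basicOpen_res]
    refine (inf_eq_right.2 ?_).symm
    exact (X.basicOpen_le _).trans (incl_up x A U).le
  rw [← h, eq_up]

theorem isLocalization_rho (A : Art k k) {U : X.Opens} (hU : IsAffineOpen U) (g : Γ(XA x A, up x A U)) :
    letI := (rho x A (X.basicOpen_le (res x A U g))).toAlgebra
    IsLocalization.Away g Γ(XA x A, up x A (X.basicOpen (res x A U g))) := by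
  have key : ∀ (V : (XA x A).Opens) (hle : V ≤ up x A U), V = (XA x A).basicOpen g →
      letI := ((XA x A).presheaf.map (homOfLE hle).op).hom.toAlgebra
      IsLocalization.Away g Γ(XA x A, V) := by
    rintro V hle rfl
    exact (isAffineOpen_up x A hU).isLocalization_basicOpen g
  exact key _ (up_mono x A (X.basicOpen_le _)) (up_basicOpen x A U g)

/-- Clearing denominators. -/
theorem exists_num (A : Art k k) {U : X.Opens} (hU : IsAffineOpen U) (r : Γ(X, U)) :
    ∃ g : Γ(XA x A, up x A U), res x A U g = r ∧ IsUnit (rho x A (X.basicOpen_le r) g) ∧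
      (∀ s, ∃ (n : ℕ) (s' : Γ(XA x A, up x A U)),
        s * rho x A (X.basicOpen_le r) g ^ n = rho x A (X.basicOpen_le r) s') ∧
      (∀ (K : Ideal Γ(XA x A, up x A U)) s, rho x A (X.basicOpen_le r) s ∈ K.map (rho x A (X.basicOpen_le r)) →
        ∃ n : ℕ, g ^ n * s ∈ K) := by
  obtain ⟨g, rfl⟩ := (res_props x A hU).1 r
  letI := (rho x A (X.basicOpen_le (res x A U g))).toAlgebra
  haveI := isLocalization_rho x A hU g
  refine ⟨g, rfl, IsLocalization.Away.algebraMap_isUnit g, fun s => IsLocalization.Away.surj g s, fun K s hs => ?_⟩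
  obtain ⟨m, ⟨n, rfl⟩, hm⟩ := (IsLocalization.algebraMap_mem_map_algebraMap_iff (M := Submonoid.powers g) _ K s).1 hs
  exact ⟨n, hm⟩

end Up

variable {I₀ : X.IdealSheafData}

theorem idl_rho {A : Art k k} (I : (localHilb X x I₀).obj A) {U V : X.Opens} (hU : IsAffineOpen U)
    (hV : IsAffineOpen V) (h : V ≤ U) : (idl I hU).map (rho x A h) = idl I hV :=
  I.1.map_ideal (U := ⟨up x A V, isAffineOpen_up x A hV⟩) (V := ⟨up x A U, isAffineOpen_up x A hU⟩) (up_mono x A h)

/-- An embedded deformation from compatible ideals on affine opens. -/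
theorem exists_of_up (A : Art k k) (J : ∀ U : X.Opens, IsAffineOpen U → Ideal Γ(XA x A, up x A U))
    (hloc : ∀ (U : X.Opens) (hU : IsAffineOpen U) (r : Γ(X, U)),
      (J U hU).map (rho x A (X.basicOpen_le r)) = J _ (hU.basicOpen r))
    (hres : ∀ U hU, (J U hU).map (res x A U) = I₀.ideal ⟨U, hU⟩)
    (hflat : ∀ U hU, letI := (sc x A U).toAlgebra; Module.Flat A (Γ(XA x A, up x A U) ⧸ J U hU)) :
    ∃ I : (localHilb X x I₀).obj A, ∀ U hU, idl I hU = J U hU := by
  haveI := isClosedImmersion_XAincl x A
  let J' : ∀ W : (XA x A).affineOpens, Ideal Γ(XA x A, W.1) := fun W =>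
    (J _ (W.2.preimage (XAincl x A))).map ((XA x A).presheaf.map (homOfLE (eq_up x A W.1).ge).op).hom
  have hJ' : ∀ U (hU : IsAffineOpen U), J' ⟨up x A U, isAffineOpen_up x A hU⟩ = J U hU := by
    intro U hU
    have key : ∀ (V : X.Opens) (hV : IsAffineOpen V) (e : V = U) (hle : up x A U ≤ up x A V),
        (J V hV).map ((XA x A).presheaf.map (homOfLE hle).op).hom = J U hU := by
      rintro V hV rfl hle
      rw [show (homOfLE hle).op = 𝟙 _ from Subsingleton.elim _ _, CategoryTheory.Functor.map_id]
      exact Ideal.map_id _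
    exact key _ _ (incl_up x A U) _
  let I : (XA x A).IdealSheafData :=
    { ideal := J'
      map_ideal_basicOpen := fun W f => by
        let V := XAincl x A ⁻¹ᵁ W.1
        let r : Γ(X, V) := (XAincl x A).app W.1 f
        have hV : IsAffineOpen V := W.2.preimage (XAincl x A)
        have hV' : XAincl x A ⁻¹ᵁ (XA x A).basicOpen f = X.basicOpen r := Scheme.preimage_basicOpen _ f
        have key : ∀ (T : X.Opens) (hT : IsAffineOpen T) (hle : T ≤ V) (e : T = X.basicOpen r),
            (J V hV).map (rho x A hle) = J T hT := by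
          rintro T hT hle rfl
          exact hloc V hV r
        show ((J V hV).map _).map _ = (J _ _).map _
        refine Eq.trans ?_ (congrArg (Ideal.map _) (key (XAincl x A ⁻¹ᵁ ((XA x A).affineBasicOpen f).1) _
          ((XAincl x A).preimage_mono ((XA x A).basicOpen_le f)) hV'))
        refine (Ideal.map_map _ _).trans (Eq.trans ?_ (Ideal.map_map _ _).symm)
        refine congrArg (fun φ => Ideal.map φ (J V hV)) ?_
        refine (CommRingCat.hom_comp _ _).symm.trans (Eq.trans ?_ (CommRingCat.hom_comp _ _))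
        refine congrArg CommRingCat.Hom.hom ?_
        refine ((XA x A).presheaf.map_comp _ _).symm.trans (Eq.trans ?_ ((XA x A).presheaf.map_comp _ _))
        rfl }
  refine ⟨⟨I, ?_, ?_⟩, fun U hU => hJ' U hU⟩
  · show Flat (I.subschemeι ≫ XApr x A)
    have hcov : (⨆ U : X.affineOpens, I.subschemeι ⁻¹ᵁ up x A U.1) = ⊤ := by
      refine top_le_iff.1 fun y _ => ?_
      obtain ⟨U, hU, hy⟩ := exists_up x A (I.subschemeι y)
      exact TopologicalSpace.Opens.mem_iSup.2 ⟨⟨U, hU⟩, hy⟩
    refine HasRingHomProperty.of_iSup_eq_top (P := @AlgebraicGeometry.Flat)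
      (fun U : X.affineOpens => ⟨_, (isAffineOpen_up x A U.2).preimage I.subschemeι⟩) hcov fun U => ?_
    let W : (XA x A).affineOpens := ⟨up x A U.1, isAffineOpen_up x A U.2⟩
    let V := I.subschemeι ⁻¹ᵁ W.1
    have h : (H24Def.scalar (I.subschemeι ≫ XApr x A) V).Flat := by
      letI := (sc x A U.1).toAlgebra
      letI : Algebra A Γ(I.subscheme, V) := (H24Def.scalar (I.subschemeι ≫ XApr x A) V).toAlgebra
      let φ : Γ(XA x A, up x A U.1) →ₐ[A] Γ(I.subscheme, V) :=
        { (I.subschemeι.appLE W.1 V le_rfl).hom with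
          commutes' := fun a => by
            refine (H28Def.appLE_scalar (RingHom.id A) I.subschemeι (I.subschemeι ≫ XApr x A) (XApr x A) ?_ _ _ _ a)
            rw [CommRingCat.ofHom_id, Spec.map_id, Category.comp_id] }
      have hφ : Function.Surjective φ := by
        have := I.subschemeι.app_surjective W.1 W.2
        rw [Scheme.Hom.app_eq_appLE] at this
        exact this
      have hk : RingHom.ker φ.toRingHom = J U.1 U.2 := by
        have := I.ker_subschemeι_app W
        rw [Scheme.Hom.app_eq_appLE] at this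
        exact this.trans (hJ' U.1 U.2)
      haveI := hflat U.1 U.2
      haveI : Module.Flat A Γ(I.subscheme, V) := Module.Flat.of_linearEquiv
        ((Ideal.quotientEquivAlgOfEq A hk.symm).trans (Ideal.quotientKerAlgEquivOfSurjective hφ)).symm.toLinearEquiv
      exact RingHom.flat_algebraMap_iff.mpr inferInstance
    have e : ((I.subschemeι ≫ XApr x A).appLE ⊤ V le_top).hom =
        (H24Def.scalar (I.subschemeι ≫ XApr x A) V).comp (Scheme.ΓSpecIso (CommRingCat.of A)).hom.hom := by
      show _ = ((Scheme.ΓSpecIso (CommRingCat.of A)).hom ≫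
        (Scheme.ΓSpecIso (CommRingCat.of A)).inv ≫ (I.subschemeι ≫ XApr x A).appLE ⊤ V le_top).hom
      rw [Iso.hom_inv_id_assoc]
    rw [e]
    exact RingHom.Flat.comp (RingHom.Flat.of_bijective
      (ConcreteCategory.bijective_of_isIso (Scheme.ΓSpecIso (CommRingCat.of A)).hom)) h
  · refine H29Blow.ext_of_forall_exists fun y => ?_
    obtain ⟨U, hU, hy, -⟩ := exists_isAffineOpen_mem_and_subset (x := y) (U := (⊤ : X.Opens)) trivial
    refine ⟨⟨U, hU⟩, hy, ?_⟩
    rw [H29Blow.ideal_comap I (XAincl x A) ⟨up x A U, isAffineOpen_up x A hU⟩ ⟨U, hU⟩ (incl_up x A U).ge,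
      ← hres U hU, show I.ideal ⟨up x A U, isAffineOpen_up x A hU⟩ = J U hU from hJ' U hU]
    rfl

end Groth.Agent.H24Hilb
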