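import Groth.Agent.H24Hilb.Sheaf
import Groth.Agent.H24Art.Basic

/-!
# Multiples of a basis of the kernel of a semismall extension
-/

set_option autoImplicit false
set_option linter.style.haveILetI false
universe u
open CategoryTheory CategoryTheory.Limits AlgebraicGeometry IsLocalRing ArtFun ArtFun.Art

namespace Groth.Agent.H24Hilb

variable {k : Type u} [Field k] {B A : Art k k}

/-- A family of generators of the kernel, independent over the residue field. -/
structure IsKerBasis (p : B ⟶ A) {n : ℕ} (t : Fin n → B) : Prop where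
  span : ∀ j ∈ RingHom.ker p.toAlgHom, ∃ c : Fin n → B, j = ∑ i, c i * t i
  mem : ∀ i, p (t i) = 0
  mul : ∀ a ∈ maximalIdeal B, ∀ i, a * t i = 0
  indep : ∀ c : Fin n → B, ∑ i, c i * t i = 0 → ∀ i, c i ∈ maximalIdeal B

/-- A basis of the kernel over the residue field gives such a family. -/
theorem isKerBasis_of_basis {p : B ⟶ A} (hp : IsSemismallExt p) {n : ℕ}
    (b : Module.Basis (Fin n) k (RingHom.ker p.toAlgHom)) : IsKerBasis p (fun i => (b i : B)) := by
  have hmul : ∀ a ∈ maximalIdeal B, ∀ i, a * (b i : B) = 0 := fun a ha i => by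
    have := Ideal.mul_mem_mul ha (b i).2
    rwa [hp.2, Ideal.mem_bot] at this
  have hc : ∀ (v : k) (i : Fin n), ((v • b i : RingHom.ker p.toAlgHom) : B) = algebraMap k B v * (b i : B) :=
    fun v i => Algebra.smul_def v (b i : B)
  refine ⟨fun j hj => ?_, fun i => (b i).2, hmul, fun c hcz i => ?_⟩
  · refine ⟨fun i => algebraMap k B (b.repr ⟨j, hj⟩ i), ?_⟩
    have := congrArg Subtype.val (b.sum_repr ⟨j, hj⟩)
    rw [Submodule.coe_sum] at this
    exact this.symm.trans (Finset.sum_congr rfl fun i _ => hc _ _)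
  · have h0 : ∑ i, B.res (c i) • b i = 0 := Subtype.ext (by
      rw [Submodule.coe_sum, ZeroMemClass.coe_zero, ← hcz]
      refine Finset.sum_congr rfl fun i _ => ?_
      rw [hc, ← sub_eq_zero, ← sub_mul]
      refine hmul _ ((B.mem_maximalIdeal_iff _).2 ?_) i
      rw [map_sub, AlgHom.commutes]
      exact sub_self _)
    exact (B.mem_maximalIdeal_iff _).2 (Fintype.linearIndependent_iff.1 b.linearIndependent _ h0 i)

theorem exists_kerBasis {p : B ⟶ A} (hp : IsSemismallExt p) : ∃ (n : ℕ) (t : Fin n → B), IsKerBasis p t := by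
  haveI := H24Art.moduleFinite B
  haveI : Module.Finite k (RingHom.ker p.toAlgHom) :=
    inferInstanceAs (Module.Finite k ((RingHom.ker p.toAlgHom).restrictScalars k))
  exact ⟨_, _, isKerBasis_of_basis hp (Module.finBasis k _)⟩

variable {X : Scheme.{u}} {x : X ⟶ specPt k} {I₀ : X.IdealSheafData} {p : B ⟶ A} {n : ℕ} {t : Fin n → B}

variable (x t) in
/-- `∑ tᵢ rᵢ` for any lifts `rᵢ` of `aᵢ`. -/
noncomputable def tmul {U : X.Opens} (hU : IsAffineOpen U) (a : Fin n → Γ(X, U)) : Γ(XA x B, up x B U) :=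
  ∑ i, sc x B U (t i) * Function.surjInv (res_props x B hU).1 (a i)

variable (ht : IsKerBasis p t) {U : X.Opens} (hU : IsAffineOpen U)

include ht

theorem maximal_mul_t {q : Γ(XA x B, up x B U)} (hq : q ∈ (maximalIdeal B).map (sc x B U)) (i : Fin n) :
    sc x B U (t i) * q = 0 := by
  refine Submodule.span_induction (p := fun q _ => sc x B U (t i) * q = 0) ?_ (mul_zero _)
    (fun a b _ _ ha hb => by rw [mul_add, ha, hb, add_zero])
    (fun a b _ hb => by rw [smul_eq_mul, mul_left_comm, hb, mul_zero]) hq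
  rintro _ ⟨c, hc, rfl⟩
  rw [← map_mul, mul_comm (t i), ht.mul c hc i, map_zero]

include hU in
theorem t_mul_eq {r r' : Γ(XA x B, up x B U)} (h : res x B U r = res x B U r') (i : Fin n) :
    sc x B U (t i) * r = sc x B U (t i) * r' := by
  rw [← sub_eq_zero, ← mul_sub]
  refine maximal_mul_t ht ?_ i
  rw [← (res_props x B hU).2, RingHom.mem_ker, map_sub, h, sub_self]

theorem tmul_eq {a : Fin n → Γ(X, U)} (r : Fin n → Γ(XA x B, up x B U)) (hr : ∀ i, res x B U (r i) = a i) :
    tmul x t hU a = ∑ i, sc x B U (t i) * r i :=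
  Finset.sum_congr rfl fun i _ => t_mul_eq ht hU (by rw [Function.surjInv_eq (res_props x B hU).1, hr]) i

theorem tmul_add (a b : Fin n → Γ(X, U)) : tmul x t hU (a + b) = tmul x t hU a + tmul x t hU b := by
  rw [tmul_eq ht hU (a := a + b)
    (fun i => Function.surjInv (res_props x B hU).1 (a i) + Function.surjInv (res_props x B hU).1 (b i))
    (fun i => by rw [map_add, Function.surjInv_eq (res_props x B hU).1, Function.surjInv_eq (res_props x B hU).1]; rfl), tmul, tmul, ← Finset.sum_add_distrib]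
  exact Finset.sum_congr rfl fun i _ => mul_add _ _ _

theorem tmul_zero : tmul x t hU (0 : Fin n → Γ(X, U)) = 0 := by
  rw [tmul_eq ht hU (a := (0 : Fin n → Γ(X, U))) (fun _ => 0) (fun i => map_zero _)]
  simp

theorem tmul_neg (a : Fin n → Γ(X, U)) : tmul x t hU (-a) = -tmul x t hU a := by
  rw [eq_neg_iff_add_eq_zero, ← tmul_add ht, neg_add_cancel, tmul_zero ht]

theorem tmul_sub (a b : Fin n → Γ(X, U)) : tmul x t hU (a - b) = tmul x t hU a - tmul x t hU b := by
  rw [sub_eq_add_neg, tmul_add ht, tmul_neg ht, ← sub_eq_add_neg]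

theorem mul_tmul (s : Γ(XA x B, up x B U)) (a : Fin n → Γ(X, U)) :
    s * tmul x t hU a = tmul x t hU (fun i => res x B U s * a i) := by
  rw [tmul_eq ht hU (a := fun i => res x B U s * a i) (fun i => s * Function.surjInv (res_props x B hU).1 (a i))
    (fun i => by rw [map_mul, Function.surjInv_eq (res_props x B hU).1]), tmul, Finset.mul_sum]
  exact Finset.sum_congr rfl fun i _ => by ring

theorem res_tmul (a : Fin n → Γ(X, U)) : res x B U (tmul x t hU a) = 0 := by
  rw [tmul, map_sum]
  refine Finset.sum_eq_zero fun i _ => ?_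
  have h : res x B U (sc x B U (t i)) = 0 := by
    rw [← RingHom.mem_ker, (res_props x B hU).2]
    exact Ideal.mem_map_of_mem _ (H24Art.ker_le_maximalIdeal p (ht.mem i))
  rw [map_mul, h, zero_mul]

theorem pm_tmul (a : Fin n → Γ(X, U)) : pm x p U (tmul x t hU a) = 0 := by
  rw [tmul, map_sum]
  refine Finset.sum_eq_zero fun i _ => ?_
  rw [map_mul, pm_sc, ht.mem, map_zero, zero_mul]

theorem exists_tmul (hp : Function.Surjective p) {s : Γ(XA x B, up x B U)} (hs : pm x p U s = 0) :
    ∃ a, s = tmul x t hU a := by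
  rw [← RingHom.mem_ker, (pm_props x p hp hU).2] at hs
  refine Submodule.span_induction (p := fun q _ => ∃ a, q = tmul x t hU a) ?_ ⟨0, (tmul_zero ht hU).symm⟩
    (fun a b _ _ ⟨u, hu⟩ ⟨v, hv⟩ => ⟨u + v, by rw [tmul_add ht, hu, hv]⟩)
    (fun a b _ ⟨u, hu⟩ => ⟨fun i => res x B U a * u i, by rw [smul_eq_mul, hu, mul_tmul ht]⟩) hs
  rintro _ ⟨j, hj, rfl⟩
  obtain ⟨c, rfl⟩ := ht.span j hj
  refine ⟨fun i => res x B U (sc x B U (c i)), ?_⟩
  rw [tmul_eq ht hU (fun i => sc x B U (c i)) (fun i => rfl), map_sum]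
  exact Finset.sum_congr rfl fun i _ => by rw [map_mul, mul_comm]

theorem rho_tmul {V : X.Opens} (hV : IsAffineOpen V) (h : V ≤ U) (a : Fin n → Γ(X, U)) :
    rho x B h (tmul x t hU a) = tmul x t hV (fun i => X.presheaf.map (homOfLE h).op (a i)) := by
  rw [tmul_eq ht hV (fun i => rho x B h (Function.surjInv (res_props x B hU).1 (a i))) (fun i => by
    rw [rho, res_map x B h, Function.surjInv_eq (res_props x B hU).1]), tmul, map_sum]
  exact Finset.sum_congr rfl fun i _ => by rw [map_mul, rho_sc]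

theorem tmul_mem_iff (I : (localHilb X x I₀).obj B) (a : Fin n → Γ(X, U)) :
    tmul x t hU a ∈ idl I hU ↔ ∀ i, a i ∈ I₀.ideal ⟨U, hU⟩ := by
  classical
  refine ⟨fun h i => ?_, fun h => ?_⟩
  · letI := (sc x B U).toAlgebra
    haveI := idl_flat I hU
    let J : Ideal B := Ideal.span (t '' {j | j ≠ i})
    have hcolon : ∀ c, c * t i ∈ J ↔ c ∈ maximalIdeal B := fun c => by
      refine ⟨fun hc => ?_, fun hc => by rw [ht.mul c hc i]; exact zero_mem _⟩
      obtain ⟨d, hd, hsum⟩ : ∃ d : Fin n → B, d i = 0 ∧ ∑ j, d j * t j = c * t i := by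
        refine Submodule.span_induction (p := fun q _ => ∃ d : Fin n → B, d i = 0 ∧ ∑ j, d j * t j = q) ?_
          ⟨0, rfl, by simp⟩
          (fun q q' _ _ ⟨d, hd, hq⟩ ⟨e, he, hq'⟩ => ⟨d + e, by simp [hd, he], by
            simp only [Pi.add_apply, add_mul, Finset.sum_add_distrib, hq, hq']⟩)
          (fun e q _ ⟨d, hd, hq⟩ => ⟨fun j => e * d j, by simp [hd], by
            simp only [mul_assoc, ← Finset.mul_sum, hq, smul_eq_mul]⟩) hc
        rintro _ ⟨j, hj, rfl⟩
        refine ⟨Pi.single j 1, Pi.single_eq_of_ne (Ne.symm hj) 1, ?_⟩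
        rw [Finset.sum_eq_single j (fun l _ hl => by simp [Pi.single_eq_of_ne hl]) (by simp)]
        simp
      have h0 : ∑ j, (Function.update d i (-c)) j * t j = 0 := by
        rw [← Finset.add_sum_erase _ _ (Finset.mem_univ i), Function.update_self,
          Finset.sum_congr rfl (g := fun j => d j * t j) fun j hj => by
            rw [Function.update_of_ne (Finset.ne_of_mem_erase hj)]]
        rw [← Finset.add_sum_erase _ _ (Finset.mem_univ i), hd, zero_mul, zero_add] at hsum
        rw [hsum, neg_mul, neg_add_cancel]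
      have := ht.indep _ h0 i
      rw [Function.update_self] at this
      exact neg_mem_iff.1 this
    let q := Ideal.Quotient.mk (idl I hU)
    let r := Function.surjInv (res_props x B hU).1 (a i)
    have h1 : algebraMap B (Γ(XA x B, up x B U) ⧸ idl I hU) (t i) * q r ∈ J.map (algebraMap B _) := by
      have h2 : ∑ j, q (sc x B U (t j)) * q (Function.surjInv (res_props x B hU).1 (a j)) = 0 := by
        simp only [← map_mul, ← map_sum]
        exact Ideal.Quotient.eq_zero_iff_mem.2 h
      rw [← Finset.add_sum_erase _ _ (Finset.mem_univ i), add_eq_zero_iff_eq_neg] at h2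
      show q (sc x B U (t i)) * q r ∈ _
      rw [h2]
      refine neg_mem (Ideal.sum_mem _ fun j hj => Ideal.mul_mem_right _ _ ?_)
      exact Ideal.mem_map_of_mem _ (Ideal.subset_span ⟨j, Finset.ne_of_mem_erase hj, rfl⟩)
    have h3 := H24Def.mem_map_of_mul_mem_map hcolon h1
    rw [IsScalarTower.algebraMap_eq B Γ(XA x B, up x B U), ← Ideal.map_map] at h3
    obtain ⟨z, hz, hzr⟩ := (Ideal.mem_map_iff_of_surjective _ Ideal.Quotient.mk_surjective).1 h3
    have h4 : res x B U (r - z) ∈ I₀.ideal ⟨U, hU⟩ := idl_res I hU ▸ Ideal.mem_map_of_mem _ (Ideal.Quotient.eq.1 hzr.symm)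
    have h5 : res x B U z = 0 := by
      rw [← RingHom.mem_ker, (res_props x B hU).2]; exact hz
    rwa [map_sub, h5, sub_zero, Function.surjInv_eq (res_props x B hU).1] at h4
  · have h' : ∀ i, ∃ z ∈ idl I hU, res x B U z = a i := fun i =>
      (Ideal.mem_map_iff_of_surjective _ (res_props x B hU).1).1 ((idl_res I hU).symm ▸ h i)
    choose z hz hza using h'
    rw [tmul_eq ht hU z hza]
    exact Ideal.sum_mem _ fun i _ => Ideal.mul_mem_left _ _ (hz i)

end Groth.Agent.H24Hilb
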