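import Groth.Agent.H24Hilb.Tmul
import Groth.Agent.H28Def.Lift
import Groth.Agent.H29Blow.IdealMod
import Groth.Agent.H11Sym.BundleCanon

/-!
# Liftings of embedded deformations along semismall extensions
-/

set_option autoImplicit false
set_option linter.style.haveILetI false
universe u
open CategoryTheory CategoryTheory.Limits AlgebraicGeometry IsLocalRing ArtFun ArtFun.Art

namespace Groth.Agent.H24Hilb

variable {k : Type u} [Field k] {X : Scheme.{u}} {x : X ⟶ specPt k} {I₀ : X.IdealSheafData}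
  {B A : Art k k} {p : B ⟶ A} {n : ℕ} {t : Fin n → B}

variable (I₀) in
/-- The quotient map on sections. -/
noncomputable def qt (U : X.Opens) : Γ(X, U) →+ Γ(ClSub.quotMod I₀, U) := ((ClSub.toSubscheme I₀).app U).hom

theorem qt_eq_zero_iff {U : X.Opens} (hU : IsAffineOpen U) (b : Γ(X, U)) :
    qt I₀ U b = 0 ↔ b ∈ I₀.ideal ⟨U, hU⟩ := by
  rw [← I₀.ker_subschemeι_app ⟨U, hU⟩]
  rfl

theorem qt_surjective {U : X.Opens} (hU : IsAffineOpen U) : Function.Surjective (qt I₀ U) :=
  fun y => I₀.subschemeι.app_surjective U hU y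

theorem qt_smul {U : X.Opens} (r b : Γ(X, U)) : qt I₀ U (r * b) = r • qt I₀ U b :=
  (ClSub.toSubscheme I₀).app_smul r b

theorem qt_res {U V : X.Opens} (h : V ≤ U) (b : Γ(X, U)) :
    qt I₀ V (X.presheaf.map (homOfLE h).op b) = (ClSub.quotMod I₀).presheaf.map (homOfLE h).op (qt I₀ U b) :=
  H11Tilde.app_map_apply (ClSub.toSubscheme I₀) h b

variable (t) in
/-- `I₂` differs from `I₁` by the family `φ`. -/
def Rel (φ : Fin n → (ClSub.idealMod I₀ ⟶ ClSub.quotMod I₀)) (I₁ I₂ : (localHilb X x I₀).obj B) : Prop :=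
  ∀ (U : X.Opens) (hU : IsAffineOpen U), ∀ y ∈ idl I₁ hU, ∀ (m : Γ(ClSub.idealMod I₀, U)) (a : Fin n → Γ(X, U)),
    OmegaSh.idealSect I₀ U m = res x B U y → (∀ i, qt I₀ U (a i) = (φ i).app U m) →
      y - tmul x t hU a ∈ idl I₂ hU

theorem exists_data (φ : Fin n → (ClSub.idealMod I₀ ⟶ ClSub.quotMod I₀)) (I : (localHilb X x I₀).obj B)
    {U : X.Opens} (hU : IsAffineOpen U) {y : Γ(XA x B, up x B U)} (hy : y ∈ idl I hU) :
    ∃ (m : Γ(ClSub.idealMod I₀, U)) (a : Fin n → Γ(X, U)),
      OmegaSh.idealSect I₀ U m = res x B U y ∧ ∀ i, qt I₀ U (a i) = (φ i).app U m := by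
  obtain ⟨m, hm⟩ := (H29Blow.mem_ideal_iff_exists_idealSect I₀ hU _).1
    (idl_res I hU ▸ Ideal.mem_map_of_mem (res x B U) hy)
  choose a ha using fun i => qt_surjective hU ((φ i).app U m)
  exact ⟨m, a, hm, ha⟩

variable (ht : IsKerBasis p t) (hp : Function.Surjective p)

include ht hp

theorem exists_sub_mem {I₁ I₂ : (localHilb X x I₀).obj B}
    (he : (localHilb X x I₀).map p I₁ = (localHilb X x I₀).map p I₂) {U : X.Opens} (hU : IsAffineOpen U)
    {y : Γ(XA x B, up x B U)} (hy : y ∈ idl I₁ hU) : ∃ b, y - tmul x t hU b ∈ idl I₂ hU := by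
  have hmem : pm x p U y ∈ (idl I₂ hU).map (pm x p U) := by
    rw [← idl_map, ← he, idl_map]
    exact Ideal.mem_map_of_mem _ hy
  obtain ⟨y', hy', hyy⟩ := (Ideal.mem_map_iff_of_surjective _ (pm_props x p hp hU).1).1 hmem
  obtain ⟨b, hb⟩ := exists_tmul ht hU hp (s := y - y') (by rw [map_sub, hyy, sub_self])
  exact ⟨b, by rw [← hb, sub_sub_cancel]; exact hy'⟩

theorem mem_of_res_eq_zero {I₁ I₂ : (localHilb X x I₀).obj B}
    (he : (localHilb X x I₀).map p I₁ = (localHilb X x I₀).map p I₂) {U : X.Opens} (hU : IsAffineOpen U)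
    {y : Γ(XA x B, up x B U)} (hy : y ∈ idl I₁ hU) (h0 : res x B U y = 0) : y ∈ idl I₂ hU := by
  refine Submodule.mul_induction_on (C := fun z => z ∈ idl I₂ hU) (mem_maximal_mul I₁ hU hy h0) ?_
    (fun _ _ => add_mem)
  intro q hq z hz
  obtain ⟨b, hb⟩ := exists_sub_mem ht hp he hU hz
  have hq0 : res x B U q = 0 := by
    rw [← RingHom.mem_ker, (res_props x B hU).2]; exact hq
  have h1 : q * (z - tmul x t hU b) = q * z := by
    rw [mul_sub, mul_tmul ht]
    simp only [hq0, zero_mul]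
    rw [show (fun _ : Fin n => (0 : Γ(X, U))) = 0 from rfl, tmul_zero ht, sub_zero]
  exact h1 ▸ Ideal.mul_mem_left _ _ hb

theorem exists_rel (I₁ I₂ : (localHilb X x I₀).obj B)
    (he : (localHilb X x I₀).map p I₁ = (localHilb X x I₀).map p I₂) : ∃ φ, Rel t φ I₁ I₂ := by
  let R : ∀ (U : X.Opens) (_ : IsAffineOpen U), Γ(X, U) → (Fin n → Γ(X, U)) → Prop := fun U hU a b =>
    ∃ y ∈ idl I₁ hU, res x B U y = a ∧ y - tmul x t hU b ∈ idl I₂ hU
  have htot : ∀ U hU, ∀ a ∈ I₀.ideal ⟨U, hU⟩, ∃ b, R U hU a b := by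
    intro U hU a ha
    rw [← idl_res I₁ hU] at ha
    obtain ⟨y, hy, hya⟩ := (Ideal.mem_map_iff_of_surjective _ (res_props x B hU).1).1 ha
    obtain ⟨b, hb⟩ := exists_sub_mem ht hp he hU hy
    exact ⟨b, y, hy, hya, hb⟩
  have hadd : ∀ U hU a a' b b', R U hU a b → R U hU a' b' → R U hU (a + a') (b + b') := by
    rintro U hU a a' b b' ⟨y, hy, ha, hb⟩ ⟨y', hy', ha', hb'⟩
    refine ⟨y + y', add_mem hy hy', by rw [map_add, ha, ha'], ?_⟩
    rw [tmul_add ht, add_sub_add_comm]
    exact add_mem hb hb'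
  have hsmul : ∀ U hU c a b, R U hU a b → R U hU (c * a) (fun i => c * b i) := by
    rintro U hU c a b ⟨y, hy, ha, hb⟩
    obtain ⟨c, rfl⟩ := (res_props x B hU).1 c
    refine ⟨c * y, Ideal.mul_mem_left _ _ hy, by rw [map_mul, ha], ?_⟩
    rw [← mul_tmul ht, ← mul_sub]
    exact Ideal.mul_mem_left _ _ hb
  have hwd : ∀ U hU a b b', R U hU a b → R U hU a b' → ∀ i, qt I₀ U (b i) = qt I₀ U (b' i) := by
    intro U hU a b b' h1 h2 i
    obtain ⟨y, hy, ha, hb⟩ := hadd U hU _ _ _ _ h1 (hsmul U hU (-1) _ _ h2)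
    have h := sub_mem (mem_of_res_eq_zero ht hp he hU hy (by rw [ha]; ring)) hb
    rw [sub_sub_cancel] at h
    have h3 := (qt_eq_zero_iff hU _).2 ((tmul_mem_iff ht hU I₂ _).1 h i)
    rw [Pi.add_apply, show b i + -1 * b' i = b i - b' i by ring, map_sub, sub_eq_zero] at h3
    exact h3
  have hval : ∀ U hU (m : Γ(ClSub.idealMod I₀, U)), ∃ b, R U hU (OmegaSh.idealSect I₀ U m) b := fun U hU m =>
    htot U hU _ ((H29Blow.mem_ideal_iff_exists_idealSect I₀ hU _).2 ⟨m, rfl⟩)
  choose β hβ using hval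
  have key : ∀ i, ∃ j : ClSub.idealMod I₀ ⟶ ClSub.quotMod I₀,
      ∀ U hU m, j.app U m = qt I₀ U (β U hU m i) := by
    intro i
    let f : ∀ (U : X.Opens), IsAffineOpen U → (Γ(ClSub.idealMod I₀, U) →+ Γ(ClSub.quotMod I₀, U)) := fun U hU =>
      { toFun := fun m => qt I₀ U (β U hU m i)
        map_zero' := by
          have h0 : R U hU (OmegaSh.idealSect I₀ U 0) 0 :=
            ⟨0, zero_mem _, by rw [map_zero, map_zero], by rw [tmul_zero ht, sub_zero]; exact zero_mem _⟩
          rw [hwd U hU _ _ _ (hβ U hU 0) h0 i, Pi.zero_apply, map_zero]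
        map_add' := fun m m' => by
          have h := hadd U hU _ _ _ _ (hβ U hU m) (hβ U hU m')
          rw [← map_add] at h
          rw [hwd U hU _ _ _ (hβ U hU (m + m')) h i, Pi.add_apply, map_add] }
    refine H11Sym.exists_hom_of_affine _ _ f (fun U hU r m => ?_) (fun U hU r m => ?_)
    · have h := hsmul U hU r _ _ (hβ U hU m)
      rw [← H29Blow.idealSect_smul] at h
      show qt I₀ U (β U hU (r • m) i) = r • qt I₀ U (β U hU m i)
      rw [hwd U hU _ _ _ (hβ U hU (r • m)) h i]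
      exact qt_smul r _
    · have hle : X.basicOpen r ≤ U := X.basicOpen_le r
      obtain ⟨y, hy, ha, hb⟩ := hβ U hU m
      have h : R _ (hU.basicOpen r) (OmegaSh.idealSect I₀ _ ((ClSub.idealMod I₀).presheaf.map (homOfLE hle).op m))
          (fun i => X.presheaf.map (homOfLE hle).op (β U hU m i)) := by
        refine ⟨_, idl_restrict I₁ hU (hU.basicOpen r) hle hy, ?_, ?_⟩
        · rw [res_map x B hle, ha, H29Blow.idealSect_res]
        · rw [← rho_tmul ht hU (hU.basicOpen r) hle, rho, ← map_sub]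
          exact idl_restrict I₂ hU (hU.basicOpen r) hle hb
      show qt I₀ _ (β _ _ _ i) = _
      rw [hwd _ _ _ _ _ (hβ _ (hU.basicOpen r) _) h i]
      exact qt_res hle _
  choose φ hφ using key
  refine ⟨φ, fun U hU y hy m a hm ha => ?_⟩
  obtain ⟨b, hb⟩ := exists_sub_mem ht hp he hU hy
  have hR : R U hU (OmegaSh.idealSect I₀ U m) b := ⟨y, hy, hm.symm, hb⟩
  have h2 : tmul x t hU (b - a) ∈ idl I₂ hU := (tmul_mem_iff ht hU I₂ _).2 fun i => by
    rw [← qt_eq_zero_iff hU, Pi.sub_apply, map_sub, ha i, hφ i U hU m, hwd U hU _ _ _ hR (hβ U hU m) i, sub_self]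
  have h3 := add_mem hb h2
  rw [tmul_sub ht] at h3
  convert h3 using 1
  abel

theorem rel_unique_right {φ : Fin n → (ClSub.idealMod I₀ ⟶ ClSub.quotMod I₀)}
    {I I₂ I₂' : (localHilb X x I₀).obj B} (he : (localHilb X x I₀).map p I = (localHilb X x I₀).map p I₂)
    (he' : (localHilb X x I₀).map p I = (localHilb X x I₀).map p I₂')
    (h : Rel t φ I I₂) (h' : Rel t φ I I₂') : I₂ = I₂' := by
  have key : ∀ {J J' : (localHilb X x I₀).obj B}, (localHilb X x I₀).map p J = (localHilb X x I₀).map p I →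
      Rel t φ I J → Rel t φ I J' → ∀ U (hU : IsAffineOpen U), idl J hU ≤ idl J' hU := by
    intro J J' heJ hJ hJ' U hU z hz
    obtain ⟨b, hb⟩ := exists_sub_mem ht hp heJ hU hz
    obtain ⟨m, a, hm, ha⟩ := exists_data φ I hU hb
    have h1 := hJ U hU _ hb m a hm ha
    have h2 := hJ' U hU _ hb m a hm ha
    have h3 : tmul x t hU (b + a) ∈ idl J hU := by
      have := sub_mem hz h1
      rw [tmul_add ht]
      convert this using 1
      abel
    have h4 := add_mem h2 ((tmul_mem_iff ht hU J' _).2 ((tmul_mem_iff ht hU J _).1 h3))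
    rw [tmul_add ht] at h4
    convert h4 using 1
    abel
  exact eq_of_idl fun U hU => le_antisymm (key he.symm h h' U hU) (key he'.symm h' h U hU)

theorem rel_unique_left {φ φ' : Fin n → (ClSub.idealMod I₀ ⟶ ClSub.quotMod I₀)}
    {I I₂ : (localHilb X x I₀).obj B} (h : Rel t φ I I₂) (h' : Rel t φ' I I₂) : φ = φ' := by
  funext i
  refine Scheme.Modules.hom_ext _ _ fun O => ConcreteCategory.hom_ext _ _ fun m₀ => ?_
  refine H11Tilde.eq_of_locally _ _ fun v hv => ?_
  obtain ⟨U, hU, hvU, hle₀⟩ := exists_isAffineOpen_mem_and_subset (U := O) hv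
  have hle : U ≤ O := hle₀
  refine ⟨U, hle, hvU, ?_⟩
  rw [← H11Tilde.app_map_apply, ← H11Tilde.app_map_apply]
  generalize (ClSub.idealMod I₀).presheaf.map (homOfLE hle).op m₀ = m
  have hm := (H29Blow.mem_ideal_iff_exists_idealSect I₀ hU (OmegaSh.idealSect I₀ U m)).2 ⟨m, rfl⟩
  rw [← idl_res I hU] at hm
  obtain ⟨y, hy, hya⟩ := (Ideal.mem_map_iff_of_surjective _ (res_props x B hU).1).1 hm
  choose a ha using fun j => qt_surjective hU ((φ j).app U m)
  choose a' ha' using fun j => qt_surjective hU ((φ' j).app U m)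
  have h1 := sub_mem (h' U hU y hy m a' hya.symm ha') (h U hU y hy m a hya.symm ha)
  rw [sub_sub_sub_cancel_left, ← tmul_sub ht] at h1
  have h2 := (qt_eq_zero_iff hU _).2 ((tmul_mem_iff ht hU I₂ _).1 h1 i)
  rw [Pi.sub_apply, map_sub, ha, ha', sub_eq_zero] at h2
  exact h2

theorem exists_of_rel (φ : Fin n → (ClSub.idealMod I₀ ⟶ ClSub.quotMod I₀)) (I : (localHilb X x I₀).obj B) :
    ∃ I₂, (localHilb X x I₀).map p I = (localHilb X x I₀).map p I₂ ∧ Rel t φ I I₂ := by
  let J : ∀ U : X.Opens, IsAffineOpen U → Ideal Γ(XA x B, up x B U) := fun U hU =>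
    { carrier := {z | ∃ y ∈ idl I hU, ∃ (m : Γ(ClSub.idealMod I₀, U)) (a : Fin n → Γ(X, U)),
        OmegaSh.idealSect I₀ U m = res x B U y ∧ (∀ i, qt I₀ U (a i) = (φ i).app U m) ∧ z = y - tmul x t hU a}
      zero_mem' := ⟨0, zero_mem _, 0, 0, by rw [map_zero, map_zero], fun i => by
        rw [Pi.zero_apply, map_zero, map_zero], by rw [tmul_zero ht, sub_zero]⟩
      add_mem' := by
        rintro _ _ ⟨y, hy, m, a, hm, ha, rfl⟩ ⟨y', hy', m', a', hm', ha', rfl⟩
        exact ⟨y + y', add_mem hy hy', m + m', a + a', by rw [map_add, map_add, hm, hm'],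
          fun i => by rw [Pi.add_apply, map_add, map_add, ha, ha'],
          by rw [tmul_add ht, add_sub_add_comm]⟩
      smul_mem' := by
        rintro c _ ⟨y, hy, m, a, hm, ha, rfl⟩
        exact ⟨c * y, Ideal.mul_mem_left _ _ hy, res x B U c • m, fun i => res x B U c * a i,
          by rw [H29Blow.idealSect_smul, hm, map_mul],
          fun i => by rw [qt_smul, ha]; exact ((φ i).app_smul _ _).symm,
          by rw [smul_eq_mul, mul_sub, mul_tmul ht]⟩ }
  have hin : ∀ U hU, ∀ y ∈ idl I hU, ∃ b, y - tmul x t hU b ∈ J U hU := fun U hU y hy => by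
    obtain ⟨m, a, hm, ha⟩ := exists_data φ I hU hy
    exact ⟨a, y, hy, m, a, hm, ha, rfl⟩
  have hmap : ∀ U hU, (J U hU).map (pm x p U) = (idl I hU).map (pm x p U) := by
    intro U hU
    refine le_antisymm (Ideal.map_le_iff_le_comap.2 ?_) (Ideal.map_le_iff_le_comap.2 fun y hy => ?_)
    · rintro _ ⟨y, hy, m, a, -, -, rfl⟩
      rw [Ideal.mem_comap, map_sub, pm_tmul ht, sub_zero]
      exact Ideal.mem_map_of_mem _ hy
    · obtain ⟨b, hb⟩ := hin U hU y hy
      have := Ideal.mem_map_of_mem (pm x p U) hb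
      rw [map_sub, pm_tmul ht, sub_zero] at this
      exact this
  have hres : ∀ U hU, (J U hU).map (res x B U) = I₀.ideal ⟨U, hU⟩ := by
    intro U hU
    refine le_antisymm (Ideal.map_le_iff_le_comap.2 ?_) fun v hv => ?_
    · rintro _ ⟨y, hy, m, a, -, -, rfl⟩
      rw [Ideal.mem_comap, map_sub, res_tmul ht, sub_zero, ← idl_res I hU]
      exact Ideal.mem_map_of_mem _ hy
    · rw [← idl_res I hU] at hv
      obtain ⟨y, hy, rfl⟩ := (Ideal.mem_map_iff_of_surjective _ (res_props x B hU).1).1 hv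
      obtain ⟨b, hb⟩ := hin U hU y hy
      have := Ideal.mem_map_of_mem (res x B U) hb
      rw [map_sub, res_tmul ht, sub_zero] at this
      exact this
  have hT : ∀ U hU, ∀ z ∈ idl I hU, ∀ i, sc x B U (t i) * z ∈ J U hU := by
    intro U hU z hz i
    refine ⟨_, Ideal.mul_mem_left _ _ hz, 0, 0, ?_, fun j => by rw [Pi.zero_apply, map_zero, map_zero],
      by rw [tmul_zero ht, sub_zero]⟩
    have h : res x B U (sc x B U (t i)) = 0 := by
      rw [← RingHom.mem_ker, (res_props x B hU).2]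
      exact Ideal.mem_map_of_mem _ (H24Art.ker_le_maximalIdeal p (ht.mem i))
    rw [map_zero, map_mul, h, zero_mul]
  have hflat : ∀ U hU, letI := (sc x B U).toAlgebra; Module.Flat B (Γ(XA x B, up x B U) ⧸ J U hU) := by
    intro U hU
    letI := (sc x B U).toAlgebra
    letI := (sc x A U).toAlgebra
    haveI : Module.Flat B Γ(XA x B, up x B U) :=
      haveI := flat_XApr x B
      RingHom.flat_algebraMap_iff.mp (H24Def.flat_scalar (XApr x B) (isAffineOpen_up x B hU))
    let Ib := (localHilb X x I₀).map p I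
    haveI := idl_flat Ib hU
    have hle : J U hU ≤ (idl Ib hU).comap (pm x p U) := by
      rw [← Ideal.map_le_iff_le_comap, hmap, idl_map]
    let φ' : Γ(XA x B, up x B U) ⧸ J U hU →+* Γ(XA x A, up x A U) ⧸ idl Ib hU := Ideal.quotientMap _ _ hle
    have hφs : Function.Surjective φ' := by
      intro z
      obtain ⟨z, rfl⟩ := Ideal.Quotient.mk_surjective z
      obtain ⟨s, rfl⟩ := (pm_props x p hp hU).1 z
      exact ⟨Ideal.Quotient.mk _ s, rfl⟩
    refine H28Def.flat_of_lift p.toAlgHom.toRingHom hp (RingHom.ker_ne_top _) φ' hφs (fun c => ?_) ?_ ?_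
    · show Ideal.Quotient.mk _ (pm x p U (sc x B U c)) = _
      rw [pm_sc]
      rfl
    · rw [IsScalarTower.algebraMap_eq B Γ(XA x B, up x B U), ← Ideal.map_map]
      refine le_antisymm (fun z hz => ?_) (Ideal.map_le_iff_le_comap.2 fun w hw => ?_)
      · obtain ⟨s, rfl⟩ := Ideal.Quotient.mk_surjective z
        have hs : pm x p U s ∈ (J U hU).map (pm x p U) := by
          rw [hmap, ← idl_map]
          exact Ideal.Quotient.eq_zero_iff_mem.1 hz
        obtain ⟨y, hy, hys⟩ := (Ideal.mem_map_iff_of_surjective _ (pm_props x p hp hU).1).1 hs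
        have hd : s - y ∈ (RingHom.ker p.toAlgHom.toRingHom).map (sc x B U) :=
          (pm_props x p hp hU).2 ▸ (show pm x p U (s - y) = 0 by rw [map_sub, hys, sub_self])
        rw [show Ideal.Quotient.mk (J U hU) s = Ideal.Quotient.mk (J U hU) (s - y) from
          Ideal.Quotient.eq.2 (by rw [sub_sub_cancel]; exact hy)]
        exact Ideal.mem_map_of_mem _ hd
      · show Ideal.Quotient.mk _ (pm x p U w) = 0
        have : pm x p U w = 0 := by
          rw [← RingHom.mem_ker, (pm_props x p hp hU).2]; exact hw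
        rw [this, map_zero]
    · refine H28Def.lTensor_quotient_ideal_injective (J U hU) _ fun s hsJ hsK => ?_
      obtain ⟨y, hy, m, a, hm, ha, rfl⟩ := hsJ
      have h0 : pm x p U (y - tmul x t hU a) = 0 := by
        rw [← RingHom.mem_ker, (pm_props x p hp hU).2]; exact hsK
      rw [map_sub, pm_tmul ht, sub_zero] at h0
      obtain ⟨c, rfl⟩ := exists_tmul ht hU hp h0
      have hc := (tmul_mem_iff ht hU I c).1 hy
      have hm0 : m = 0 := H29Blow.idealSect_injective I₀ U (by rw [hm, res_tmul ht, map_zero])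
      have hd : ∀ i, ∃ z ∈ J U hU, res x B U z = (c - a) i := fun i => by
        refine (Ideal.mem_map_iff_of_surjective _ (res_props x B hU).1).1 ?_
        rw [hres U hU]
        refine sub_mem (hc i) ((qt_eq_zero_iff hU _).1 ?_)
        rw [ha, hm0, map_zero]
      choose z hz hzc using hd
      rw [← tmul_sub ht, tmul_eq ht hU z hzc]
      exact Ideal.sum_mem _ fun i _ => Ideal.mul_mem_mul (Ideal.mem_map_of_mem _ (ht.mem i)) (hz i)
  have hloc : ∀ (U : X.Opens) (hU : IsAffineOpen U) (r : Γ(X, U)),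
      (J U hU).map (rho x B (X.basicOpen_le r)) = J _ (hU.basicOpen r) := by
    intro U hU r
    have hle := X.basicOpen_le r
    have hV := hU.basicOpen r
    refine le_antisymm (Ideal.map_le_iff_le_comap.2 ?_) ?_
    · rintro _ ⟨y, hy, m, a, hm, ha, rfl⟩
      refine ⟨_, idl_restrict I hU hV hle hy, (ClSub.idealMod I₀).presheaf.map (homOfLE hle).op m,
        fun i => X.presheaf.map (homOfLE hle).op (a i), ?_, fun i => ?_, ?_⟩
      · rw [H29Blow.idealSect_res, res_map x B hle, hm]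
      · rw [qt_res, ha]
        exact (H11Tilde.app_map_apply (φ i) hle m).symm
      · rw [map_sub, rho_tmul ht hU hV hle]
    · rintro _ ⟨y, hy, m, a, hm, ha, rfl⟩
      obtain ⟨g, hgr, hgu, hnum, hden⟩ := exists_num x B hU r
      obtain ⟨N, y', hy'⟩ := hnum y
      have h1 : rho x B hle y' ∈ (idl I hU).map (rho x B hle) := by
        rw [idl_rho I hU hV, ← hy']
        exact Ideal.mul_mem_right _ _ hy
      obtain ⟨e, he⟩ := hden _ _ h1
      obtain ⟨m₁, a₁, hm₁, ha₁⟩ := exists_data φ I hU he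
      have hρy : rho x B hle (g ^ e * y') = y * rho x B hle g ^ (e + N) := by
        rw [map_mul, map_pow, ← hy', pow_add]; ring
      let c := res x B (X.basicOpen r) (rho x B hle g ^ (e + N))
      have hd : ∀ i, c * a i - X.presheaf.map (homOfLE hle).op (a₁ i) ∈ I₀.ideal ⟨_, hV⟩ := by
        intro i
        have hmm : (ClSub.idealMod I₀).presheaf.map (homOfLE hle).op m₁ = c • m := by
          refine H29Blow.idealSect_injective I₀ _ ?_
          rw [H29Blow.idealSect_res, hm₁, ← res_map x B hle, H29Blow.idealSect_smul, hm]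
          show res x B (X.basicOpen r) (rho x B hle (g ^ e * y')) = _
          rw [hρy, map_mul, mul_comm]
        rw [← qt_eq_zero_iff hV, map_sub, qt_smul, ha, qt_res, ha₁]
        rw [← H11Tilde.app_map_apply (φ i) hle m₁, hmm, (φ i).app_smul]
        exact sub_self _
      have hd' : ∀ i, ∃ z ∈ idl I hV, res x B _ z = c * a i - X.presheaf.map (homOfLE hle).op (a₁ i) := fun i =>
        (Ideal.mem_map_iff_of_surjective _ (res_props x B hV).1).1 ((idl_res I hV).symm ▸ hd i)
      choose z hz hzd using hd'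
      have h2 : (y - tmul x t hV a) * rho x B hle g ^ (e + N) =
          rho x B hle (g ^ e * y' - tmul x t hU a₁) - ∑ i, sc x B _ (t i) * z i := by
        rw [map_sub, rho_tmul ht hU hV hle, hρy, ← tmul_eq ht hV z hzd, sub_mul, mul_comm (tmul x t hV a),
          mul_tmul ht, sub_sub, ← tmul_add ht]
        congr 2
        funext i
        show c * a i = X.presheaf.map (homOfLE hle).op (a₁ i) + (c * a i - _)
        ring
      refine (Ideal.mul_unit_mem_iff_mem _ (hgu.pow (e + N))).1 ?_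
      rw [h2]
      refine sub_mem (Ideal.mem_map_of_mem _ ⟨_, he, m₁, a₁, hm₁, ha₁, rfl⟩) (Ideal.sum_mem _ fun i _ => ?_)
      have hzi : z i ∈ (idl I hU).map (rho x B hle) := by
        rw [idl_rho I hU hV hle]
        exact hz i
      refine Submodule.span_induction (p := fun q _ => sc x B (X.basicOpen r) (t i) * q ∈ (J U hU).map (rho x B hle))
        ?_ (by rw [mul_zero]; exact zero_mem _) (fun q q' _ _ h h' => by rw [mul_add]; exact add_mem h h')
        (fun q q' _ h => by rw [smul_eq_mul, mul_left_comm]; exact Ideal.mul_mem_left _ _ h) hzi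
      rintro _ ⟨w, hw, rfl⟩
      rw [← rho_sc x B hle, ← map_mul]
      exact Ideal.mem_map_of_mem _ (hT U hU w hw i)
  obtain ⟨I₂, hI₂⟩ := exists_of_up (x := x) B J hloc hres hflat
  refine ⟨I₂, eq_of_idl fun U hU => ?_, fun U hU y hy m a hm ha => ?_⟩
  · rw [idl_map, idl_map, hI₂, hmap]
  · rw [hI₂]
    exact ⟨y, hy, m, a, hm, ha, rfl⟩

/-- The liftings of an embedded deformation form a torsor. -/
theorem nonempty_fibreEquiv (I : (localHilb X x I₀).obj A) (I' : (localHilb X x I₀).obj B)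
    (hI' : (localHilb X x I₀).map p I' = I) :
    Nonempty ({J : (localHilb X x I₀).obj B // (localHilb X x I₀).map p J = I} ≃
      (Fin n → (ClSub.idealMod I₀ ⟶ ClSub.quotMod I₀))) := by
  choose φ hφ using fun J : {J : (localHilb X x I₀).obj B // (localHilb X x I₀).map p J = I} =>
    exists_rel ht hp I' J.1 (hI'.trans J.2.symm)
  refine ⟨Equiv.ofBijective φ ⟨fun J J' e => Subtype.ext ?_, fun ψ => ?_⟩⟩
  · exact rel_unique_right ht hp (hI'.trans J.2.symm) (hI'.trans J'.2.symm) (hφ J) (e ▸ hφ J')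
  · obtain ⟨J, hJ, hrel⟩ := exists_of_rel ht hp ψ I'
    exact ⟨⟨J, hJ.symm.trans hI'⟩, rel_unique_left ht hp (hφ _) hrel⟩

end Groth.Agent.H24Hilb
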